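import Mathlib
set_option linter.all false

/-!
# Orders of `C(s) ∩ C(x)`, `s` an involution, `x` of odd prime order

`card_inf_dvd`: through a quotient; `card_fix`: fixed points on a normal 2-subgroup; `not_dvd_of_inv`: the 2-part of
`|C(x)|` from the involutions of `C(x)`; `Bd p s`: `|C(s) ∩ C(x)|` divides `32 p^n` for all `x` of order `p` in `C(s)`.
-/

set_option autoImplicit false

namespace Cfsg.Agent.BpSpor.Cen

open Subgroup

variable {K : Type*} [Group K]

/-- `C(g t g⁻¹) ∩ C(x)` is conjugate to `C(t) ∩ C(g⁻¹ x g)` -/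
theorem card_inf_conj (g x t : K) :
    Nat.card ↥(centralizer ({g * t * g⁻¹} : Set K) ⊓ centralizer ({x} : Set K)) =
      Nat.card ↥(centralizer ({t} : Set K) ⊓ centralizer ({g⁻¹ * x * g} : Set K)) := by
  refine Nat.card_congr ((MulAut.conj g⁻¹).toEquiv.subtypeEquiv fun y => ?_)
  change y ∈ centralizer ({g * t * g⁻¹} : Set K) ⊓ centralizer ({x} : Set K) ↔
    g⁻¹ * y * g⁻¹⁻¹ ∈ centralizer ({t} : Set K) ⊓ centralizer ({g⁻¹ * x * g} : Set K)
  rw [mem_inf, mem_inf, mem_centralizer_singleton_iff, mem_centralizer_singleton_iff,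
    mem_centralizer_singleton_iff, mem_centralizer_singleton_iff, inv_inv]
  constructor
  · rintro ⟨h1, h2⟩
    constructor
    · calc g⁻¹ * y * g * t = g⁻¹ * (y * (g * t * g⁻¹)) * g := by group
        _ = g⁻¹ * (g * t * g⁻¹ * y) * g := by rw [h1]
        _ = t * (g⁻¹ * y * g) := by group
    · calc g⁻¹ * y * g * (g⁻¹ * x * g) = g⁻¹ * (y * x) * g := by group
        _ = g⁻¹ * (x * y) * g := by rw [h2]
        _ = g⁻¹ * x * g * (g⁻¹ * y * g) := by group
  · rintro ⟨h1, h2⟩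
    constructor
    · calc y * (g * t * g⁻¹) = g * (g⁻¹ * y * g * t) * g⁻¹ := by group
        _ = g * (t * (g⁻¹ * y * g)) * g⁻¹ := by rw [h1]
        _ = g * t * g⁻¹ * y := by group
    · calc y * x = g * (g⁻¹ * y * g * (g⁻¹ * x * g)) * g⁻¹ := by group
        _ = g * (g⁻¹ * x * g * (g⁻¹ * y * g)) * g⁻¹ := by rw [h2]
        _ = x * y := by group

/-- `|C(s) ∩ C(x)|` divides `32 p ^ n` for all `x` of order `p` commuting with `s` -/
def Bd (p : ℕ) (s : K) : Prop :=
  ∀ x : K, orderOf x = p → x * s = s * x →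
    ∃ n, Nat.card ↥(centralizer ({s} : Set K) ⊓ centralizer ({x} : Set K)) ∣ 32 * p ^ n

theorem Bd.conj {p : ℕ} {s t : K} (h : Bd p s) (hst : IsConj s t) : Bd p t := by
  obtain ⟨g, rfl⟩ := isConj_iff.1 hst
  intro x hx hxt
  have h1 : orderOf (g⁻¹ * x * g) = p := by
    rw [← hx]
    have := (MulAut.conj g⁻¹).orderOf_eq x
    rw [MulAut.conj_apply, inv_inv] at this
    exact this
  obtain ⟨n, hn⟩ := h (g⁻¹ * x * g) h1 (by
    calc g⁻¹ * x * g * s = g⁻¹ * (x * (g * s * g⁻¹)) * g := by group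
      _ = g⁻¹ * (g * s * g⁻¹ * x) * g := by rw [hxt]
      _ = s * (g⁻¹ * x * g) := by group)
  exact ⟨n, by rw [card_inf_conj]; exact hn⟩

/-- transport of `64 ∤ |C(s) ∩ C(x)|` -/
def Bd2 (p : ℕ) (s : K) : Prop :=
  ∀ x : K, orderOf x = p → x * s = s * x →
    ¬ 64 ∣ Nat.card ↥(centralizer ({s} : Set K) ⊓ centralizer ({x} : Set K))

theorem Bd2.conj {p : ℕ} {s t : K} (h : Bd2 p s) (hst : IsConj s t) : Bd2 p t := by
  obtain ⟨g, rfl⟩ := isConj_iff.1 hst
  intro x hx hxt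
  have h1 : orderOf (g⁻¹ * x * g) = p := by
    rw [← hx]
    have := (MulAut.conj g⁻¹).orderOf_eq x
    rw [MulAut.conj_apply, inv_inv] at this
    exact this
  rw [card_inf_conj]
  refine h (g⁻¹ * x * g) h1 ?_
  calc g⁻¹ * x * g * s = g⁻¹ * (x * (g * s * g⁻¹)) * g := by group
    _ = g⁻¹ * (g * s * g⁻¹ * x) * g := by rw [hxt]
    _ = s * (g⁻¹ * x * g) := by group

/-- the intersection of `C` with `C(x)`, `x ∈ C`, through a homomorphism `ρ` with kernel in `N` -/
theorem card_inf_dvd [Finite K] {C N : Subgroup K} {Y : Type*} [Group Y] [Finite Y] (ρ : ↥C →* Y)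
    (hker : ∀ c : ↥C, ρ c = 1 → (c : K) ∈ N) (x : ↥C) :
    Nat.card ↥(C ⊓ centralizer ({(x : K)} : Set K)) ∣
      Nat.card ↥(N ⊓ centralizer ({(x : K)} : Set K)) * Nat.card ↥(centralizer ({ρ x} : Set Y)) := by
  set D : Subgroup K := C ⊓ centralizer ({(x : K)} : Set K) with hD
  let j : ↥D →* ↥C := Subgroup.inclusion inf_le_left
  let f : ↥D →* Y := ρ.comp j
  have h1 : Nat.card ↥D = Nat.card f.ker * Nat.card f.range := by
    rw [← card_mul_index f.ker, index_ker]
  rw [h1]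
  refine Nat.mul_dvd_mul ?_ ?_
  · have h2 : ∀ k : ↥f.ker, ((k : ↥D) : K) ∈ N ⊓ centralizer ({(x : K)} : Set K) := fun k =>
      ⟨hker (j k) k.2, (k : ↥D).2.2⟩
    let g : ↥f.ker →* ↥(N ⊓ centralizer ({(x : K)} : Set K)) := (D.subtype.comp f.ker.subtype).codRestrict _ h2
    refine card_dvd_of_injective g fun a b hab => ?_
    apply Subtype.ext
    apply Subtype.ext
    have h9 : ((g a : ↥(N ⊓ centralizer ({(x : K)} : Set K))) : K) = g b := by rw [hab]
    exact h9
  · refine card_dvd_of_le ?_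
    rintro _ ⟨d, rfl⟩
    rw [mem_centralizer_singleton_iff]
    change ρ (j d) * ρ x = ρ x * ρ (j d)
    rw [← map_mul, ← map_mul]
    congr 1
    apply Subtype.ext
    exact mem_centralizer_singleton_iff.1 d.2.2

/-- fixed points of an element of prime order on a subgroup normalized by it -/
theorem card_fix [Finite K] {p : ℕ} [hp : Fact p.Prime] {N : Subgroup K} {x : K} (hx : orderOf x = p)
    (hxN : ∀ n ∈ N, x * n * x⁻¹ ∈ N) :
    Nat.card N ≡ Nat.card ↥(N ⊓ centralizer ({x} : Set K)) [MOD p] := by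
  classical
  have hz : IsPGroup p ↥(zpowers x) := by
    rw [IsPGroup.iff_card]
    exact ⟨1, by rw [Nat.card_zpowers, hx, pow_one]⟩
  have hzN : zpowers x ≤ normalizer (N : Set K) := by
    rw [zpowers_le]
    have h0 : ∀ m : ℕ, ∀ n ∈ N, x ^ m * n * (x ^ m)⁻¹ ∈ N := by
      intro m
      induction m with
      | zero => intro n hn; simpa using hn
      | succ m ih =>
        intro n hn
        have h1 := hxN _ (ih n hn)
        have h2 : x * (x ^ m * n * (x ^ m)⁻¹) * x⁻¹ = x ^ (m + 1) * n * (x ^ (m + 1))⁻¹ := by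
          rw [pow_succ']; group
        rwa [h2] at h1
    rw [mem_normalizer_iff]
    intro n
    refine ⟨fun hn => hxN n hn, fun hn => ?_⟩
    have h1 := h0 (orderOf x - 1) _ hn
    have h2 : x ^ (orderOf x - 1) = x⁻¹ := by
      rw [eq_inv_iff_mul_eq_one, ← pow_succ, Nat.sub_add_cancel (orderOf_pos x), pow_orderOf_eq_one]
    rw [h2] at h1
    have h3 : x⁻¹ * (x * n * x⁻¹) * x⁻¹⁻¹ = n := by group
    rwa [h3] at h1
  let act : MulAction ↥(zpowers x) ↥N :=
    MulAction.compHom ↥N (N.normalizerMonoidHom.comp (Subgroup.inclusion hzN))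
  have h1 := hz.card_modEq_card_fixedPoints ↥N
  have h2 : Nat.card ↥(MulAction.fixedPoints ↥(zpowers x) ↥N) = Nat.card ↥(N ⊓ centralizer ({x} : Set K)) := by
    have hs : ∀ (z : ↥(zpowers x)) (n : ↥N), ((z • n : ↥N) : K) = z * n * (z : K)⁻¹ := fun _ _ => rfl
    refine Nat.card_congr ⟨fun a => ⟨a.1, a.1.2, ?_⟩, fun b => ⟨⟨b.1, b.2.1⟩, ?_⟩, fun a => rfl, fun b => rfl⟩
    · have h3 := congrArg Subtype.val (a.2 ⟨x, mem_zpowers x⟩)
      rw [hs] at h3
      change ((a.1 : ↥N) : K) ∈ centralizer ({x} : Set K)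
      rw [mem_centralizer_singleton_iff]
      exact (mul_inv_eq_iff_eq_mul.1 h3).symm
    · intro z
      apply Subtype.ext
      rw [hs, mul_inv_eq_iff_eq_mul]
      have h3 : Commute x b.1 := (mem_centralizer_singleton_iff.1 b.2.2).symm
      obtain ⟨k, hk⟩ := mem_zpowers_iff.1 z.2
      have h4 : Commute (z : K) b.1 := by rw [← hk]; exact h3.zpow_left k
      exact h4
  rw [h2] at h1
  exact h1

/-- the number of fixed points of `x` on a normal 2-subgroup -/
theorem exists_fix [Finite K] {p n : ℕ} [hp : Fact p.Prime] {N : Subgroup K} (hN : Nat.card N = 2 ^ n) {x : K}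
    (hx : orderOf x = p) (hxN : ∀ y ∈ N, x * y * x⁻¹ ∈ N) (hc : ¬ ∀ y ∈ N, x * y = y * x) :
    ∃ i < n, Nat.card ↥(N ⊓ centralizer ({x} : Set K)) = 2 ^ i ∧ 2 ^ n ≡ 2 ^ i [MOD p] := by
  have h1 : Nat.card ↥(N ⊓ centralizer ({x} : Set K)) ∣ 2 ^ n := hN ▸ card_dvd_of_le inf_le_left
  obtain ⟨i, hi, hie⟩ := (Nat.dvd_prime_pow Nat.prime_two).1 h1
  refine ⟨i, lt_of_le_of_ne hi ?_, hie, ?_⟩
  · rintro rfl
    apply hc
    have h2 : N ⊓ centralizer ({x} : Set K) = N := eq_of_le_of_card_ge inf_le_left (by rw [hN, hie])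
    intro y hy
    rw [← h2] at hy
    exact (mem_centralizer_singleton_iff.1 hy.2).symm
  · rw [← hie, ← hN]
    exact card_fix hx hxN

theorem card_fix_dvd [Finite K] {p n : ℕ} [hp : Fact p.Prime] (hp2 : p ≠ 2) {N : Subgroup K}
    (hN : Nat.card N = 2 ^ n) {x : K} (hx : orderOf x = p) (hxN : ∀ y ∈ N, x * y * x⁻¹ ∈ N)
    (hc : ¬ ∀ y ∈ N, x * y = y * x) : Nat.card ↥(N ⊓ centralizer ({x} : Set K)) ∣ 2 ^ (n - 2) := by
  obtain ⟨i, hi, hie, hm⟩ := exists_fix hN hx hxN hc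
  rw [hie]
  refine pow_dvd_pow 2 ?_
  by_contra hlt
  have h1 : n = i + 1 := by omega
  subst h1
  have h2 : p ∣ 2 ^ i := by
    have h3 := (Nat.modEq_iff_dvd' (pow_le_pow_right₀ (by norm_num) (by omega : i ≤ i + 1))).1 hm.symm
    have h4 : 2 ^ (i + 1) - 2 ^ i = 2 ^ i := by rw [pow_succ]; omega
    rwa [h4] at h3
  exact hp2 ((Nat.prime_dvd_prime_iff_eq hp.out Nat.prime_two).1 (hp.out.dvd_of_dvd_pow h2))

/-- `|D|` divides `2 |D ∩ L|` if `L` has the property `c ∈ L ∨ d ∈ L ∨ c d ∈ L` on `D` -/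
theorem card_of_two [Finite K] (D L : Subgroup K) (h : ∀ c ∈ D, ∀ d ∈ D, c ∈ L ∨ d ∈ L ∨ c * d ∈ L) :
    Nat.card ↥D ∣ 2 * Nat.card ↥(D ⊓ L) := by
  have h1 : Nat.card ↥(L.subgroupOf D) = Nat.card ↥(D ⊓ L) := by
    rw [← Subgroup.card_map_of_injective D.subtype_injective, subgroupOf_map_subtype, inf_comm]
  have h2 : Nat.card ↥D = Nat.card ↥(L.subgroupOf D) * (L.subgroupOf D).index :=
    (Subgroup.card_mul_index (L.subgroupOf D)).symm
  have h3 : (L.subgroupOf D).index ∣ 2 := by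
    by_cases hle : D ≤ L
    · rw [subgroupOf_eq_top.2 hle, Subgroup.index_top]
      exact one_dvd _
    · obtain ⟨a, haD, haL⟩ := SetLike.not_le_iff_exists.1 hle
      have h4 : (L.subgroupOf D).index = 2 := by
        rw [Subgroup.index_eq_two_iff]
        refine ⟨⟨a, haD⟩, ?_⟩
        rintro ⟨b, hb⟩
        change Xor (b * a ∈ L) (b ∈ L)
        by_cases hbL : b ∈ L
        · refine Or.inr ⟨hbL, fun h5 => haL ?_⟩
          have h6 : a = b⁻¹ * (b * a) := by group
          rw [h6]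
          exact L.mul_mem (L.inv_mem hbL) h5
        · refine Or.inl ⟨?_, hbL⟩
          exact ((h b hb a haD).resolve_left hbL).resolve_left haL
      rw [h4]
  rw [h2, h1, mul_comm]
  exact Nat.mul_dvd_mul_right h3 _

theorem not_mem_of_card {N : Subgroup K} {x : K} {p n : ℕ} (hp : p.Prime) (hp2 : p ≠ 2) (hN : Nat.card N = 2 ^ n)
    (hx : orderOf x = p) : x ∉ N := by
  intro h
  have h1 : orderOf (⟨x, h⟩ : ↥N) ∣ Nat.card ↥N := orderOf_dvd_natCard _
  rw [Subgroup.orderOf_mk, hx, hN] at h1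
  exact hp2 ((Nat.prime_dvd_prime_iff_eq hp Nat.prime_two).1 (hp.dvd_of_dvd_pow h1))

/-- the 2-part of `C(s) ∩ C(x)` is at most 32 -/
theorem not_sixty_four {p : ℕ} (hp : p.Prime) (hp2 : p ≠ 2) {m n : ℕ} (h : m ∣ 32 * p ^ n) : ¬ 64 ∣ m := by
  intro hd
  have h1 : 2 ^ 6 ∣ 2 ^ 5 * p ^ n := hd.trans h
  have h2 : (2 ^ 6).Coprime (p ^ n) := Nat.Coprime.pow _ _ ((Nat.coprime_primes Nat.prime_two hp).2 hp2.symm)
  have h3 := h2.dvd_of_dvd_mul_right h1
  norm_num at h3

/-- the 2-part of `C(x)` is seen in `C(t) ∩ C(x)` for an involution `t` commuting with `x` -/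
theorem not_dvd_of_inv [Finite K] {k : ℕ} (hk : 1 ≤ k) {x : K}
    (h : ∀ t : K, orderOf t = 2 → x * t = t * x →
      ¬ 2 ^ k ∣ Nat.card ↥(centralizer ({t} : Set K) ⊓ centralizer ({x} : Set K))) :
    ¬ 2 ^ k ∣ Nat.card ↥(centralizer ({x} : Set K)) := by
  classical
  intro hd
  have : Fact (Nat.Prime 2) := ⟨Nat.prime_two⟩
  obtain ⟨P⟩ : Nonempty (Sylow 2 ↥(centralizer ({x} : Set K))) := inferInstance
  have hP : 2 ^ k ∣ Nat.card P := P.pow_dvd_card_of_pow_dvd_card hd
  have hP2 : 2 ∣ Nat.card P := (dvd_pow_self 2 (by omega)).trans hP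
  have hnt : Nontrivial P := by
    rw [← Finite.one_lt_card_iff_nontrivial]
    exact lt_of_lt_of_le one_lt_two (Nat.le_of_dvd Nat.card_pos hP2)
  have hcnt : Nontrivial (center P) := P.2.center_nontrivial
  have h2 : 2 ∣ Nat.card (center P) := by
    obtain ⟨m, hm⟩ := IsPGroup.iff_card.1 (P.2.to_subgroup (center P))
    have hm0 : m ≠ 0 := by
      rintro rfl
      rw [pow_zero] at hm
      have := Finite.one_lt_card (α := center P)
      omega
    rw [hm]
    exact dvd_pow_self 2 hm0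
  obtain ⟨z, hz⟩ := exists_prime_orderOf_dvd_card' 2 h2
  set t : K := (((z : P) : ↥(centralizer ({x} : Set K))) : K) with ht
  have hto : orderOf t = 2 := by
    rw [ht, Subgroup.orderOf_coe, Subgroup.orderOf_coe, Subgroup.orderOf_coe, hz]
  have htx : x * t = t * x := (mem_centralizer_singleton_iff.1 ((z : P) : ↥(centralizer ({x} : Set K))).2).symm
  apply h t hto htx
  refine hP.trans ?_
  have h3 : ∀ y : ↥(P : Subgroup ↥(centralizer ({x} : Set K))),
      ((y : ↥(centralizer ({x} : Set K))) : K) ∈ centralizer ({t} : Set K) ⊓ centralizer ({x} : Set K) := by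
    intro y
    refine ⟨?_, (y : ↥(centralizer ({x} : Set K))).2⟩
    refine mem_centralizer_singleton_iff.2 ?_
    have h4 := mem_center_iff.1 z.2 y
    exact congrArg (fun a : ↥(P : Subgroup ↥(centralizer ({x} : Set K))) => ((a : ↥(centralizer ({x} : Set K))) : K)) h4
  let g : ↥(P : Subgroup ↥(centralizer ({x} : Set K))) →* ↥(centralizer ({t} : Set K) ⊓ centralizer ({x} : Set K)) :=
    ((centralizer ({x} : Set K)).subtype.comp (Subgroup.subtype _)).codRestrict _ h3
  refine card_dvd_of_injective g fun a b hab => ?_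
  apply Subtype.ext
  apply Subtype.ext
  have h9 : ((g a : ↥(centralizer ({t} : Set K) ⊓ centralizer ({x} : Set K))) : K) = g b := by rw [hab]
  exact h9

theorem not_dvd_of_bd [Finite K] {p : ℕ} (hp : p.Prime) (hp2 : p ≠ 2) {x : K} (hx : orderOf x = p)
    (h : ∀ t : K, orderOf t = 2 → Bd p t) : ¬ 64 ∣ Nat.card ↥(centralizer ({x} : Set K)) := by
  refine not_dvd_of_inv (k := 6) (by norm_num) fun t ht hxt hd => ?_
  obtain ⟨n, hn⟩ := h t ht x hx hxt
  exact not_sixty_four hp hp2 hn hd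

theorem card_cent_sub {x : K} (t : ↥(centralizer ({x} : Set K))) :
    Nat.card ↥(centralizer ({t} : Set ↥(centralizer ({x} : Set K)))) =
      Nat.card ↥(centralizer ({(t : K)} : Set K) ⊓ centralizer ({x} : Set K)) := by
  refine Nat.card_congr ⟨fun a => ⟨a.1, ?_, a.1.2⟩, fun b => ⟨⟨b.1, b.2.2⟩, ?_⟩, fun a => rfl, fun b => rfl⟩
  · have h1 := mem_centralizer_singleton_iff.1 a.2
    change ((a.1 : ↥(centralizer ({x} : Set K))) : K) ∈ centralizer ({(t : K)} : Set K)
    rw [mem_centralizer_singleton_iff]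
    exact congrArg Subtype.val h1
  · rw [mem_centralizer_singleton_iff]
    apply Subtype.ext
    exact mem_centralizer_singleton_iff.1 b.2.1

/-- if the centralizers of the involutions are 2-groups, the centralizers of the elements of odd order are odd -/
theorem odd_card_cent [Finite K] (h : ∀ t : K, orderOf t = 2 → IsPGroup 2 ↥(centralizer ({t} : Set K))) {x : K}
    {p : ℕ} (hp : p.Prime) (hp2 : p ≠ 2) (hx : orderOf x = p) : Odd (Nat.card ↥(centralizer ({x} : Set K))) := by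
  have : Fact (Nat.Prime 2) := ⟨Nat.prime_two⟩
  by_contra hodd
  rw [Nat.not_odd_iff_even, even_iff_two_dvd] at hodd
  obtain ⟨t, ht⟩ := exists_prime_orderOf_dvd_card' 2 hodd
  have ht' : orderOf (t : K) = 2 := by rw [Subgroup.orderOf_coe]; exact ht
  have hx' : x ∈ centralizer ({(t : K)} : Set K) :=
    mem_centralizer_singleton_iff.2 (mem_centralizer_singleton_iff.1 t.2).symm
  obtain ⟨k, hk⟩ := h _ ht' ⟨x, hx'⟩
  have h1 : x ^ 2 ^ k = 1 := congrArg Subtype.val hk
  have h2 := orderOf_dvd_of_pow_eq_one h1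
  rw [hx] at h2
  exact hp2 ((Nat.prime_dvd_prime_iff_eq hp Nat.prime_two).1 (hp.dvd_of_dvd_pow h2))

end Cfsg.Agent.BpSpor.Cen
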