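import Mathlib
import Cfsg.Agent.SporRec.Co3.LineCode_mg
import Cfsg.Agent.SporadicStructure.StdCross
import Cfsg.Agent.S0359
import Cfsg.Prelude.Def_Spor_Mathieu
import Cfsg.Prelude.Def_Spor_Conway
import Cfsg.Agent.S0384
import Cfsg.Agent.Lib.CoprimeHyperplane
import Cfsg.Prelude.Def_EvenType
import Cfsg.Agent.SigZero.Base
import Cfsg.Agent.KFacts.Co3D4.Model
import Cfsg.Agent.S0401
import Cfsg.Agent.MTwelveType.SylowModel
import Cfsg.Agent.BpSpor.Cen
import Cfsg.Agent.FastGrp
import Cfsg.Agent.Prune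
set_option linter.all false

section
prune_inst 0x7ffdfefbbff87ddfffff7e7ffff9dffc3bd3dfffefdff94bffe9ebff1fbf03672fe5fba78de4d8fecef6e2bc30b87853f97eaabeea29dc7ffffd5ff45ffbee1fb7efbd0951d79c340ffc6ffffbf17faa7f3ffffffffffffffffffffffffffffffffdffffffff

-- part: SigZero/CoThree
section
prune_inst 0x200000000000000000000000000000000000000000600000000000000000010000000100000010000000000000000000000000000000000000000000000004010000000000000000000000000000000000000000000000000000000000000000200000000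
set_option linter.all false
open scoped Cfsg.Agent.FastGrp

-- merged: Cfsg.Agent.SigZero.ThreeLin
section

/-!
# Elementary abelian 3-groups acting on elementary abelian 2-groups

`ρ : B →* AddMonoid.End V`, `V` finite of exponent 2, `H ≤ B` commutative of exponent 3.

* `rank_bound`: if `H` acts faithfully on `V` then `|H| = 3 ^ r` with `4 ^ r ≤ |V|`, and if `|V| = 4 ^ r` then the only
  additive map `y` with `y ∘ y = 1` which commutes with `H` is the identity.
-/

set_option autoImplicit false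

namespace Cfsg.Agent.SigZero.ThreeLin

variable {V : Type*} [AddCommGroup V] {B : Type*} [Group B] (ρ : B →* AddMonoid.End V)

/-- the elements of `H` which are trivial on `U` -/
def cen (H : Subgroup B) (U : AddSubgroup V) : Subgroup B where
  carrier := {h | h ∈ H ∧ ∀ u ∈ U, ρ h u = u}
  one_mem' := ⟨H.one_mem, fun u _ => by rw [map_one]; rfl⟩
  mul_mem' := by
    rintro a b ⟨ha, ha'⟩ ⟨hb, hb'⟩
    refine ⟨H.mul_mem ha hb, fun u hu => ?_⟩
    rw [map_mul]
    show ρ a (ρ b u) = u
    rw [hb' u hu, ha' u hu]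
  inv_mem' := by
    rintro a ⟨ha, ha'⟩
    refine ⟨H.inv_mem ha, fun u hu => ?_⟩
    have h1 : ρ a⁻¹ (ρ a u) = u := by
      show (ρ a⁻¹ * ρ a) u = u
      rw [← map_mul, inv_mul_cancel, map_one]; rfl
    rwa [ha' u hu] at h1

theorem mem_cen {H : Subgroup B} {U : AddSubgroup V} {h : B} : h ∈ cen ρ H U ↔ h ∈ H ∧ ∀ u ∈ U, ρ h u = u := Iff.rfl

theorem rho_mul (a b : B) (v : V) : ρ (a * b) v = ρ a (ρ b v) := by rw [map_mul]; rfl

theorem rho_one (v : V) : ρ 1 v = v := by rw [map_one]; rfl

variable {ρ}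

/-- the sum over `⟨b⟩` is fixed by `b` -/
theorem fix_sum {b : B} (h3 : b ^ 3 = 1) (v : V) :
    ρ b (v + ρ b v + ρ b (ρ b v)) = v + ρ b v + ρ b (ρ b v) := by
  have h : ρ b (ρ b (ρ b v)) = v := by
    rw [← rho_mul, ← rho_mul, show b * b * b = b ^ 3 by rw [pow_succ, pow_two], h3, rho_one]
  rw [map_add, map_add, h]
  abel

/-- If `c`, `b`, `b c`, `b c²` all satisfy `1 + x + x² = 0` on `u` then `u = 0`. -/
theorem four_lines (hV : ∀ v : V, v + v = 0) {b c : B} (hbc : c * b = b * c) (hc3 : c ^ 3 = 1)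
    {u : V} (h1 : u + ρ c u + ρ c (ρ c u) = 0) (h2 : u + ρ b u + ρ b (ρ b u) = 0)
    (h3 : u + ρ (b * c) u + ρ (b * c) (ρ (b * c) u) = 0)
    (h4 : u + ρ (b * c * c) u + ρ (b * c * c) (ρ (b * c * c) u) = 0) : u = 0 := by
  have k1 : ρ b u + ρ b (ρ c u) + ρ b (ρ c (ρ c u)) = 0 := by
    rw [← map_add, ← map_add, h1, map_zero]
  have k2 : ρ b (ρ b u) + ρ b (ρ b (ρ c u)) + ρ b (ρ b (ρ c (ρ c u))) = 0 := by
    rw [← map_add, ← map_add, k1, map_zero]
  have e3 : ρ (b * c) (ρ (b * c) u) = ρ b (ρ b (ρ c (ρ c u))) := by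
    rw [← rho_mul, ← rho_mul, ← rho_mul, ← rho_mul]
    congr 2
    calc b * c * (b * c) = b * (c * b) * c := by group
      _ = b * (b * c) * c := by rw [hbc]
      _ = b * b * c * c := by group
  have e4 : ρ (b * c * c) (ρ (b * c * c) u) = ρ b (ρ b (ρ c u)) := by
    rw [← rho_mul, ← rho_mul, ← rho_mul]
    congr 2
    calc b * c * c * (b * c * c) = b * c * (c * b) * c * c := by group
      _ = b * c * (b * c) * c * c := by rw [hbc]
      _ = b * (c * b) * c * c * c := by group
      _ = b * (b * c) * c * c * c := by rw [hbc]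
      _ = b * b * c * c ^ 3 := by rw [pow_succ, pow_two]; group
      _ = b * b * c := by rw [hc3, mul_one]
  have e5 : ρ (b * c) u = ρ b (ρ c u) := rho_mul _ _ _ _
  have e6 : ρ (b * c * c) u = ρ b (ρ c (ρ c u)) := by rw [rho_mul, rho_mul]
  rw [e3, e5] at h3
  rw [e4, e6] at h4
  have hs : (u + ρ b u + ρ b (ρ b u)) + (u + ρ b (ρ c u) + ρ b (ρ b (ρ c (ρ c u)))) +
      (u + ρ b (ρ c (ρ c u)) + ρ b (ρ b (ρ c u))) = u + (u + u) + (ρ b u + ρ b (ρ c u) + ρ b (ρ c (ρ c u))) +
      (ρ b (ρ b u) + ρ b (ρ b (ρ c u)) + ρ b (ρ b (ρ c (ρ c u)))) := by abel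
  rw [h2, h3, h4, k1, k2, hV u] at hs
  simpa using hs.symm

/-- `H` acts on `U` and `y` commutes with `H` on `U`. -/
def Good (ρ : B →* AddMonoid.End V) (H : Subgroup B) (U : AddSubgroup V) (y : V →+ V) : Prop :=
  (∀ h ∈ H, ∀ u ∈ U, y (ρ h u) = ρ h (y u)) ∧ (∀ u ∈ U, y u ∈ U) ∧ ∀ u ∈ U, y (y u) = u

theorem key [Finite V] (hV : ∀ v : V, v + v = 0) (n : ℕ) :
    ∀ (U : AddSubgroup V) (H : Subgroup B), Nat.card U ≤ n → (∀ a ∈ H, ∀ b ∈ H, a * b = b * a) →
      (∀ a ∈ H, a ^ 3 = 1) → (∀ h ∈ H, ∀ u ∈ U, ρ h u ∈ U) →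
      ∃ r, (cen ρ H U).relIndex H = 3 ^ r ∧ 4 ^ r ≤ Nat.card U ∧
        (Nat.card U = 4 ^ r → ∀ y : V →+ V, Good ρ H U y → ∀ u ∈ U, y u = u) := by
  induction n with
  | zero =>
    intro U H hU
    exact absurd hU (by have := Nat.card_pos (α := U); omega)
  | succ n ih =>
    intro U H hU hcomm hexp hinv
    by_cases hcase : ∃ b ∈ H, (∃ u ∈ U, ρ b u ≠ u) ∧ ∃ u ∈ U, u ≠ 0 ∧ ρ b u = u
    · -- the two eigenspaces
      obtain ⟨b, hb, ⟨u₀, hu₀, hu₀b⟩, u₁, hu₁, hu₁0, hu₁b⟩ := hcase
      let U₁ : AddSubgroup V :=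
        { carrier := {u | u ∈ U ∧ ρ b u = u}
          zero_mem' := ⟨U.zero_mem, map_zero _⟩
          add_mem' := by
            rintro x y ⟨hx, hx'⟩ ⟨hy, hy'⟩
            exact ⟨U.add_mem hx hy, by rw [map_add, hx', hy']⟩
          neg_mem' := by
            rintro x ⟨hx, hx'⟩
            exact ⟨U.neg_mem hx, by rw [map_neg, hx']⟩ }
      let U₂ : AddSubgroup V :=
        { carrier := {u | u ∈ U ∧ u + ρ b u + ρ b (ρ b u) = 0}
          zero_mem' := ⟨U.zero_mem, by rw [map_zero, map_zero, add_zero, add_zero]⟩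
          add_mem' := by
            rintro x y ⟨hx, hx'⟩ ⟨hy, hy'⟩
            refine ⟨U.add_mem hx hy, ?_⟩
            rw [map_add, map_add]
            calc x + y + (ρ b x + ρ b y) + (ρ b (ρ b x) + ρ b (ρ b y)) =
                (x + ρ b x + ρ b (ρ b x)) + (y + ρ b y + ρ b (ρ b y)) := by abel
              _ = 0 := by rw [hx', hy', add_zero]
          neg_mem' := by
            rintro x ⟨hx, hx'⟩
            refine ⟨U.neg_mem hx, ?_⟩
            rw [map_neg, map_neg]
            calc -x + -(ρ b x) + -(ρ b (ρ b x)) = -(x + ρ b x + ρ b (ρ b x)) := by abel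
              _ = 0 := by rw [hx', neg_zero] }
      have h3 := hexp b hb
      have hU₁ : ∀ {u : V}, u ∈ U₁ ↔ u ∈ U ∧ ρ b u = u := Iff.rfl
      have hU₂ : ∀ {u : V}, u ∈ U₂ ↔ u ∈ U ∧ u + ρ b u + ρ b (ρ b u) = 0 := Iff.rfl
      -- the decomposition
      have hb2 : ∀ u ∈ U, ρ b u ∈ U := hinv b hb
      have hd1 : ∀ u ∈ U, u + ρ b u + ρ b (ρ b u) ∈ U₁ := fun u hu =>
        ⟨U.add_mem (U.add_mem hu (hb2 _ hu)) (hb2 _ (hb2 _ hu)), fix_sum h3 u⟩
      have hd2 : ∀ u ∈ U, ρ b u + ρ b (ρ b u) ∈ U₂ := by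
        intro u hu
        refine ⟨U.add_mem (hb2 _ hu) (hb2 _ (hb2 _ hu)), ?_⟩
        have hbbb : ρ b (ρ b (ρ b u)) = u := by
          rw [← rho_mul, ← rho_mul, show b * b * b = b ^ 3 by rw [pow_succ, pow_two], h3, rho_one]
        rw [map_add, map_add, hbbb]
        calc ρ b u + ρ b (ρ b u) + (ρ b (ρ b u) + u) + (u + ρ b u) =
            (ρ b u + ρ b u) + (ρ b (ρ b u) + ρ b (ρ b u)) + (u + u) := by abel
          _ = 0 := by rw [hV (ρ b u), hV (ρ b (ρ b u)), hV u, add_zero, add_zero]
      have hdec : ∀ u ∈ U, ∃ u₁ ∈ U₁, ∃ u₂ ∈ U₂, u = u₁ + u₂ := by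
        intro u hu
        refine ⟨_, hd1 u hu, _, hd2 u hu, ?_⟩
        calc u = u + (ρ b u + ρ b u) + (ρ b (ρ b u) + ρ b (ρ b u)) := by
              rw [hV (ρ b u), hV (ρ b (ρ b u)), add_zero, add_zero]
          _ = u + ρ b u + ρ b (ρ b u) + (ρ b u + ρ b (ρ b u)) := by abel
      have hdis : ∀ u, u ∈ U₁ → u ∈ U₂ → u = 0 := by
        intro u h1 h2
        have e := (hU₂.1 h2).2
        rw [(hU₁.1 h1).2, (hU₁.1 h1).2, hV, zero_add] at e
        exact e
      have hcard : Nat.card U = Nat.card U₁ * Nat.card U₂ := by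
        rw [← Nat.card_prod]
        symm
        apply Nat.card_congr
        refine Equiv.ofBijective (fun p => (⟨p.1 + p.2, U.add_mem (hU₁.1 p.1.2).1 (hU₂.1 p.2.2).1⟩ : U)) ⟨?_, ?_⟩
        · rintro ⟨⟨a, ha⟩, ⟨c, hc⟩⟩ ⟨⟨a', ha'⟩, ⟨c', hc'⟩⟩ h
          have h1 : a + c = a' + c' := congrArg Subtype.val h
          have h2 : a - a' = c' - c := by
            rw [sub_eq_sub_iff_add_eq_add, h1, add_comm]
          have h4 := hdis (a - a') (U₁.sub_mem ha ha') (by rw [h2]; exact U₂.sub_mem hc' hc)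
          have h5 : a = a' := sub_eq_zero.1 h4
          subst h5
          have h6 : c = c' := add_left_cancel h1
          subst h6
          rfl
        · rintro ⟨u, hu⟩
          obtain ⟨u₁, h1, u₂, h2, h⟩ := hdec u hu
          exact ⟨(⟨u₁, h1⟩, ⟨u₂, h2⟩), Subtype.ext h.symm⟩
      have hne1 : Nat.card U₂ ≠ 1 := by
        intro h
        rw [AddSubgroup.card_eq_one] at h
        obtain ⟨a, ha, c, hc, e⟩ := hdec u₀ hu₀
        rw [h, AddSubgroup.mem_bot] at hc
        rw [hc, add_zero] at e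
        rw [e] at hu₀b
        exact hu₀b (hU₁.1 ha).2
      have hne2 : Nat.card U₁ ≠ 1 := by
        intro h
        rw [AddSubgroup.card_eq_one] at h
        have : u₁ ∈ U₁ := ⟨hu₁, hu₁b⟩
        rw [h, AddSubgroup.mem_bot] at this
        exact hu₁0 this
      have hp1 : 0 < Nat.card U₁ := Nat.card_pos
      have hp2 : 0 < Nat.card U₂ := Nat.card_pos
      have hl1 : Nat.card U₁ ≤ n := by
        have : Nat.card U₁ * 2 ≤ Nat.card U₁ * Nat.card U₂ := Nat.mul_le_mul_left _ (by omega)
        omega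
      have hl2 : Nat.card U₂ ≤ n := by
        have : 2 * Nat.card U₂ ≤ Nat.card U₁ * Nat.card U₂ := Nat.mul_le_mul_right _ (by omega)
        omega
      have hcb : ∀ h ∈ H, ∀ u : V, ρ b (ρ h u) = ρ h (ρ b u) := by
        intro h hh u
        rw [← rho_mul, hcomm b hb h hh, rho_mul]
      have hinv1 : ∀ h ∈ H, ∀ u ∈ U₁, ρ h u ∈ U₁ := by
        intro h hh u hu
        exact ⟨hinv h hh u (hU₁.1 hu).1, by rw [hcb h hh, (hU₁.1 hu).2]⟩
      have hinv2 : ∀ h ∈ H, ∀ u ∈ U₂, ρ h u ∈ U₂ := by
        intro h hh u hu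
        refine ⟨hinv h hh u (hU₂.1 hu).1, ?_⟩
        rw [hcb h hh, hcb h hh, ← map_add, ← map_add, (hU₂.1 hu).2, map_zero]
      have hH1 : cen ρ H U₁ ≤ H := fun x hx => hx.1
      obtain ⟨r₁, i1, j1, k1⟩ := ih U₁ H hl1 hcomm hexp hinv1
      obtain ⟨r₂, i2, j2, k2⟩ := ih U₂ (cen ρ H U₁) hl2 (fun a ha c hc => hcomm a (hH1 ha) c (hH1 hc))
        (fun a ha => hexp a (hH1 ha)) (fun a ha => hinv2 a (hH1 ha))
      have hcen : cen ρ (cen ρ H U₁) U₂ = cen ρ H U := by
        ext x
        constructor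
        · rintro ⟨⟨h1, h2⟩, h3⟩
          refine ⟨h1, fun u hu => ?_⟩
          obtain ⟨a, ha, c, hc, e⟩ := hdec u hu
          rw [e, map_add, h2 a ha, h3 c hc]
        · rintro ⟨h1, h2⟩
          exact ⟨⟨h1, fun u hu => h2 u (hU₁.1 hu).1⟩, fun u hu => h2 u (hU₂.1 hu).1⟩
      refine ⟨r₁ + r₂, ?_, ?_, ?_⟩
      · have h12 : cen ρ (cen ρ H U₁) U₂ ≤ cen ρ H U₁ := fun x hx => hx.1
        rw [← hcen, ← Subgroup.relIndex_mul_relIndex _ _ _ h12 hH1, i1, i2, pow_add, mul_comm]
      · rw [pow_add, hcard]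
        exact Nat.mul_le_mul j1 j2
      · intro he y hy u hu
        rw [hcard, pow_add] at he
        have p1 : 0 < 4 ^ r₁ := by positivity
        have p2 : 0 < 4 ^ r₂ := by positivity
        have e1 : Nat.card U₁ = 4 ^ r₁ := by
          by_contra hcon
          have : 4 ^ r₁ * 4 ^ r₂ < Nat.card U₁ * Nat.card U₂ :=
            Nat.mul_lt_mul_of_lt_of_le (lt_of_le_of_ne j1 (Ne.symm hcon)) j2 hp2
          omega
        have e2 : Nat.card U₂ = 4 ^ r₂ := by
          rw [e1] at he
          exact Nat.eq_of_mul_eq_mul_left p1 he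
        obtain ⟨y1, y2, y3⟩ := hy
        have g1 : Good ρ H U₁ y := by
          refine ⟨fun h hh u hu => y1 h hh u (hU₁.1 hu).1, fun u hu => ?_, fun u hu => y3 u (hU₁.1 hu).1⟩
          refine ⟨y2 u (hU₁.1 hu).1, ?_⟩
          rw [← y1 b hb u (hU₁.1 hu).1, (hU₁.1 hu).2]
        have g2 : Good ρ (cen ρ H U₁) U₂ y := by
          refine ⟨fun h hh u hu => y1 h (hH1 hh) u (hU₂.1 hu).1, fun u hu => ?_, fun u hu => y3 u (hU₂.1 hu).1⟩
          have hu' := (hU₂.1 hu).1
          refine ⟨y2 u hu', ?_⟩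
          rw [← y1 b hb u hu', ← y1 b hb _ (hb2 u hu'), ← map_add, ← map_add, (hU₂.1 hu).2, map_zero]
        obtain ⟨a, ha, c, hc, e⟩ := hdec u hu
        rw [e, map_add, k1 e1 y g1 a ha, k2 e2 y g2 c hc]
    · -- every element is trivial or without fixed points
      push Not at hcase
      by_cases htriv : ∀ h ∈ H, ∀ u ∈ U, ρ h u = u
      · refine ⟨0, ?_, ?_, ?_⟩
        · have : cen ρ H U = H := le_antisymm (fun x hx => hx.1) (fun x hx => ⟨hx, htriv x hx⟩)
          rw [this, Subgroup.relIndex_self, pow_zero]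
        · rw [pow_zero]; exact Nat.card_pos
        · intro h1 y _ u hu
          rw [pow_zero, AddSubgroup.card_eq_one] at h1
          rw [h1, AddSubgroup.mem_bot] at hu
          rw [hu, map_zero]
      · push Not at htriv
        obtain ⟨c, hc, u₀, hu₀, hcu₀⟩ := htriv
        have hz : ∀ b ∈ H, (∀ u ∈ U, ρ b u = u) ∨ ∀ u ∈ U, u + ρ b u + ρ b (ρ b u) = 0 := by
          intro b hb
          by_cases h : ∀ u ∈ U, ρ b u = u
          · exact Or.inl h
          · right
            push Not at h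
            obtain ⟨w, hw, hwb⟩ := h
            intro u hu
            by_contra hne
            exact hcase b hb ⟨w, hw, hwb⟩ _
              (U.add_mem (U.add_mem hu (hinv b hb _ hu)) (hinv b hb _ (hinv b hb _ hu)))
              hne (fix_sum (hexp b hb) u)
        have hc0 : ∀ u ∈ U, u + ρ c u + ρ c (ρ c u) = 0 := by
          rcases hz c hc with h | h
          · exact absurd (h u₀ hu₀) hcu₀
          · exact h
        have hu00 : u₀ ≠ 0 := by
          rintro rfl
          exact hcu₀ (map_zero _)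
        have hcfix : ∀ u ∈ U, ρ c u = u → u = 0 := by
          intro u hu h
          have := hc0 u hu
          rwa [h, h, hV, zero_add] at this
        -- `H = C ∪ C c ∪ C c²`
        have hcos : ∀ b ∈ H, (∀ u ∈ U, ρ b u = u) ∨ (∀ u ∈ U, ρ (b * c) u = u) ∨ ∀ u ∈ U, ρ (b * c * c) u = u := by
          intro b hb
          rcases hz b hb with h | h2
          · exact Or.inl h
          rcases hz (b * c) (H.mul_mem hb hc) with h | h3
          · exact Or.inr (Or.inl h)
          rcases hz (b * c * c) (H.mul_mem (H.mul_mem hb hc) hc) with h | h4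
          · exact Or.inr (Or.inr h)
          exfalso
          exact hu00 (four_lines hV (hcomm c hc b hb) (hexp c hc) (hc0 u₀ hu₀) (h2 u₀ hu₀) (h3 u₀ hu₀) (h4 u₀ hu₀))
        have hcC : c ∉ cen ρ H U := fun h => hcu₀ (h.2 u₀ hu₀)
        have hidx : (cen ρ H U).relIndex H = 3 := by
          set C : Subgroup H := (cen ρ H U).subgroupOf H with hCdef
          have hcH : (⟨c, hc⟩ : H) ∉ C := hcC
          have hCn : C.Normal := by
            refine ⟨fun x hx g => ?_⟩
            have : g * x * g⁻¹ = x := by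
              have := Subtype.ext (hcomm g g.2 x x.2) (a1 := g * x) (a2 := x * g)
              rw [this]; group
            rw [this]; exact hx
          show C.index = 3
          rw [Subgroup.index_eq_card]
          have hgen : ∀ q : H ⧸ C, q ∈ Subgroup.zpowers (QuotientGroup.mk (⟨c, hc⟩ : H) : H ⧸ C) := by
            intro q
            obtain ⟨b, rfl⟩ := QuotientGroup.mk_surjective q
            rw [Subgroup.mem_zpowers_iff]
            rcases hcos b b.2 with h | h | h
            · refine ⟨0, ?_⟩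
              rw [zpow_zero]
              symm
              rw [QuotientGroup.eq_one_iff]
              exact ⟨b.2, h⟩
            · refine ⟨-1, ?_⟩
              have h1 : (QuotientGroup.mk (b * ⟨c, hc⟩ : H) : H ⧸ C) = 1 := by
                rw [QuotientGroup.eq_one_iff]
                exact ⟨H.mul_mem b.2 hc, h⟩
              rw [QuotientGroup.mk_mul] at h1
              rw [zpow_neg_one, eq_comm]
              exact eq_inv_of_mul_eq_one_left h1
            · refine ⟨-2, ?_⟩
              have h1 : (QuotientGroup.mk (b * ⟨c, hc⟩ * ⟨c, hc⟩ : H) : H ⧸ C) = 1 := by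
                rw [QuotientGroup.eq_one_iff]
                exact ⟨H.mul_mem (H.mul_mem b.2 hc) hc, h⟩
              rw [QuotientGroup.mk_mul, QuotientGroup.mk_mul, mul_assoc] at h1
              rw [zpow_neg, eq_comm]
              have h2 := eq_inv_of_mul_eq_one_left h1
              rw [h2, zpow_ofNat, pow_two]
          have hord : orderOf (QuotientGroup.mk (⟨c, hc⟩ : H) : H ⧸ C) = 3 := by
            apply orderOf_eq_prime
            · rw [← QuotientGroup.mk_pow]
              have : (⟨c, hc⟩ : H) ^ 3 = 1 := Subtype.ext (hexp c hc)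
              rw [this]; rfl
            · intro h
              rw [QuotientGroup.eq_one_iff] at h
              exact hcH h
          rw [← hord, ← Nat.card_zpowers]
          have : Subgroup.zpowers (QuotientGroup.mk (⟨c, hc⟩ : H) : H ⧸ C) = ⊤ := by
            rw [eq_top_iff]
            intro q _
            exact hgen q
          rw [this, Subgroup.card_top]
        -- the four elements
        have hccc : ∀ u : V, ρ c (ρ c (ρ c u)) = u := by
          intro u
          rw [← rho_mul, ← rho_mul, show c * c * c = c ^ 3 by rw [pow_succ, pow_two], hexp c hc, rho_one]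
        have hfour : ∀ u ∈ U, u ≠ 0 → ({0, u, ρ c u, ρ c (ρ c u)} : Set V).ncard = 4 ∧
            ({0, u, ρ c u, ρ c (ρ c u)} : Set V) ⊆ U := by
          intro u hu hu0
          have a1 : ρ c u ≠ u := fun h => hu0 (hcfix u hu h)
          have a2 : ρ c u ≠ 0 := by
            intro h
            apply hu0
            rw [← hccc u, h, map_zero, map_zero]
          have a3 : ρ c (ρ c u) ≠ 0 := by
            intro h
            apply hu0
            rw [← hccc u, h, map_zero]
          have a4 : ρ c (ρ c u) ≠ ρ c u := fun h => a2 (hcfix _ (hinv c hc u hu) h)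
          have a5 : ρ c (ρ c u) ≠ u := by
            intro h
            apply a1
            have := hccc u
            rw [h] at this
            exact this
          refine ⟨?_, ?_⟩
          · rw [Set.ncard_insert_of_notMem, Set.ncard_insert_of_notMem, Set.ncard_pair a4.symm]
            · rintro (h | h)
              · exact a1 h.symm
              · exact a5 (Set.mem_singleton_iff.1 h).symm
            · rintro (h | h | h)
              · exact hu0 h.symm
              · exact a2 h.symm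
              · exact a3 (Set.mem_singleton_iff.1 h).symm
          · rintro x (rfl | rfl | rfl | rfl)
            · exact U.zero_mem
            · exact hu
            · exact hinv c hc u hu
            · exact hinv c hc _ (hinv c hc u hu)
        have hUf : (U : Set V).Finite := Set.toFinite _
        refine ⟨1, by rw [hidx, pow_one], ?_, ?_⟩
        · obtain ⟨f1, f2⟩ := hfour u₀ hu₀ hu00
          rw [pow_one, ← f1, ← SetLike.coe_sort_coe, Nat.card_coe_set_eq]
          exact Set.ncard_le_ncard f2 hUf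
        · intro h1 y hy
          have hall : ∀ w ∈ U, w ≠ 0 → (U : Set V) = {0, w, ρ c w, ρ c (ρ c w)} := by
            intro w hw hw0
            obtain ⟨f1, f2⟩ := hfour w hw hw0
            symm
            apply Set.eq_of_subset_of_ncard_le f2 _ hUf
            rw [f1, ← Nat.card_coe_set_eq, SetLike.coe_sort_coe, h1, pow_one]
          obtain ⟨y1, y2, y3⟩ := hy
          -- a fixed vector
          have hfix : ∃ w ∈ U, w ≠ 0 ∧ y w = w := by
            by_cases h : y u₀ = u₀
            · exact ⟨u₀, hu₀, hu00, h⟩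
            · refine ⟨u₀ + y u₀, U.add_mem hu₀ (y2 _ hu₀), ?_, ?_⟩
              · intro h0
                apply h
                have h4 : u₀ + y u₀ = u₀ + u₀ := by rw [h0, hV]
                exact add_left_cancel h4
              · rw [map_add, y3 _ hu₀, add_comm]
          obtain ⟨w, hw, hw0, hyw⟩ := hfix
          intro u hu
          have : u ∈ (U : Set V) := hu
          rw [hall w hw hw0] at this
          rcases this with rfl | rfl | rfl | rfl
          · exact map_zero _
          · exact hyw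
          · rw [y1 c hc w hw, hyw]
          · rw [y1 c hc _ (hinv c hc w hw), y1 c hc w hw, hyw]

/-- **The bound.** -/
theorem rank_bound [Finite V] (hV : ∀ v : V, v + v = 0) (H : Subgroup B) (hcomm : ∀ a ∈ H, ∀ b ∈ H, a * b = b * a)
    (hexp : ∀ a ∈ H, a ^ 3 = 1) (hfaith : ∀ h ∈ H, (∀ v : V, ρ h v = v) → h = 1) :
    ∃ r, Nat.card H = 3 ^ r ∧ 4 ^ r ≤ Nat.card V ∧ (Nat.card V = 4 ^ r → ∀ y : V →+ V,
      (∀ h ∈ H, ∀ v, y (ρ h v) = ρ h (y v)) → (∀ v, y (y v) = v) → ∀ v, y v = v) := by
  obtain ⟨r, h1, h2, h3⟩ := key (ρ := ρ) hV (Nat.card (⊤ : AddSubgroup V)) ⊤ H le_rfl hcomm hexp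
    (fun _ _ _ _ => AddSubgroup.mem_top _)
  have hbot : cen ρ H ⊤ = ⊥ := by
    rw [Subgroup.eq_bot_iff_forall]
    rintro x ⟨hx, hx'⟩
    exact hfaith x hx (fun v => hx' v (AddSubgroup.mem_top v))
  rw [hbot, Subgroup.relIndex_bot_left] at h1
  rw [AddSubgroup.card_top] at h2 h3
  exact ⟨r, h1, h2, fun h y a1 a2 v => h3 h y ⟨fun h hh u _ => a1 h hh u, fun _ _ => AddSubgroup.mem_top _,
    fun u _ => a2 u⟩ v (AddSubgroup.mem_top v)⟩

end Cfsg.Agent.SigZero.ThreeLin

end

-- merged: Cfsg.Agent.SigZero.CoThreeA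
section

/-!
# Elementary abelian 3-subgroups of `2.Sp₆(2)`

`G` a group, `t ∈ G`, `C(t)` the non-split double cover of `Sp₆(2)` (`N : NS (tC t) π`).  An elementary abelian
3-subgroup of `C(t)` of order at least 27 has order 27, and centralises in `C(t)` no involution but `t`.
-/

set_option autoImplicit false

namespace Cfsg.Agent.SigZero.CoThreeA

open Cfsg.Agent.SporRec.TwoSp6.Cox Cfsg.Agent.SporRec.TwoSp6.Sp Cfsg.Agent.SporRec.TwoSp6.Lift
  Cfsg.Agent.SporRec.TwoSp6.Main Cfsg.Agent.SporRec.TwoSp6.Invol Cfsg.Agent.SporRec.TwoSp6.CInvol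
open Cfsg.Agent.SporRec.Co3.Fusion (tC mem_cent t_sq t_ne)

/-- the natural representation of `Sp₆(2)` -/
def nat : S →* AddMonoid.End V where
  toFun g := AddMonoidHom.mk' (act g) (act_add g)
  map_one' := by
    ext1 x
    exact act_one x
  map_mul' g h := by
    ext1 x
    exact act_mul g h x

theorem card_V : Nat.card V = 64 := by
  rw [Nat.card_eq_fintype_card]
  simp [V, ZMod.card]

/-- in `Sp₆(2)` -/
theorem sp (H : Subgroup S) (hcomm : ∀ a ∈ H, ∀ b ∈ H, a * b = b * a) (hexp : ∀ a ∈ H, a ^ 3 = 1)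
    (hcard : 27 ≤ Nat.card H) :
    Nat.card H = 27 ∧ ∀ y : S, y * y = 1 → (∀ a ∈ H, a * y = y * a) → y = 1 := by
  obtain ⟨r, h1, h2, h3⟩ := ThreeLin.rank_bound (ρ := nat) add_self H hcomm hexp
    (fun h _ hv => act_ext (fun x => by rw [act_one]; exact hv x))
  rw [card_V] at h2 h3
  have hr : r = 3 := by
    have hr1 : r ≤ 3 := by
      by_contra hcon
      have : 4 ^ 4 ≤ 4 ^ r := Nat.pow_le_pow_right (by norm_num) (by omega)
      omega
    have hr2 : 3 ≤ r := by
      by_contra hcon
      have : 3 ^ r ≤ 3 ^ 2 := Nat.pow_le_pow_right (by norm_num) (by omega)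
      omega
    omega
  subst hr
  refine ⟨by rw [h1]; norm_num, fun y hy hc => ?_⟩
  apply act_ext
  intro x
  rw [act_one]
  have := h3 (by norm_num) (nat y) (fun h hh v => ?_) (fun v => ?_) x
  · exact this
  · show act y (act h v) = act h (act y v)
    rw [← act_mul, ← act_mul, hc h hh]
  · show act y (act y v) = v
    rw [← act_mul, hy, act_one]

/-- **In `2.Sp₆(2)`.** -/
theorem star {G : Type*} [Group G] {t : G} {π : Subgroup.centralizer ({t} : Set G) →* S}
    (N : NS (tC t) π) (B : Subgroup G) (hBt : ∀ b ∈ B, b * t = t * b) (hcomm : ∀ a ∈ B, ∀ b ∈ B, a * b = b * a)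
    (hexp : ∀ a ∈ B, a ^ 3 = 1) (hcard : 27 ≤ Nat.card B) :
    Nat.card B = 27 ∧ ∀ y : G, y * y = 1 → y * t = t * y → (∀ b ∈ B, b * y = y * b) → y = 1 ∨ y = t := by
  let C := Subgroup.centralizer ({t} : Set G)
  have hBC : B ≤ C := fun b hb => mem_cent.2 (hBt b hb)
  have hinj : Function.Injective (π.comp (Subgroup.inclusion hBC)) := by
    rw [injective_iff_map_eq_one]
    intro b hb
    have hb' : π (Subgroup.inclusion hBC b) = 1 := hb
    rcases N.ker _ hb' with h | h
    · exact Subgroup.inclusion_injective hBC (by rw [h, map_one])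
    · exfalso
      have h1 : (b : G) = t := congrArg Subtype.val h
      have h2 := hexp b b.2
      rw [h1, pow_succ, pow_two, t_sq N, one_mul] at h2
      exact t_ne N h2
  let H : Subgroup S := (π.comp (Subgroup.inclusion hBC)).range
  have hcH : Nat.card H = Nat.card B := (Nat.card_congr (MonoidHom.ofInjective hinj).toEquiv).symm
  have h1 := sp H ?_ ?_ (by rw [hcH]; exact hcard)
  · refine ⟨by rw [← hcH]; exact h1.1, fun y hy hyt hyB => ?_⟩
    have h2 : π ⟨y, mem_cent.2 hyt⟩ = 1 := by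
      apply h1.2
      · rw [← map_mul]
        have : (⟨y, mem_cent.2 hyt⟩ : C) * ⟨y, mem_cent.2 hyt⟩ = 1 := Subtype.ext hy
        rw [this, map_one]
      · rintro _ ⟨b, rfl⟩
        show π (Subgroup.inclusion hBC b) * π ⟨y, _⟩ = π ⟨y, _⟩ * π (Subgroup.inclusion hBC b)
        rw [← map_mul, ← map_mul]
        congr 1
        exact Subtype.ext (hyB b b.2)
    rcases N.ker _ h2 with h | h
    · exact Or.inl (congrArg Subtype.val h)
    · exact Or.inr (congrArg Subtype.val h)
  · rintro _ ⟨a, rfl⟩ _ ⟨b, rfl⟩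
    rw [← map_mul, ← map_mul]
    congr 1
    exact Subtype.ext (hcomm a a.2 b b.2)
  · rintro _ ⟨a, rfl⟩
    rw [← map_pow]
    have : a ^ 3 = 1 := Subtype.ext (hexp a a.2)
    rw [this, map_one]

end Cfsg.Agent.SigZero.CoThreeA

end

-- merged: Cfsg.Agent.SigZero.CoThreeB
section

/-!
# The centraliser `2 × M₁₂` in the third Conway group

`D` the dodecad of squares, `v2` the lattice vector with coordinate 2 off `D` and 0 on `D` (sum of squares 48), `w0` the
sign change on `D`; both in `Co0`, `w0` fixes `v2`.  If `g` fixes `v2` and commutes with `w0` then `g` is monomial, with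
permutation part in `M12` and signs `∅` or `D`:

* `proj : C → M12`, `C` the group of these elements, is onto with kernel `{1, w0}`;
* `card_C : |C| = 2 |M12|`.
-/

set_option autoImplicit false
open scoped Pointwise
open Cfsg

namespace Cfsg.Agent.SigZero.CoThreeB

open Cfsg.Agent.SporadicStructure.LeechBase
open Cfsg.Agent.SporadicStructure.GolayEven
open Cfsg.Agent.SporadicStructure.Co0Base
open Cfsg.Agent.SporadicStructure.StdCross

/-- the dodecad -/
abbrev D : Finset GolayPt := Spor.squareDodecad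

theorem hD : D ∈ supports (golayCode : Set (GolayPt → ZMod 2)) :=
  ⟨qrWord 0, Submodule.subset_span (Set.mem_union_left _ ⟨0, rfl⟩), rfl⟩

theorem card_D : D.card = 12 := by
  show (support₂ (qrWord 0)).card = 12
  rw [support₂_qrWord]
  exact gen_wt 0

/-! ### words of the code -/

theorem symmDiff_mem {s t : Finset GolayPt} (hs : s ∈ supports (golayCode : Set (GolayPt → ZMod 2)))
    (ht : t ∈ supports (golayCode : Set (GolayPt → ZMod 2))) :
    symmDiff s t ∈ supports (golayCode : Set (GolayPt → ZMod 2)) := by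
  obtain ⟨v, hv, rfl⟩ := hs
  obtain ⟨w, hw, rfl⟩ := ht
  exact ⟨v + w, Submodule.add_mem _ hv hw, support₂_add v w⟩

theorem hDc : Dᶜ ∈ supports (golayCode : Set (GolayPt → ZMod 2)) := by
  have h := symmDiff_mem hD Spor.univ_mem_supports_golayCode
  have h2 : symmDiff D Finset.univ = Dᶜ := by
    ext p
    rw [Finset.mem_symmDiff, Finset.mem_compl]
    simp
  rwa [h2] at h

theorem card_Dc : (Dᶜ : Finset GolayPt).card = 12 := by
  rw [Finset.card_compl, card_D]
  decide

theorem card_cases {s : Finset GolayPt} (hs : s ∈ supports (golayCode : Set (GolayPt → ZMod 2))) :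
    s.card = 0 ∨ s.card = 8 ∨ s.card = 12 ∨ s.card = 16 ∨ s.card = 24 := by
  obtain ⟨w, hw, rfl⟩ := hs
  exact Cfsg.Agent.S0359.result w hw

/-- the words inside a dodecad -/
theorem sub_dodecad {F s : Finset GolayPt} (hF : F ∈ supports (golayCode : Set (GolayPt → ZMod 2)))
    (hF12 : F.card = 12) (hs : s ∈ supports (golayCode : Set (GolayPt → ZMod 2))) (hsF : s ⊆ F) : s = ∅ ∨ s = F := by
  have h1 := Finset.card_le_card hsF
  rcases card_cases hs with h | h | h | h | h
  · exact Or.inl (Finset.card_eq_zero.1 h)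
  · exfalso
    have h2 := card_cases (symmDiff_mem hs hF)
    have h3 := card_symmDiff s F
    rw [Finset.inter_eq_left.2 hsF] at h3
    omega
  · exact Or.inr (Finset.eq_of_subset_of_card_le hsF (by omega))
  · omega
  · omega

/-! ### vectors of sum of squares 64 supported in a dodecad -/

/-- the coordinates of an even vector, halved -/
theorem code_half {x : GolayPt → ℤ} (hx : x ∈ leechLattice) {a : GolayPt → ℤ} (ha : ∀ i, x i = 2 * a i) :
    support₂ (red a) ∈ supports (golayCode : Set (GolayPt → ZMod 2)) := by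
  rw [mem_leech_iff] at hx
  obtain ⟨m, z, hz, hs, h⟩ := hx
  obtain ⟨k, hk⟩ : (2 : ℤ) ∣ m := by
    have h1 := h none
    rw [ha] at h1
    exact ⟨a none - z none, by linarith⟩
  refine ⟨red a, ?_, rfl⟩
  have : red a = (k : ZMod 2) • (1 : GolayPt → ZMod 2) + red z := by
    funext i
    have h1 : a i = k + z i := by
      have := h i
      rw [ha, hk] at this
      linarith
    simp only [red_apply, Pi.add_apply, Pi.smul_apply, Pi.one_apply, smul_eq_mul, mul_one]
    rw [h1]
    push_cast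
    rfl
  rw [this]
  exact Submodule.add_mem _ (Submodule.smul_mem _ _ one_mem_golayCode) hz

theorem mem_supp_red (a : GolayPt → ℤ) (i : GolayPt) : i ∈ support₂ (red a) ↔ a i % 2 = 1 := by
  rw [mem_support₂_red]
  rfl

theorem shape {F : Finset GolayPt} (hF : F ∈ supports (golayCode : Set (GolayPt → ZMod 2)))
    (hF12 : F.card = 12) {x : GolayPt → ℤ} (hx : x ∈ leechLattice) (hx0 : ∀ i, i ∉ F → x i = 0)
    (hn : sqNorm x = 64) : ∃ b : GolayPt → ℤ, (∀ i, x i = 4 * b i) ∧ ∑ i, b i ^ 2 = 4 := by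
  obtain ⟨j, hj⟩ : ∃ j, j ∉ F := by
    by_contra hcon
    push Not at hcon
    have : F = Finset.univ := Finset.eq_univ_iff_forall.2 hcon
    rw [this] at hF12
    revert hF12
    decide
  have hx' := hx
  rw [mem_leech_iff] at hx'
  obtain ⟨m, z, hz, hs, h⟩ := hx'
  have h1 := h j
  rw [hx0 j hj] at h1
  -- `x = 2 a`
  have ha : ∀ i, x i = 2 * (z i - z j) := by
    intro i
    rw [h i]; linarith only [h1]
  have hc := code_half hx ha
  rcases sub_dodecad hF hF12 hc (by
    intro i hi
    by_contra hiF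
    rw [mem_supp_red] at hi
    have h2 := ha i
    rw [hx0 i hiF] at h2
    omega) with h2 | h2
  · -- all even
    have h3 : ∀ i, ∃ b : ℤ, z i - z j = 2 * b := by
      intro i
      have : i ∉ support₂ (red fun i => z i - z j) := by rw [h2]; simp
      rw [mem_supp_red] at this
      exact ⟨(z i - z j) / 2, by omega⟩
    choose b hb using h3
    refine ⟨b, fun i => by rw [ha i, hb i]; ring, ?_⟩
    have : sqNorm x = 16 * ∑ i, b i ^ 2 := by
      rw [sqNorm, Finset.mul_sum]
      apply Finset.sum_congr rfl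
      intro i _
      rw [ha i, hb i]; ring
    rw [hn] at this
    linarith only [this]
  · -- all odd on `F`
    exfalso
    have h3 : sqNorm x = ∑ i ∈ F, x i ^ 2 := by
      rw [sqNorm]
      symm
      apply Finset.sum_subset (Finset.subset_univ _)
      intro i _ hi
      rw [hx0 i hi]; norm_num
    have h4 : ∀ i, ∃ k : ℤ, i ∈ F → x i ^ 2 = 4 + 32 * k := by
      intro i
      by_cases hi : i ∈ F
      · rw [← h2, mem_supp_red] at hi
        obtain ⟨l, hl⟩ : ∃ l : ℤ, z i - z j = 2 * l + 1 := ⟨(z i - z j) / 2, by omega⟩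
        obtain ⟨k, hk⟩ : ∃ k : ℤ, l * (l + 1) = 2 * k := by
          obtain ⟨k, hk⟩ := (Int.even_mul_succ_self l)
          exact ⟨k, by rw [hk]; ring⟩
        refine ⟨k, fun _ => ?_⟩
        rw [ha i, hl]
        have : (2 * (2 * l + 1)) ^ 2 = 4 + 16 * (l * (l + 1)) := by ring
        rw [this, hk]; ring
      · exact ⟨0, fun h => absurd h hi⟩
    choose k hk using h4
    have h5 : ∑ i ∈ F, x i ^ 2 = ∑ i ∈ F, (4 + 32 * k i) := Finset.sum_congr rfl (fun i hi => hk i hi)
    rw [← h3, hn, Finset.sum_add_distrib, Finset.sum_const, hF12, ← Finset.mul_sum, nsmul_eq_mul] at h5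
    push_cast at h5
    omega

/-- the odd coordinates -/
theorem card_odd {b : GolayPt → ℤ} (hb : ∑ i, b i ^ 2 = 4) : (support₂ (red b)).card ≤ 4 := by
  have h1 : ∑ i ∈ support₂ (red b), (1 : ℤ) ≤ ∑ i ∈ support₂ (red b), b i ^ 2 := by
    apply Finset.sum_le_sum
    intro i hi
    rw [mem_supp_red] at hi
    have : b i ≠ 0 := by intro h; rw [h] at hi; norm_num at hi
    have := Int.one_le_abs this
    nlinarith only [this, sq_abs (b i)]
  have h2 : ∑ i ∈ support₂ (red b), b i ^ 2 ≤ ∑ i, b i ^ 2 :=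
    Finset.sum_le_sum_of_subset_of_nonneg (Finset.subset_univ _) (fun i _ _ => sq_nonneg _)
  rw [hb] at h2
  simp only [Finset.sum_const, nsmul_eq_mul, mul_one] at h1
  exact_mod_cast h1.trans h2

/-- an odd coordinate forces all nonzero ones to be odd -/
theorem odd_of_odd {b : GolayPt → ℤ} (hb : ∑ i, b i ^ 2 = 4) {j : GolayPt} (hj : j ∈ support₂ (red b)) {i : GolayPt}
    (hi : b i ≠ 0) : i ∈ support₂ (red b) := by
  rw [mem_supp_red] at hj ⊢
  by_contra hcon
  have hij : i ≠ j := by rintro rfl; exact hcon hj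
  have h1 : b i ^ 2 + b j ^ 2 ≤ 4 := by
    have : ∑ k ∈ {i, j}, b k ^ 2 ≤ ∑ k, b k ^ 2 :=
      Finset.sum_le_sum_of_subset_of_nonneg (Finset.subset_univ _) (fun i _ _ => sq_nonneg _)
    rwa [hb, Finset.sum_pair hij] at this
  obtain ⟨k, hk⟩ : ∃ k, b i = 2 * k := ⟨b i / 2, by omega⟩
  have hk0 : k ≠ 0 := by rintro rfl; exact hi (by rw [hk]; ring)
  have hj0 : b j ≠ 0 := by intro h; rw [h] at hj; norm_num at hj
  have h2 : 1 ≤ k ^ 2 := by
    have := Int.one_le_abs hk0
    nlinarith only [this, sq_abs k]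
  have h3 : 1 ≤ (b j) ^ 2 := by
    have := Int.one_le_abs hj0
    nlinarith only [this, sq_abs (b j)]
  rw [hk] at h1
  linarith only [h1, h2, h3]

/-- no odd coordinate: a single coordinate `± 2` -/
theorem single_of_even {b : GolayPt → ℤ} (hb : ∑ i, b i ^ 2 = 4) (h : support₂ (red b) = ∅) :
    ∃ (j : GolayPt) (s : ℤ), (s = 2 ∨ s = -2) ∧ b = Pi.single j s := by
  have h1 : ∀ i, ∃ c : ℤ, b i = 2 * c := by
    intro i
    have : i ∉ support₂ (red b) := by rw [h]; simp
    rw [mem_supp_red] at this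
    exact ⟨b i / 2, by omega⟩
  choose c hc using h1
  have h2 : ∑ i, c i ^ 2 = 1 := by
    have : ∑ i, b i ^ 2 = 4 * ∑ i, c i ^ 2 := by
      rw [Finset.mul_sum]
      apply Finset.sum_congr rfl
      intro i _
      rw [hc]; ring
    rw [hb] at this
    linarith
  obtain ⟨j, hj⟩ : ∃ j, c j ≠ 0 := by
    by_contra hcon
    push Not at hcon
    have : ∑ i, c i ^ 2 = 0 := Finset.sum_eq_zero (fun i _ => by rw [hcon i]; norm_num)
    omega
  have h3 : c j ^ 2 = 1 := by
    have h4 : c j ^ 2 ≤ ∑ i, c i ^ 2 := Finset.single_le_sum (f := fun i => c i ^ 2) (fun i _ => sq_nonneg _) (Finset.mem_univ j)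
    have h5 : 1 ≤ c j ^ 2 := by
      have := Int.one_le_abs hj
      nlinarith only [this, sq_abs (c j)]
    linarith
  have h4 : ∀ i, i ≠ j → c i = 0 := by
    intro i hi
    have h5 : c i ^ 2 + c j ^ 2 ≤ 1 := by
      have : ∑ k ∈ {i, j}, c k ^ 2 ≤ ∑ k, c k ^ 2 :=
        Finset.sum_le_sum_of_subset_of_nonneg (Finset.subset_univ _) (fun i _ _ => sq_nonneg _)
      rwa [h2, Finset.sum_pair hi] at this
    have h6 : c i ^ 2 ≤ 0 := by linarith
    exact pow_eq_zero_iff (two_ne_zero) |>.1 (le_antisymm h6 (sq_nonneg _))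
  refine ⟨j, 2 * c j, ?_, ?_⟩
  · have : (c j - 1) * (c j + 1) = 0 := by linarith [h3, show (c j - 1) * (c j + 1) = c j ^ 2 - 1 by ring]
    rcases mul_eq_zero.1 this with h | h
    · left; linarith
    · right; linarith
  · funext i
    by_cases hi : i = j
    · subst hi; rw [Pi.single_eq_same, hc]
    · rw [Pi.single_eq_of_ne hi, hc, h4 i hi, mul_zero]

/-! ### the vector and the involution -/

theorem v2_mem : (fun i => if i ∈ (Dᶜ : Finset GolayPt) then 2 else 0 : GolayPt → ℤ) ∈ leechLattice := two_on_mem hDc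

/-- coordinate 2 off `D`, 0 on `D` -/
def v2 : leechLattice := ⟨_, v2_mem⟩

theorem v2_apply (i : GolayPt) : (v2 : GolayPt → ℤ) i = if i ∈ D then 0 else 2 := by
  show (if i ∈ (Dᶜ : Finset GolayPt) then 2 else 0 : ℤ) = _
  by_cases h : i ∈ D
  · rw [if_pos h, if_neg (by rw [Finset.mem_compl, not_not]; exact h)]
  · rw [if_neg h, if_pos (by rw [Finset.mem_compl]; exact h)]

theorem norm_v2 : sqNorm (v2 : GolayPt → ℤ) = 48 := by
  have h1 : ∀ i, (v2 : GolayPt → ℤ) i ^ 2 = if i ∈ (Dᶜ : Finset GolayPt) then 4 else 0 := by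
    intro i
    show (if i ∈ (Dᶜ : Finset GolayPt) then 2 else 0 : ℤ) ^ 2 = _
    by_cases h : i ∈ (Dᶜ : Finset GolayPt)
    · rw [if_pos h, if_pos h]; norm_num
    · rw [if_neg h, if_neg h]; norm_num
  rw [sqNorm, Finset.sum_congr rfl (fun i _ => h1 i), Finset.sum_ite_mem, Finset.univ_inter, Finset.sum_const,
    card_Dc]
  norm_num

/-- the sign change on `D` -/
noncomputable def w0 : Co0 := monomial 1 M24.one_mem D hD

theorem w0_apply (x : leechLattice) (i : GolayPt) :
    ((w0 • x : leechLattice) : GolayPt → ℤ) i = if i ∈ D then -(x : GolayPt → ℤ) i else (x : GolayPt → ℤ) i := rfl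

theorem w0_sq : w0 * w0 = 1 := by
  apply co0_ext
  intro x
  apply Subtype.ext
  funext i
  rw [mul_smul, w0_apply, w0_apply, one_smul]
  by_cases h : i ∈ D
  · rw [if_pos h, if_pos h, neg_neg]
  · rw [if_neg h, if_neg h]

theorem w0_v2 : w0 • v2 = v2 := by
  apply Subtype.ext
  funext i
  rw [w0_apply, v2_apply]
  by_cases h : i ∈ D
  · rw [if_pos h, if_pos h, neg_zero]
  · rw [if_neg h]

theorem w0_ne : w0 ≠ 1 := by
  intro h
  obtain ⟨i, hi⟩ : D.Nonempty := by
    rw [← Finset.card_pos, card_D]; norm_num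
  have h1 := congrArg (fun g : Co0 => ((g • e8 i : leechLattice) : GolayPt → ℤ) i) h
  simp only [w0_apply, if_pos hi, one_smul, e8_coe, Pi.single_eq_same] at h1
  norm_num at h1

theorem w0_e8 (i : GolayPt) : w0 • e8 i = if i ∈ D then -e8 i else e8 i := by
  apply Subtype.ext
  funext j
  rw [w0_apply]
  by_cases hi : i ∈ D
  · rw [if_pos hi, AddSubgroup.coe_neg, Pi.neg_apply, e8_coe]
    by_cases hj : j ∈ D
    · rw [if_pos hj]
    · rw [if_neg hj, Pi.single_eq_of_ne (by rintro rfl; exact hj hi), neg_zero]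
  · rw [if_neg hi, e8_coe]
    by_cases hj : j ∈ D
    · rw [if_pos hj, Pi.single_eq_of_ne (by rintro rfl; exact hi hj), neg_zero]
    · rw [if_neg hj]

theorem norm_e8 (i : GolayPt) : sqNorm ((e8 i : leechLattice) : GolayPt → ℤ) = 64 := by
  rw [e8_coe, sqNorm, Finset.sum_eq_single i]
  · rw [Pi.single_eq_same]; norm_num
  · intro j _ hj; rw [Pi.single_eq_of_ne hj]; norm_num
  · intro h; exact absurd (Finset.mem_univ i) h

/-- `4 e_i - 4 e_j` -/
theorem half_mem (i j : GolayPt) : (fun k => 4 * ((Pi.single i 1 : GolayPt → ℤ) k - (Pi.single j 1 : GolayPt → ℤ) k)) ∈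
    leechLattice := by
  apply four_mul_mem
  rw [Finset.sum_sub_distrib]
  simp

theorem e8_sub (i j : GolayPt) : ∃ u : leechLattice, e8 i - e8 j = u + u := by
  refine ⟨⟨_, half_mem i j⟩, ?_⟩
  apply Subtype.ext
  funext k
  rw [AddSubgroup.coe_sub, AddSubgroup.coe_add, Pi.sub_apply, Pi.add_apply, e8_coe, e8_coe]
  show _ = 4 * ((Pi.single i 1 : GolayPt → ℤ) k - (Pi.single j 1 : GolayPt → ℤ) k) +
    4 * ((Pi.single i 1 : GolayPt → ℤ) k - (Pi.single j 1 : GolayPt → ℤ) k)
  have h : ∀ i : GolayPt, (Pi.single i 8 : GolayPt → ℤ) k = 8 * (Pi.single i 1 : GolayPt → ℤ) k := by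
    intro i
    by_cases hk : k = i
    · subst hk; rw [Pi.single_eq_same, Pi.single_eq_same]; norm_num
    · rw [Pi.single_eq_of_ne hk, Pi.single_eq_of_ne hk]; norm_num
  rw [h, h]; ring

section Cent

variable {g : Co0} (hv : g • v2 = v2) (hw : g * w0 = w0 * g)

include hw in
/-- the image of `8 e_i` is supported in `D` or off `D`, as `i` -/
theorem supp (i j : GolayPt) (hij : ¬ (i ∈ D ↔ j ∈ D)) : ((g • e8 i : leechLattice) : GolayPt → ℤ) j = 0 := by
  have h1 : w0 • (g • e8 i) = g • (w0 • e8 i) := by rw [← mul_smul, ← hw, mul_smul]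
  have h2 := congrArg (fun x : leechLattice => (x : GolayPt → ℤ) j) h1
  simp only [w0_apply, w0_e8] at h2
  by_cases hi : i ∈ D
  · have hj : j ∉ D := fun hj => hij ⟨fun _ => hj, fun _ => hi⟩
    rw [if_neg hj, if_pos hi, co0_smul_neg, AddSubgroup.coe_neg, Pi.neg_apply] at h2
    omega
  · have hj : j ∈ D := by
      by_contra hj
      exact hij ⟨fun h => absurd h hi, fun h => absurd h hj⟩
    rw [if_pos hj, if_neg hi] at h2
    omega

/-- the dodecad of `i` -/
def Fi (i : GolayPt) : Finset GolayPt := if i ∈ D then D else Dᶜ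

theorem Fi_mem (i : GolayPt) : Fi i ∈ supports (golayCode : Set (GolayPt → ZMod 2)) := by
  unfold Fi
  split_ifs
  · exact hD
  · exact hDc

theorem Fi_card (i : GolayPt) : (Fi i).card = 12 := by
  unfold Fi
  split_ifs
  · exact card_D
  · exact card_Dc

theorem mem_Fi (i j : GolayPt) : j ∈ Fi i ↔ (i ∈ D ↔ j ∈ D) := by
  unfold Fi
  split_ifs with h
  · exact ⟨fun h' => ⟨fun _ => h', fun _ => h⟩, fun h' => h'.1 h⟩
  · rw [Finset.mem_compl]
    exact ⟨fun h' => ⟨fun h'' => absurd h'' h, fun h'' => absurd h'' h'⟩, fun h' h'' => h (h'.2 h'')⟩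

include hv hw in
/-- **The elements of `Co0` fixing `v2` and commuting with `w0` preserve the standard cross.** -/
theorem cent_cross : PreservesCross g := by
  have h1 : ∀ i, ∃ b : GolayPt → ℤ, (∀ j, ((g • e8 i : leechLattice) : GolayPt → ℤ) j = 4 * b j) ∧
      ∑ j, b j ^ 2 = 4 := by
    intro i
    refine shape (Fi_mem i) (Fi_card i) (g • e8 i : leechLattice).2 ?_ ?_
    · intro j hj
      rw [mem_Fi] at hj
      exact supp hw i j hj
    · rw [co0_sqNorm, norm_e8]
  choose b hb hb4 using h1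
  have hb0 : ∀ i j, j ∉ Fi i → b i j = 0 := by
    intro i j hj
    rw [mem_Fi] at hj
    have := supp hw i j hj
    rw [hb] at this
    omega
  have hsub : ∀ i, support₂ (red (b i)) ⊆ Fi i := by
    intro i j hj
    by_contra hcon
    rw [mem_supp_red, hb0 i j hcon] at hj
    norm_num at hj
  -- the symmetric differences are words
  have hsym : ∀ i j, symmDiff (support₂ (red (b i))) (support₂ (red (b j))) ∈
      supports (golayCode : Set (GolayPt → ZMod 2)) := by
    intro i j
    obtain ⟨u, hu⟩ := e8_sub i j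
    have h2 : ∀ k, ((g • u : leechLattice) : GolayPt → ℤ) k = 2 * (b i k - b j k) := by
      intro k
      have h3 : g • e8 i - g • e8 j = g • u + g • u := by rw [← co0_smul_sub, hu, co0_smul_add]
      have h4 := congrArg (fun x : leechLattice => (x : GolayPt → ℤ) k) h3
      simp only [AddSubgroup.coe_sub, AddSubgroup.coe_add, Pi.sub_apply, Pi.add_apply, hb] at h4
      linarith only [h4]
    have h5 := code_half (g • u : leechLattice).2 h2
    have h6 : red (fun k => b i k - b j k) = red (b i) + red (b j) := by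
      have : (fun k => b i k - b j k) = b i - b j := rfl
      rw [this, red_sub]
      funext k
      simp only [Pi.sub_apply, Pi.add_apply]
      have h7 : ∀ x y : ZMod 2, x - y = x + y := by decide
      exact h7 _ _
    rw [h6, support₂_add] at h5
    exact h5
  have hcard : ∀ i, (support₂ (red (b i))).card ≤ 4 := fun i => card_odd (hb4 i)
  obtain ⟨k₀, hk₀⟩ : ∃ k, k ∉ D := by
    by_contra hcon
    push Not at hcon
    have h2 : D = Finset.univ := Finset.eq_univ_iff_forall.2 hcon
    have h3 := card_D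
    rw [h2] at h3
    revert h3
    decide
  -- all equal off `D`
  have heq : ∀ i, i ∉ D → support₂ (red (b i)) = support₂ (red (b k₀)) := by
    intro i hi
    have hFi : Fi i = Dᶜ := if_neg hi
    have hFk : Fi k₀ = Dᶜ := if_neg hk₀
    have hs : symmDiff (support₂ (red (b i))) (support₂ (red (b k₀))) ⊆ Dᶜ := by
      intro j hj
      rw [Finset.mem_symmDiff] at hj
      rcases hj with hj | hj
      · rw [← hFi]; exact hsub i hj.1
      · rw [← hFk]; exact hsub k₀ hj.1
    rcases sub_dodecad hDc card_Dc (hsym i k₀) hs with h | h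
    · exact symmDiff_eq_bot.1 h
    · exfalso
      have h2 := card_symmDiff (support₂ (red (b i))) (support₂ (red (b k₀)))
      rw [h, card_Dc] at h2
      have := hcard i
      have := hcard k₀
      omega
  -- `8` on `Dᶜ`
  have hsum : ∀ j, ∑ i ∈ (Dᶜ : Finset GolayPt), b i j = (v2 : GolayPt → ℤ) j := by
    intro j
    have h2 := eight_mul_co0 g v2 j
    rw [hv] at h2
    have h3 : ∀ i, (v2 : GolayPt → ℤ) i * ((g • e8 i : leechLattice) : GolayPt → ℤ) j =
        if i ∈ (Dᶜ : Finset GolayPt) then 8 * b i j else 0 := by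
      intro i
      rw [v2_apply, hb]
      by_cases hi : i ∈ D
      · rw [if_pos hi, if_neg (by rw [Finset.mem_compl, not_not]; exact hi), zero_mul]
      · rw [if_neg hi, if_pos (by rw [Finset.mem_compl]; exact hi)]; ring
    rw [Finset.sum_congr rfl (fun i _ => h3 i), Finset.sum_ite_mem, Finset.univ_inter, ← Finset.mul_sum] at h2
    linarith only [h2]
  have hempty : support₂ (red (b k₀)) = ∅ := by
    by_contra hne
    obtain ⟨l, hl⟩ := Finset.nonempty_iff_ne_empty.2 hne
    obtain ⟨j, hj, hj'⟩ : ∃ j ∈ (Dᶜ : Finset GolayPt), j ∉ support₂ (red (b k₀)) := by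
      by_contra hcon
      push Not at hcon
      have := Finset.card_le_card hcon
      rw [card_Dc] at this
      have := hcard k₀
      omega
    have h2 := hsum j
    rw [v2_apply, if_neg (Finset.mem_compl.1 hj), Finset.sum_eq_zero] at h2
    · norm_num at h2
    · intro i hi
      by_contra h3
      apply hj'
      have hi' := heq i (Finset.mem_compl.1 hi)
      rw [← hi']
      exact odd_of_odd (hb4 i) (j := l) (by rw [hi']; exact hl) h3
  have hall : ∀ i, support₂ (red (b i)) = ∅ := by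
    intro i
    by_cases hi : i ∈ D
    · have h2 := hsym i k₀
      rw [hempty] at h2
      have h3 : symmDiff (support₂ (red (b i))) ∅ = support₂ (red (b i)) := symmDiff_bot _
      rw [h3] at h2
      have hFi : Fi i = D := if_pos hi
      rcases sub_dodecad hD card_D h2 (by rw [← hFi]; exact hsub i) with h | h
      · exact h
      · exfalso
        have := hcard i
        rw [h, card_D] at this
        omega
    · rw [heq i hi, hempty]
  -- conclusion
  rintro x ⟨i, s, hs, hx⟩
  obtain ⟨j, t, ht, hbj⟩ := single_of_even (hb4 i) (hall i)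
  have hge : ((g • e8 i : leechLattice) : GolayPt → ℤ) = Pi.single j (4 * t) := by
    funext k
    rw [hb, hbj]
    by_cases hk : k = j
    · subst hk; rw [Pi.single_eq_same, Pi.single_eq_same]
    · rw [Pi.single_eq_of_ne hk, Pi.single_eq_of_ne hk, mul_zero]
  rcases hs with rfl | rfl
  · have hxe : x = e8 i := Subtype.ext hx
    refine ⟨j, 4 * t, ?_, ?_⟩
    · rcases ht with rfl | rfl
      · left; norm_num
      · right; norm_num
    · rw [hxe, hge]
  · have hxe : x = -e8 i := by
      apply Subtype.ext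
      rw [hx, AddSubgroup.coe_neg, e8_coe]
      funext k
      rw [Pi.neg_apply]
      by_cases hk : k = i
      · subst hk; rw [Pi.single_eq_same, Pi.single_eq_same]
      · rw [Pi.single_eq_of_ne hk, Pi.single_eq_of_ne hk, neg_zero]
    refine ⟨j, -(4 * t), ?_, ?_⟩
    · rcases ht with rfl | rfl
      · right; norm_num
      · left; norm_num
    · rw [hxe, co0_smul_neg, AddSubgroup.coe_neg, hge]
      funext k
      rw [Pi.neg_apply]
      by_cases hk : k = j
      · subst hk; rw [Pi.single_eq_same, Pi.single_eq_same]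
      · rw [Pi.single_eq_of_ne hk, Pi.single_eq_of_ne hk, neg_zero]

include hv hw in
/-- the monomial form -/
theorem exists_form : ∃ σ : Spor.M12, ∃ c : Finset GolayPt, (c = ∅ ∨ c = D) ∧
    ∀ x : leechLattice, ((g • x : leechLattice) : GolayPt → ℤ) = signedPerm σ c x := by
  obtain ⟨σ, hσ, c, hc, h⟩ := exists_signedPerm g (cent_cross hv hw)
  have hσD : ∀ i, (i ∈ D ↔ σ i ∈ D) := by
    intro i
    by_contra hcon
    have h1 := supp hw i (σ i) hcon
    rw [h, signedPerm_apply, e8_coe, Equiv.symm_apply_apply, Pi.single_eq_same] at h1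
    split_ifs at h1 <;> norm_num at h1
  have hcD : c ⊆ D := by
    intro i hi
    by_contra hiD
    have h1 := congrArg (fun x : leechLattice => (x : GolayPt → ℤ) i) hv
    simp only [h, signedPerm_apply, if_pos hi, v2_apply, if_neg hiD] at h1
    have h2 : σ.symm i ∉ D := by
      rw [hσD, Equiv.apply_symm_apply]; exact hiD
    rw [if_neg h2] at h1
    norm_num at h1
  have hσ12 : σ ∈ Spor.M12 := by
    refine ⟨hσ, ?_⟩
    show σ • Spor.squareDodecad = Spor.squareDodecad
    ext i
    rw [Finset.mem_smul_finset]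
    constructor
    · rintro ⟨j, hj, rfl⟩
      exact (hσD j).1 hj
    · intro hi
      refine ⟨σ.symm i, ?_, by simp⟩
      have : i ∈ D := hi
      show σ.symm i ∈ D
      rw [hσD, Equiv.apply_symm_apply]; exact this
  exact ⟨⟨σ, hσ12⟩, c, sub_dodecad hD card_D hc hcD, h⟩

end Cent

/-! ### the centraliser -/

/-- the third Conway group, as the stabiliser of `v2` -/
abbrev K : Subgroup Co0 := MulAction.stabilizer Co0 v2

/-- the involution of `K` -/
noncomputable def wK : K := ⟨w0, w0_v2⟩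

/-- its centraliser -/
noncomputable abbrev C : Subgroup K := Subgroup.centralizer ({wK} : Set K)

theorem mem_C {g : K} : g ∈ C ↔ g * wK = wK * g := Subgroup.mem_centralizer_singleton_iff

theorem wK_sq : wK * wK = 1 := Subtype.ext w0_sq

theorem wK_ne : wK ≠ 1 := fun h => w0_ne (congrArg Subtype.val h)

/-- `σ` is the permutation of `g` -/
def T (g : Co0) (σ : Equiv.Perm GolayPt) : Prop :=
  ∀ i j, ((g • e8 i : leechLattice) : GolayPt → ℤ) j ≠ 0 ↔ j = σ i

theorem T_of_form {g : Co0} {σ : Equiv.Perm GolayPt} {c : Finset GolayPt}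
    (h : ∀ x : leechLattice, ((g • x : leechLattice) : GolayPt → ℤ) = signedPerm σ c x) : T g σ := by
  intro i j
  rw [h, signedPerm_apply, e8_coe]
  have h1 : (Pi.single i 8 : GolayPt → ℤ) (σ.symm j) ≠ 0 ↔ j = σ i := by
    rw [Pi.single_apply]
    constructor
    · intro h2
      by_cases h3 : σ.symm j = i
      · rw [← h3, Equiv.apply_symm_apply]
      · rw [if_neg h3] at h2; exact absurd rfl h2
    · rintro rfl
      rw [Equiv.symm_apply_apply, if_pos rfl]; norm_num
  rw [← h1]
  by_cases hj : j ∈ c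
  · rw [if_pos hj, neg_ne_zero]
  · rw [if_neg hj]

theorem T_unique {g : Co0} {σ τ : Equiv.Perm GolayPt} (h : T g σ) (h' : T g τ) : σ = τ := by
  ext1 i
  rw [← h' i (σ i), h i (σ i)]

theorem exists_T (g : C) : ∃ σ : Spor.M12, ∃ c : Finset GolayPt, (c = ∅ ∨ c = D) ∧
    ∀ x : leechLattice, (((g : K) : Co0) • x : leechLattice) = signedPerm σ c x :=
  exists_form (g : K).2 (congrArg Subtype.val (mem_C.1 g.2))

/-- the permutation part -/
noncomputable def pr (g : C) : Spor.M12 := (exists_T g).choose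

/-- the signs -/
noncomputable def sg (g : C) : Finset GolayPt := (exists_T g).choose_spec.choose

theorem sg_cases (g : C) : sg g = ∅ ∨ sg g = D := (exists_T g).choose_spec.choose_spec.1

theorem form (g : C) (x : leechLattice) : ((((g : K) : Co0) • x : leechLattice) : GolayPt → ℤ) =
    signedPerm (pr g : Equiv.Perm GolayPt) (sg g) x := (exists_T g).choose_spec.choose_spec.2 x

theorem T_pr (g : C) : T ((g : K) : Co0) (pr g : Equiv.Perm GolayPt) := T_of_form (form g)

theorem T_mul {g h : C} : T ((g * h : C) : K) ((pr g * pr h : Spor.M12) : Equiv.Perm GolayPt) := by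
  intro i j
  have h1 : (((g * h : C) : K) : Co0) • e8 i = ((g : K) : Co0) • (((h : K) : Co0) • e8 i) := mul_smul _ _ _
  rw [h1, form g, signedPerm_apply]
  have h2 := T_pr h i ((pr g : Equiv.Perm GolayPt).symm j)
  have h3 : (pr g : Equiv.Perm GolayPt).symm j = (pr h : Equiv.Perm GolayPt) i ↔
      j = ((pr g * pr h : Spor.M12) : Equiv.Perm GolayPt) i := by
    rw [Equiv.symm_apply_eq]
    rfl
  rw [← h3, ← h2]
  by_cases hj : j ∈ sg g
  · rw [if_pos hj, neg_ne_zero]
  · rw [if_neg hj]

/-- **The projection onto `M12`.** -/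
noncomputable def proj : C →* Spor.M12 :=
  MonoidHom.mk' pr (fun g h => Subtype.ext (T_unique (T_pr (g * h)) T_mul))

theorem ker_proj {g : C} (h : proj g = 1) : g = 1 ∨ (g : K) = wK := by
  have h1 : pr g = 1 := h
  rcases sg_cases g with hs | hs
  · left
    apply Subtype.ext
    apply Subtype.ext
    apply co0_ext
    intro x
    apply Subtype.ext
    rw [form, h1, hs]
    funext i
    rw [signedPerm_apply, if_neg (Finset.notMem_empty i)]
    rfl
  · right
    apply Subtype.ext
    apply co0_ext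
    intro x
    apply Subtype.ext
    rw [form, h1, hs]
    rfl

theorem proj_surj : Function.Surjective proj := by
  intro σ
  have hσ : (σ : Equiv.Perm GolayPt) ∈ M24 := σ.2.1
  have hσD : ∀ i, (σ : Equiv.Perm GolayPt) i ∈ D ↔ i ∈ D := by
    intro i
    have h1 : (σ : Equiv.Perm GolayPt) • D = D := σ.2.2
    have h2 : (σ : Equiv.Perm GolayPt) • i ∈ (σ : Equiv.Perm GolayPt) • D ↔ i ∈ D :=
      Finset.smul_mem_smul_finset_iff _
    rw [h1] at h2
    exact h2
  have hσs : ∀ i, (σ : Equiv.Perm GolayPt).symm i ∈ D ↔ i ∈ D := by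
    intro i
    rw [← hσD, Equiv.apply_symm_apply]
  let g₀ : Co0 := monomial (σ : Equiv.Perm GolayPt) hσ ∅ Spor.empty_mem_supports_golayCode
  have hg₀ : ∀ (x : leechLattice) (i : GolayPt), ((g₀ • x : leechLattice) : GolayPt → ℤ) i =
      (x : GolayPt → ℤ) ((σ : Equiv.Perm GolayPt).symm i) := by
    intro x i
    show signedPerm (σ : Equiv.Perm GolayPt) ∅ x i = _
    rw [signedPerm_apply, if_neg (Finset.notMem_empty i)]
  have h1 : g₀ • v2 = v2 := by
    apply Subtype.ext
    funext i
    rw [hg₀, v2_apply, v2_apply]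
    by_cases hi : i ∈ D
    · rw [if_pos hi, if_pos ((hσs i).2 hi)]
    · rw [if_neg hi, if_neg (fun h => hi ((hσs i).1 h))]
  have h2 : g₀ * w0 = w0 * g₀ := by
    apply co0_ext
    intro x
    apply Subtype.ext
    funext i
    rw [mul_smul, mul_smul, hg₀, w0_apply, w0_apply, hg₀]
    by_cases hi : i ∈ D
    · rw [if_pos hi, if_pos ((hσs i).2 hi)]
    · rw [if_neg hi, if_neg (fun h => hi ((hσs i).1 h))]
  refine ⟨⟨⟨g₀, h1⟩, mem_C.2 (Subtype.ext h2)⟩, ?_⟩
  apply Subtype.ext
  exact T_unique (T_pr _) (T_of_form (c := ∅) (fun x => rfl))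

end Cfsg.Agent.SigZero.CoThreeB

end

-- merged: Cfsg.Agent.SigZero.CoThreeM12
section

/-!
# The 3-rank of `M₁₂` is two

A nontrivial element of `M12` fixes at most four points of the dodecad; an elementary abelian 3-group of order
at least 27 acting on twelve points has a nontrivial element with more fixed points.
-/

set_option autoImplicit false

namespace Cfsg.Agent.SigZero.CoThreeM12

open Cfsg
open scoped Pointwise

/-- **Twelve points.** -/
theorem perm_bound {P Ω : Type*} [Group P] [Finite P] [Fintype Ω] [DecidableEq Ω] [MulAction P Ω] (D : Finset Ω)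
    (h12 : D.card = 12) (hD : ∀ g : P, ∀ p ∈ D, g • p ∈ D)
    (hcomm : ∀ a b : P, a * b = b * a) (hexp : ∀ a : P, a ^ 3 = 1)
    (h4 : ∀ g : P, g ≠ 1 → (D.filter (fun p => g • p = p)).card ≤ 4) : Nat.card P < 27 := by
  classical
  by_contra hcon
  have h27 : 27 ≤ Nat.card P := by omega
  -- a nontrivial subgroup fixes at most four points
  have hsub : ∀ (Q : Subgroup P) (F : Finset Ω), Q ≠ ⊥ → F ⊆ D → (∀ p ∈ F, ∀ g ∈ Q, g • p = p) → F.card ≤ 4 := by
    intro Q F hQ hFD hF
    obtain ⟨g, hg⟩ := Subgroup.ne_bot_iff_exists_ne_one.1 hQ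
    have hg1 : (g : P) ≠ 1 := fun h => hg (Subtype.ext h)
    refine le_trans (Finset.card_le_card ?_) (h4 (g : P) hg1)
    intro p hp
    exact Finset.mem_filter.2 ⟨hFD hp, hF p hp g g.2⟩
  have hnt : ∀ Q : Subgroup P, Q.index < 27 → Q ≠ ⊥ := by
    rintro Q hQ rfl
    rw [Subgroup.index_bot] at hQ
    omega
  let orb : Ω → Finset Ω := fun p => (MulAction.orbit P p).toFinset
  have horb : ∀ p, p ∈ D → orb p ⊆ D := by
    intro p hp q hq
    obtain ⟨g, rfl⟩ := MulAction.mem_orbit_iff.1 (Set.mem_toFinset.1 hq)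
    exact hD g p hp
  have hidx : ∀ p, (MulAction.stabilizer P p).index = (orb p).card := by
    intro p
    rw [MulAction.index_stabilizer, Set.ncard_eq_toFinset_card']
  have hfix : ∀ p q, q ∈ orb p → ∀ g ∈ MulAction.stabilizer P p, g • q = q := by
    intro p q hq g hg
    obtain ⟨k, rfl⟩ := MulAction.mem_orbit_iff.1 (Set.mem_toFinset.1 hq)
    rw [← mul_smul, hcomm, mul_smul, MulAction.mem_stabilizer_iff.1 hg]
  have h4' : ∀ p ∈ D, (orb p).card ≤ 4 := by
    intro p hp
    refine hsub (MulAction.stabilizer P p) (orb p) (hnt _ ?_) (horb p hp) (fun q hq g hg => hfix p q hq g hg)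
    rw [hidx]
    exact lt_of_le_of_lt (Finset.card_le_card (horb p hp)) (by omega)
  have hpg : IsPGroup 3 P := fun g => ⟨1, by simpa using hexp g⟩
  have h13 : ∀ p ∈ D, (orb p).card = 1 ∨ (orb p).card = 3 := by
    intro p hp
    have : Fact (Nat.Prime 3) := ⟨Nat.prime_three⟩
    obtain ⟨n, hn⟩ := hpg.exists_card_eq
    have h1 : (orb p).card ∣ 3 ^ n := by
      rw [← hidx, ← hn]
      exact Subgroup.index_dvd_card _
    obtain ⟨k, _, hk⟩ := (Nat.dvd_prime_pow Nat.prime_three).1 h1
    have h2 : (orb p).card ≤ 4 := h4' p hp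
    rw [hk] at h2 ⊢
    rcases k with _ | _ | k
    · exact Or.inl rfl
    · exact Or.inr rfl
    · exfalso
      have h3 : 3 ^ 2 ≤ 3 ^ (k + 2) := Nat.pow_le_pow_right (by norm_num) (by omega)
      have h5 : k + 1 + 1 = k + 2 := rfl
      rw [h5] at h2
      exact absurd (h3.trans h2) (by norm_num)
  have hself : ∀ p, p ∈ orb p := fun p => Set.mem_toFinset.2 (MulAction.mem_orbit_self p)
  have hone : ∀ p, (orb p).card = 1 → ∀ g : P, g • p = p := by
    intro p hp g
    obtain ⟨a, ha⟩ := Finset.card_eq_one.1 hp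
    have h1 : p = a := Finset.mem_singleton.1 (ha ▸ hself p)
    have h2 : g • p = a := Finset.mem_singleton.1 (ha ▸ Set.mem_toFinset.2 (MulAction.mem_orbit p g))
    rw [h2, h1]
  have hne : (⊤ : Subgroup P) ≠ ⊥ := by
    apply hnt
    rw [Subgroup.index_top]
    omega
  by_cases hex : ∃ p ∈ D, (orb p).card = 3
  · obtain ⟨p, hp, hp3⟩ := hex
    have h9 : (D \ orb p).card = 9 := by
      rw [Finset.card_sdiff_of_subset (horb p hp), h12, hp3]
    have h := hsub ⊤ (D \ orb p) hne Finset.sdiff_subset ?_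
    · omega
    · intro q hq g _
      rw [Finset.mem_sdiff] at hq
      rcases h13 q hq.1 with h1 | h1
      · exact hone q h1 g
      · exfalso
        have hdis : Disjoint (orb p) (orb q) := by
          rw [Finset.disjoint_left]
          intro r hr hr'
          apply hq.2
          obtain ⟨a, ha⟩ := MulAction.mem_orbit_iff.1 (Set.mem_toFinset.1 hr)
          obtain ⟨b, hb⟩ := MulAction.mem_orbit_iff.1 (Set.mem_toFinset.1 hr')
          refine Set.mem_toFinset.2 (MulAction.mem_orbit_iff.2 ⟨b⁻¹ * a, ?_⟩)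
          rw [mul_smul, ha, ← hb, inv_smul_smul]
        have h2 := hsub (MulAction.stabilizer P p ⊓ MulAction.stabilizer P q) (orb p ∪ orb q) (hnt _ ?_)
          (Finset.union_subset (horb p hp) (horb q hq.1)) ?_
        · rw [Finset.card_union_of_disjoint hdis] at h2
          omega
        · refine lt_of_le_of_lt (Subgroup.index_inf_le) ?_
          rw [hidx, hidx, hp3, h1]
          norm_num
        · intro r hr g hg
          rcases Finset.mem_union.1 hr with h3 | h3
          · exact hfix p r h3 g hg.1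
          · exact hfix q r h3 g hg.2
  · have h := hsub ⊤ D hne (Finset.Subset.refl _) ?_
    · omega
    · intro q hq g _
      rcases h13 q hq with h1 | h1
      · exact hone q h1 g
      · exact absurd ⟨q, hq, h1⟩ hex

theorem D_mem : (CoThreeB.D : Finset GolayPt) ∈ dodecads := ⟨CoThreeB.hD, CoThreeB.card_D⟩

theorem map_D (x : Spor.M12) {p : GolayPt} (hp : p ∈ CoThreeB.D) : (x : Equiv.Perm GolayPt) p ∈ CoThreeB.D := by
  have h := x.2.2
  have h1 : (x : Equiv.Perm GolayPt) • (CoThreeB.D : Finset GolayPt) = CoThreeB.D := h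
  rw [← h1]
  exact Finset.smul_mem_smul_finset hp

/-- A nontrivial element of `M12` fixes at most four points of the dodecad. -/
theorem fix_le {x : Spor.M12} (hx : x ≠ 1) :
    (CoThreeB.D.filter (fun p => (x : Equiv.Perm GolayPt) p = p)).card ≤ 4 := by
  classical
  by_contra hcon
  have h5 : 5 ≤ (CoThreeB.D.filter (fun p => (x : Equiv.Perm GolayPt) p = p)).card := by omega
  obtain ⟨s, hs, hs5⟩ := Finset.exists_subset_card_eq h5
  let e : Fin 5 ↪ GolayPt := (s.equivFinOfCardEq hs5).symm.toEmbedding.trans (Function.Embedding.subtype _)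
  have he : ∀ i, e i ∈ s := fun i => ((s.equivFinOfCardEq hs5).symm i).2
  have hD : ∀ i, e i ∈ CoThreeB.D := fun i => (Finset.mem_filter.1 (hs (he i))).1
  have hfix : ∀ i, (x : Equiv.Perm GolayPt) (e i) = e i := fun i => (Finset.mem_filter.1 (hs (he i))).2
  obtain ⟨g, _, hu⟩ := S0384.result CoThreeB.D D_mem e e hD hD
  have h1 := hu (⟨⟨x.1, x.2.1⟩, x.2.2⟩ : MulAction.stabilizer M24 CoThreeB.D) hfix
  have h2 := hu 1 (fun i => rfl)
  apply hx
  have h3 := h1.trans h2.symm
  exact Subtype.ext (congrArg (fun y : MulAction.stabilizer M24 CoThreeB.D => ((y : M24) : Equiv.Perm GolayPt)) h3)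

/-- **`M12` has no elementary abelian 3-subgroup of order 27.** -/
theorem rank_lt (B : Subgroup Spor.M12) (hcomm : ∀ a ∈ B, ∀ b ∈ B, a * b = b * a) (hexp : ∀ a ∈ B, a ^ 3 = 1) :
    Nat.card B < 27 := by
  classical
  let _ : MulAction B GolayPt := MulAction.compHom GolayPt ((Spor.M12.subtype).comp B.subtype)
  refine perm_bound (P := B) (Ω := GolayPt) CoThreeB.D CoThreeB.card_D (fun g p hp => map_D (g : Spor.M12) hp)
    (fun a b => Subtype.ext (hcomm a a.2 b b.2)) (fun a => Subtype.ext (hexp a a.2)) (fun g hg => ?_)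
  exact fix_le (fun h => hg (Subtype.ext h))

open CoThreeB in
/-- **The centralizer of `wK`** has no elementary abelian 3-subgroup of order 27. -/
theorem cent_rank_lt (B : Subgroup K) (hB : ∀ b ∈ B, b * wK = wK * b)
    (hcomm : ∀ a ∈ B, ∀ b ∈ B, a * b = b * a) (hexp : ∀ a ∈ B, a ^ 3 = 1) : Nat.card B < 27 := by
  have hBC : B ≤ C := fun b hb => mem_C.2 (hB b hb)
  have hinj : Function.Injective (proj.comp (Subgroup.inclusion hBC)) := by
    rw [injective_iff_map_eq_one]
    intro b hb
    rcases ker_proj (g := Subgroup.inclusion hBC b) hb with h | h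
    · exact Subgroup.inclusion_injective hBC (by rw [h, map_one])
    · exfalso
      have h1 : (b : K) = wK := h
      have h2 := hexp b b.2
      rw [h1, pow_succ, pow_two, wK_sq, one_mul] at h2
      exact wK_ne h2
  have hc : Nat.card (proj.comp (Subgroup.inclusion hBC)).range = Nat.card B :=
    (Nat.card_congr (MonoidHom.ofInjective hinj).toEquiv).symm
  rw [← hc]
  apply rank_lt
  · rintro _ ⟨a, rfl⟩ _ ⟨b, rfl⟩
    rw [← map_mul, ← map_mul]
    congr 1
    exact Subtype.ext (hcomm a a.2 b b.2)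
  · rintro _ ⟨a, rfl⟩
    rw [← map_pow]
    have : a ^ 3 = 1 := Subtype.ext (hexp a a.2)
    rw [this, map_one]

end Cfsg.Agent.SigZero.CoThreeM12

end

-- merged: Cfsg.Agent.SigZero.StarRk
section

/-!
# Odd ranks of 2-local subgroups from the centralisers of involutions

`Star p k G`: for every involution `z` and every elementary abelian `p`-subgroup `B` of `C(z)` of order at least `p ^ k`,
`B` has order exactly `p ^ k` and the only involution of `C(z) ∩ C(B)` is `z`.

* `twoLocal : Star p k G → TwoLocalPRankLE p k G` (`p` odd, `k ≥ 1`);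
* `prankLE_of_not_dvd`: the ranks are at most `k` if `p ^ (k + 1)` does not divide the order.
-/

set_option autoImplicit false

namespace Cfsg.Agent.SigZero.StarRk

open Cfsg

/-- for every involution `z` and every elementary abelian `p`-subgroup `B` of `C(z)` of order at least `p ^ k`,
`B` has order exactly `p ^ k` and the only involution of `C(z) ∩ C(B)` is `z` -/
def Star (p k : ℕ) (G : Type*) [Group G] : Prop :=
  ∀ z : G, z * z = 1 → z ≠ 1 → ∀ B : Subgroup G, (∀ b ∈ B, b * z = z * b) → IsMulCommutative B →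
    (∀ b ∈ B, b ^ p = 1) → p ^ k ≤ Nat.card B →
      Nat.card B ≤ p ^ k ∧ ∀ y : G, y * y = 1 → y * z = z * y → (∀ b ∈ B, b * y = y * b) → y = 1 ∨ y = z

/-- From the centralisers of involutions and the order to `e(G) ≤ 3`. -/
theorem odd_of {G : Type*} [Group G] [Finite G] {p k : ℕ} (h : TwoLocalPRankLE p k G)
    (h' : ∀ r : ℕ, r.Prime → r ≠ 2 → r ≠ p → ∀ H : Subgroup G, PRankLE r k H) : OddTwoLocalRankLE k G := by
  intro r hr hr2 H hH
  rcases eq_or_ne r p with rfl | hrp
  · exact h H hH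
  · exact h' r hr hr2 hrp H

/-- an abelian group of exponent `p` has order a power of `p` -/
theorem card_pow {G : Type*} [Group G] [Finite G] {p : ℕ} (hp : p.Prime) {A : Subgroup G}
    (h : ∀ a ∈ A, a ^ p = 1) : ∃ n, Nat.card A = p ^ n := by
  have : Fact p.Prime := ⟨hp⟩
  have hA : IsPGroup p A := fun a => ⟨1, by
    rw [pow_one]; exact Subtype.ext (h a a.2)⟩
  exact hA.exists_card_eq

theorem prankLE_of_not_dvd {G : Type*} [Group G] [Finite G] {p k : ℕ} (hp : p.Prime)
    (h : ¬ p ^ (k + 1) ∣ Nat.card G) (H : Subgroup G) : PRankLE p k H := by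
  intro A _ hexp
  obtain ⟨n, hn⟩ := card_pow hp hexp
  rw [hn]
  apply Nat.pow_le_pow_right hp.pos
  by_contra hcon
  apply h
  calc p ^ (k + 1) ∣ p ^ n := pow_dvd_pow _ (by omega)
    _ = Nat.card A := hn.symm
    _ ∣ Nat.card H := Subgroup.card_subgroup_dvd_card A
    _ ∣ Nat.card G := Subgroup.card_subgroup_dvd_card H

theorem twoLocal {G : Type*} [Group G] [Finite G] {p k : ℕ} (hp : p.Prime) (hp2 : p ≠ 2) (hk : 1 ≤ k)
    (h : Star p k G) : TwoLocalPRankLE p k G := by
  rintro H ⟨T, hT, hT1, rfl⟩ A₀ hA₀ hexp₀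
  have : Fact p.Prime := ⟨hp⟩
  have : Fact (Nat.Prime 2) := ⟨Nat.prime_two⟩
  by_contra hcard
  rw [not_le] at hcard
  -- the subgroup of `G`
  set A : Subgroup G := A₀.map (Subgroup.normalizer (T : Set G)).subtype with hA
  have hcA : Nat.card A = Nat.card A₀ :=
    (Nat.card_congr (A₀.equivMapOfInjective _ (Subgroup.subtype_injective _)).toEquiv).symm
  have hAcomm : ∀ a ∈ A, ∀ b ∈ A, a * b = b * a := by
    rintro _ ⟨a, ha, rfl⟩ _ ⟨b, hb, rfl⟩
    have h1 := hA₀.is_comm.comm (⟨a, ha⟩ : A₀) ⟨b, hb⟩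
    have h2 := congrArg (fun x : A₀ => ((x : ↥(Subgroup.normalizer (T : Set G))) : G)) h1
    exact h2
  have hexp : ∀ a ∈ A, a ^ p = 1 := by
    rintro _ ⟨a, ha, rfl⟩
    have h1 := hexp₀ a ha
    have h2 := congrArg (fun x : ↥(Subgroup.normalizer (T : Set G)) => (x : G)) h1
    exact h2
  have hAT : A ≤ Subgroup.normalizer (T : Set G) := by
    rintro _ ⟨a, -, rfl⟩
    exact a.2
  have hAm : IsMulCommutative A := ⟨⟨fun a b => Subtype.ext (hAcomm a a.2 b b.2)⟩⟩
  obtain ⟨n, hn⟩ := card_pow hp hexp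
  have hkn : k < n := by
    by_contra hcon
    have : Nat.card A ≤ p ^ k := by
      rw [hn]; exact Nat.pow_le_pow_right hp.pos (by omega)
    omega
  have hcA2 : p ^ (k + 1) ≤ Nat.card A := by
    rw [hn]; exact Nat.pow_le_pow_right hp.pos hkn
  have hpT : ¬ p ∣ Nat.card T := by
    obtain ⟨m, hm⟩ := hT.exists_card_eq
    rw [hm]
    intro hd
    exact hp2 ((Nat.prime_dvd_prime_iff_eq hp Nat.prime_two).1 (hp.dvd_of_dvd_pow hd))
  -- a hyperplane with fixed points
  obtain ⟨B, hBA, hBi, hB⟩ : ∃ B : Subgroup G, B ≤ A ∧ B.relIndex A ≤ p ∧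
      T ⊓ Subgroup.centralizer (B : Set G) ≠ ⊥ := by
    by_contra hcon
    push Not at hcon
    apply hT1
    have hA1 : A ≠ ⊥ := by
      intro h0
      rw [h0, Subgroup.card_bot] at hcA2
      have h1 : 1 < p ^ (k + 1) := Nat.one_lt_pow (by omega) hp.one_lt
      omega
    rw [← Lib.CoprimeHyperplane.iSup_centralizer_hyperplane ⟨hAm, hexp⟩ hA1 hpT hAT]
    rw [eq_bot_iff]
    apply iSup_le
    rintro ⟨B, h1, h2⟩
    exact (hcon B h1 h2.le).le
  have hcB : p ^ k ≤ Nat.card B := by
    have h1 : Nat.card B * B.relIndex A = Nat.card A := by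
      rw [Subgroup.relIndex, ← Subgroup.card_mul_index (B.subgroupOf A),
        Nat.card_congr (Subgroup.subgroupOfEquivOfLe hBA).toEquiv]
    have h2 : p ^ k * p ≤ Nat.card B * p := by
      calc p ^ k * p = p ^ (k + 1) := (pow_succ _ _).symm
        _ ≤ Nat.card A := hcA2
        _ = Nat.card B * B.relIndex A := h1.symm
        _ ≤ Nat.card B * p := Nat.mul_le_mul_left _ hBi
    exact Nat.le_of_mul_le_mul_right h2 hp.pos
  set T₀ : Subgroup G := T ⊓ Subgroup.centralizer (B : Set G) with hT₀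
  have hT₀p : IsPGroup 2 T₀ := hT.to_le inf_le_left
  have hnt : Nontrivial T₀ := (Subgroup.nontrivial_iff_ne_bot _).2 hB
  have hcent : Nontrivial (Subgroup.center T₀) := hT₀p.center_nontrivial
  have hcp : IsPGroup 2 (Subgroup.center T₀) := hT₀p.to_subgroup _
  obtain ⟨c, hc⟩ : ∃ c : Subgroup.center T₀, orderOf c = 2 := by
    apply exists_prime_orderOf_dvd_card' 2
    obtain ⟨m, hm⟩ := hcp.exists_card_eq
    rcases Nat.eq_zero_or_pos m with rfl | hm0
    · exfalso
      rw [pow_zero, Nat.card_eq_one_iff_unique] at hm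
      exact not_subsingleton _ hm.1
    · rw [hm]; exact dvd_pow_self 2 (by omega)
  set z : G := ((c : T₀) : G) with hz
  have hc2 : c * c = 1 := by
    have := pow_orderOf_eq_one c
    rwa [hc, pow_two] at this
  have hz2 : z * z = 1 := congrArg (fun x : Subgroup.center T₀ => ((x : T₀) : G)) hc2
  have hz1 : z ≠ 1 := by
    intro h1
    have : c = 1 := Subtype.ext (Subtype.ext h1)
    rw [this, orderOf_one] at hc
    omega
  have hcen : ∀ x : G, x ∈ T₀ → x * z = z * x := by
    intro x hx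
    have h1 := Subgroup.mem_center_iff.1 c.2 ⟨x, hx⟩
    exact congrArg (fun x : T₀ => (x : G)) h1
  have hcentB : ∀ x : G, x ∈ T₀ → ∀ b ∈ B, b * x = x * b := by
    intro x hx b hb
    exact Subgroup.mem_centralizer_iff.1 hx.2 b hb
  have hB' := h z hz2 hz1 B (fun b hb => hcentB z (c : T₀).2 b hb)
    ⟨⟨fun a b => Subtype.ext (hAcomm a (hBA a.2) b (hBA b.2))⟩⟩ (fun b hb => hexp b (hBA hb)) hcB
  -- `A` normalises `T₀`
  have hnorm : ∀ a ∈ A, ∀ x ∈ T₀, a * x * a⁻¹ ∈ T₀ := by
    intro a ha x hx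
    refine ⟨?_, ?_⟩
    · exact (Subgroup.mem_normalizer_iff.1 (hAT ha) x).1 hx.1
    · refine Subgroup.mem_centralizer_iff.2 ?_
      intro b hb
      have h1 := hcentB x hx b hb
      have h2 := hAcomm a ha b (hBA hb)
      calc b * (a * x * a⁻¹) = (b * a) * x * a⁻¹ := by group
        _ = (a * b) * x * a⁻¹ := by rw [h2]
        _ = a * (b * x) * a⁻¹ := by group
        _ = a * (x * b) * a⁻¹ := by rw [h1]
        _ = a * x * a⁻¹ * (a * b) * a⁻¹ := by group
        _ = a * x * a⁻¹ * (b * a) * a⁻¹ := by rw [h2]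
        _ = a * x * a⁻¹ * b := by group
  have hAz : ∀ a ∈ A, a * z = z * a := by
    intro a ha
    have h1 : a * z * a⁻¹ ∈ T₀ := hnorm a ha z (c : T₀).2
    have h2 : (a * z * a⁻¹) * (a * z * a⁻¹) = 1 := by
      calc (a * z * a⁻¹) * (a * z * a⁻¹) = a * (z * z) * a⁻¹ := by group
        _ = 1 := by rw [hz2]; group
    rcases hB'.2 _ h2 (hcen _ h1) (fun b hb => hcentB _ h1 b hb) with h3 | h3
    · exfalso
      apply hz1
      calc z = a⁻¹ * (a * z * a⁻¹) * a := by group
        _ = 1 := by rw [h3]; group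
    · calc a * z = (a * z * a⁻¹) * a := by group
        _ = z * a := by rw [h3]
  have hA' := h z hz2 hz1 A hAz hAm hexp (le_trans (Nat.pow_le_pow_right hp.pos (by omega)) hcA2)
  omega

end Cfsg.Agent.SigZero.StarRk

end

-- merged: Cfsg.Agent.SigZero.CoThree
section

/-!
# `σ(Co₃) = ∅`

The two classes of involutions of `Co₃` are those of `Z` (centraliser `2·Sp₆(2)`) and of an involution whose
centraliser embeds in `2 × M₁₂`.  Hence every elementary abelian 3-subgroup of order at least 27 of the centraliser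
of an involution `z` has order 27 and centralises in `C(z)` no involution but `z`; the 2-local subgroups of `Co₃` have
3-rank at most 3, and 3 is the only odd prime whose fourth power divides `|Co₃|`.
-/

set_option autoImplicit false

namespace Cfsg.Agent.SigZero.CoThree

open Cfsg Cfsg.Agent.SporRec.Co3.Chain Cfsg.Agent.SporRec.Co3.Ident
open Cfsg.Agent.SporRec.TwoSp6.Sp Cfsg.Agent.SporRec.TwoSp6.Main
open Cfsg.Agent.SporRec.Co3.Fusion (tC mem_cent t_sq t_ne InA InB)

/-! ### the second class -/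

/-- The stabiliser of `v2` is isomorphic to `G3`. -/
theorem exists_equiv : Nonempty (CoThreeB.K ≃* G3) := by
  obtain ⟨g, hg⟩ := S0401.result CoThreeB.v2 Spor.leechV CoThreeB.norm_v2 norm_V
  exact ⟨MulAction.stabilizerEquivStabilizer hg.symm⟩

/-- The centraliser of `wK` has order at most `2 |M₁₂|`. -/
theorem card_C_le : Nat.card CoThreeB.C ≤ 2 * 95040 := by
  have hf : Finite CoThreeB.K := by
    obtain ⟨e⟩ := exists_equiv
    have hf : Finite G3 := Nat.finite_of_card_ne_zero (by rw [isCo3_G3.2]; norm_num)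
    exact Finite.of_equiv _ e.symm.toEquiv
  have h1 : Nat.card CoThreeB.proj.ker ≤ 2 := by
    have h2 : (CoThreeB.proj.ker : Set CoThreeB.C) ⊆ {1, ⟨CoThreeB.wK, CoThreeB.mem_C.2 rfl⟩} := by
      intro g hg
      rcases CoThreeB.ker_proj hg with h | h
      · exact Or.inl h
      · exact Or.inr (Subtype.ext h)
    have h3 := Set.ncard_le_ncard h2 (Set.toFinite _)
    rw [← Nat.card_coe_set_eq] at h3
    exact h3.trans (Set.ncard_insert_le _ _ |>.trans (by rw [Set.ncard_singleton]))
  have h2 := Subgroup.card_mul_index CoThreeB.proj.ker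
  rw [Subgroup.index_ker, MonoidHom.range_eq_top.mpr CoThreeB.proj_surj, Subgroup.card_top,
    MTwelveType.SylowModel.card_M12] at h2
  rw [← h2]
  exact Nat.mul_le_mul_right _ h1

/-- **An involution of `Co₃` with centraliser of 3-rank at most two.** -/
theorem exists_w : ∃ w : G3, w * w = 1 ∧ w ≠ 1 ∧ Nat.card (Subgroup.centralizer ({w} : Set G3)) ≤ 2 * 95040 ∧
    ∀ B : Subgroup G3, (∀ b ∈ B, b * w = w * b) → (∀ a ∈ B, ∀ b ∈ B, a * b = b * a) → (∀ b ∈ B, b ^ 3 = 1) →
      Nat.card B < 27 := by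
  obtain ⟨e⟩ := exists_equiv
  refine ⟨e CoThreeB.wK, ?_, ?_, ?_, ?_⟩
  · rw [← map_mul, CoThreeB.wK_sq, map_one]
  · intro h
    exact CoThreeB.wK_ne ((map_eq_one_iff e e.injective).1 h)
  · refine le_trans (le_of_eq ?_) card_C_le
    refine Nat.card_congr (Equiv.symm ?_)
    refine ⟨fun g => ⟨e g, ?_⟩, fun g => ⟨e.symm g, ?_⟩, fun g => ?_, fun g => ?_⟩
    · have := CoThreeB.mem_C.1 g.2
      rw [Subgroup.mem_centralizer_singleton_iff, ← map_mul, ← map_mul, this]
    · have := Subgroup.mem_centralizer_singleton_iff.1 g.2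
      rw [CoThreeB.mem_C]
      apply e.injective
      rw [map_mul, map_mul, e.apply_symm_apply, this]
    · exact Subtype.ext (e.symm_apply_apply _)
    · exact Subtype.ext (e.apply_symm_apply _)
  · intro B hB hcomm hexp
    have h1 := CoThreeM12.cent_rank_lt (B.map e.symm.toMonoidHom) ?_ ?_ ?_
    · rwa [Subgroup.card_map_of_injective (f := e.symm.toMonoidHom) e.symm.injective] at h1
    · rintro _ ⟨b, hb, rfl⟩
      change e.symm b * CoThreeB.wK = CoThreeB.wK * e.symm b
      apply e.injective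
      rw [map_mul, map_mul, e.apply_symm_apply, hB b hb]
    · rintro _ ⟨a, ha, rfl⟩ _ ⟨b, hb, rfl⟩
      change e.symm a * e.symm b = e.symm b * e.symm a
      rw [← map_mul, ← map_mul, hcomm a ha b hb]
    · rintro _ ⟨a, ha, rfl⟩
      change (e.symm a) ^ 3 = 1
      rw [← map_pow, hexp a ha, map_one]

/-! ### conjugation -/

/-- the property of one involution -/
def St {G : Type*} [Group G] (z : G) : Prop :=
  ∀ B : Subgroup G, (∀ b ∈ B, b * z = z * b) → (∀ a ∈ B, ∀ b ∈ B, a * b = b * a) →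
    (∀ b ∈ B, b ^ 3 = 1) → 27 ≤ Nat.card B →
      Nat.card B = 27 ∧ ∀ y : G, y * y = 1 → y * z = z * y → (∀ b ∈ B, b * y = y * b) → y = 1 ∨ y = z

theorem conj_comm {G : Type*} [Group G] {g a b : G} (h : a * b = b * a) :
    (g⁻¹ * a * g) * (g⁻¹ * b * g) = (g⁻¹ * b * g) * (g⁻¹ * a * g) := by
  have : (g⁻¹ * a * g) * (g⁻¹ * b * g) = g⁻¹ * (a * b) * g := by group
  rw [this, h]
  group

theorem St.conj {G : Type*} [Group G] {z : G} (h : St z) (g : G) : St (g * z * g⁻¹) := by
  intro B hB hcomm hexp hcard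
  have hz : g⁻¹ * (g * z * g⁻¹) * g = z := by group
  have hm : ∀ b, (MulAut.conj g⁻¹) b = g⁻¹ * b * g := fun b => by rw [MulAut.conj_apply, inv_inv]
  have hc : Nat.card (B.map (MulAut.conj g⁻¹).toMonoidHom) = Nat.card B :=
    Subgroup.card_map_of_injective (f := (MulAut.conj g⁻¹).toMonoidHom) (MulAut.conj g⁻¹).injective
  have h1 := h (B.map (MulAut.conj g⁻¹).toMonoidHom) ?_ ?_ ?_ (by rw [hc]; exact hcard)
  · rw [hc] at h1
    refine ⟨h1.1, fun y hy hyz hyB => ?_⟩
    have h3 := h1.2 (g⁻¹ * y * g) ?_ ?_ ?_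
    · rcases h3 with h2 | h2
      · left
        have : y = g * (g⁻¹ * y * g) * g⁻¹ := by group
        rw [this, h2]
        group
      · right
        have : y = g * (g⁻¹ * y * g) * g⁻¹ := by group
        rw [this, h2]
    · have : g⁻¹ * y * g * (g⁻¹ * y * g) = g⁻¹ * (y * y) * g := by group
      rw [this, hy]
      group
    · have := conj_comm (g := g) hyz
      rwa [hz] at this
    · rintro _ ⟨b, hb, rfl⟩
      change (MulAut.conj g⁻¹) b * _ = _ * (MulAut.conj g⁻¹) b
      rw [hm]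
      exact conj_comm (hyB b hb)
  · rintro _ ⟨b, hb, rfl⟩
    change (MulAut.conj g⁻¹) b * _ = _ * (MulAut.conj g⁻¹) b
    rw [hm]
    have := conj_comm (g := g) (hB b hb)
    rwa [hz] at this
  · rintro _ ⟨a, ha, rfl⟩ _ ⟨b, hb, rfl⟩
    change (MulAut.conj g⁻¹) a * (MulAut.conj g⁻¹) b = (MulAut.conj g⁻¹) b * (MulAut.conj g⁻¹) a
    rw [← map_mul, ← map_mul, hcomm a ha b hb]
  · rintro _ ⟨a, ha, rfl⟩
    change ((MulAut.conj g⁻¹) a) ^ 3 = 1
    rw [← map_pow, hexp a ha, map_one]

theorem card_centralizer_conj {G : Type*} [Group G] (z g : G) :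
    Nat.card (Subgroup.centralizer ({g * z * g⁻¹} : Set G)) = Nat.card (Subgroup.centralizer ({z} : Set G)) := by
  refine Nat.card_congr ⟨fun x => ⟨g⁻¹ * x * g, ?_⟩, fun x => ⟨g * x * g⁻¹, ?_⟩, fun x => ?_, fun x => ?_⟩
  · have h := conj_comm (g := g) (Subgroup.mem_centralizer_singleton_iff.1 x.2)
    rw [Subgroup.mem_centralizer_singleton_iff]
    have hz : g⁻¹ * (g * z * g⁻¹) * g = z := by group
    rwa [hz] at h
  · have h := conj_comm (g := g⁻¹) (Subgroup.mem_centralizer_singleton_iff.1 x.2)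
    rw [Subgroup.mem_centralizer_singleton_iff]
    rwa [inv_inv] at h
  · apply Subtype.ext
    show g * (g⁻¹ * x * g) * g⁻¹ = x
    group
  · apply Subtype.ext
    show g⁻¹ * (g * x * g⁻¹) * g = x
    group

/-! ### the classes -/

/-- **The involutions of `Co₃`.** -/
theorem classes {w : G3} (hw2 : w * w = 1) (hw1 : w ≠ 1)
    (hw : Nat.card (Subgroup.centralizer ({w} : Set G3)) ≤ 2 * 95040) {x : G3} (hx2 : x * x = 1) (hx1 : x ≠ 1) :
    (∃ g, g * Z * g⁻¹ = x) ∨ ∃ g, g * w * g⁻¹ = x := by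
  have hs : IsSimpleGroup G3 := isCo3_G3.1
  have hf : Finite G3 := Nat.finite_of_card_ne_zero (by rw [isCo3_G3.2]; norm_num)
  obtain ⟨π, N⟩ := KFacts.Co3D4.exists_NS_G3
  obtain ⟨hO, hZ⟩ := KFacts.Co3D4.core_center KFacts.Co3D4.orderOf_Z N
  have key : ∀ y : G3, y * y = 1 → y ≠ 1 → (∃ g, g * Z * g⁻¹ = y) ∨ ∃ g, InB π (g⁻¹ * y * g) := by
    intro y hy2 hy1
    have hp : IsPGroup 2 (Subgroup.zpowers y) := by
      rw [IsPGroup.iff_card]
      refine ⟨1, ?_⟩
      rw [Nat.card_zpowers, pow_one]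
      exact orderOf_eq_prime (by rw [pow_two]; exact hy2) hy1
    obtain ⟨g, hg⟩ := KFacts.Co3D4.exists_t N hp
    have h1 := hg y (Subgroup.mem_zpowers y)
    have h2 : (g⁻¹ * y * g) * (g⁻¹ * y * g) = 1 := by
      have : g⁻¹ * y * g * (g⁻¹ * y * g) = g⁻¹ * (y * y) * g := by group
      rw [this, hy2]
      group
    have h3 : g⁻¹ * y * g ≠ 1 := by
      intro h
      apply hy1
      have : y = g * (g⁻¹ * y * g) * g⁻¹ := by group
      rw [this, h]
      group
    by_cases h4 : g⁻¹ * y * g = Z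
    · left
      refine ⟨g, ?_⟩
      rw [← h4]
      group
    · rcases SporRec.Co3.Fusion.invol N h1 h2 h3 h4 with hA | hB
      · left
        obtain ⟨k, hk⟩ := SporRec.Co3.Fusion.fused_A KFacts.Co3D4.orderOf_Z hO hZ N hA
        refine ⟨g * k, ?_⟩
        have : g * k * Z * (g * k)⁻¹ = g * (k * Z * k⁻¹) * g⁻¹ := by group
        rw [this, hk]
        group
      · exact Or.inr ⟨g, hB⟩
  rcases key x hx2 hx1 with h | ⟨g, hg⟩
  · exact Or.inl h
  right
  rcases key w hw2 hw1 with ⟨k, hk⟩ | ⟨k, hk⟩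
  · exfalso
    rw [← hk, card_centralizer_conj] at hw
    have h1 := Nat.card_le_card_of_surjective _ N.surj
    rw [card_S] at h1
    omega
  · obtain ⟨h, -, h2⟩ := InB.conj N hk hg
    refine ⟨g * h * k⁻¹, ?_⟩
    have : g * h * k⁻¹ * w * (g * h * k⁻¹)⁻¹ = g * (h * (k⁻¹ * w * k) * h⁻¹) * g⁻¹ := by group
    rw [this, h2]
    group

/-- `Star` for `Co₃` -/
theorem star : StarRk.Star 3 3 G3 := by
  obtain ⟨w, hw2, hw1, hwc, hwB⟩ := exists_w
  obtain ⟨π, N⟩ := KFacts.Co3D4.exists_NS_G3
  have hStZ : St Z := fun B hB hcomm hexp hcard => CoThreeA.star N B hB hcomm hexp hcard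
  have hStw : St w := fun B hB hcomm hexp hcard => absurd (hwB B hB hcomm hexp) (not_lt.2 hcard)
  intro z hz2 hz1 B hB hBc hexp hcard
  have hcomm : ∀ a ∈ B, ∀ b ∈ B, a * b = b * a := fun a ha b hb =>
    congrArg Subtype.val (hBc.is_comm.comm (⟨a, ha⟩ : B) ⟨b, hb⟩)
  have hSt : St z := by
    rcases classes hw2 hw1 hwc hz2 hz1 with ⟨g, hg⟩ | ⟨g, hg⟩
    · rw [← hg]
      exact hStZ.conj g
    · rw [← hg]
      exact hStw.conj g
  obtain ⟨h1, h2⟩ := hSt B hB hcomm hexp hcard
  exact ⟨h1.le, h2⟩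

/-- **The odd 2-local rank of `Co₃` is at most 3.** -/
theorem oddRank_G3 : OddTwoLocalRankLE 3 G3 := by
  have hf : Finite G3 := Nat.finite_of_card_ne_zero (by rw [isCo3_G3.2]; norm_num)
  refine StarRk.odd_of (StarRk.twoLocal Nat.prime_three (by norm_num) (by norm_num) star) ?_
  intro r hr hr2 hr3 H
  apply StarRk.prankLE_of_not_dvd hr
  rw [isCo3_G3.2]
  intro hdvd
  have h4 : r ^ 4 ≤ 495766656000 := Nat.le_of_dvd (by norm_num) hdvd
  have hd : r ∣ 495766656000 := (dvd_pow_self r (by norm_num)).trans hdvd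
  have h5 : r ≠ 5 := by
    rintro rfl
    norm_num at hdvd
  have h7 : r ≠ 7 := by
    rintro rfl
    norm_num at hdvd
  have h11 : r ≠ 11 := by
    rintro rfl
    norm_num at hdvd
  have h23 : r ≠ 23 := by
    rintro rfl
    norm_num at hdvd
  have hfac : (495766656000 : ℕ) = 2 ^ 10 * 3 ^ 7 * 5 ^ 3 * 7 * 11 * 23 := by norm_num
  rw [hfac] at hd
  have key : ∀ q n : ℕ, q.Prime → r ∣ q ^ n → r = q := fun q n hq h =>
    (Nat.prime_dvd_prime_iff_eq hr hq).1 (hr.dvd_of_dvd_pow h)
  rcases hr.dvd_mul.1 hd with hd | hd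
  · rcases hr.dvd_mul.1 hd with hd | hd
    · rcases hr.dvd_mul.1 hd with hd | hd
      · rcases hr.dvd_mul.1 hd with hd | hd
        · rcases hr.dvd_mul.1 hd with hd | hd
          · exact hr2 (key 2 _ Nat.prime_two hd)
          · exact hr3 (key 3 _ Nat.prime_three hd)
        · exact h5 (key 5 _ Nat.prime_five hd)
      · exact h7 ((Nat.prime_dvd_prime_iff_eq hr (by norm_num)).1 hd)
    · exact h11 ((Nat.prime_dvd_prime_iff_eq hr (by norm_num)).1 hd)
  · exact h23 ((Nat.prime_dvd_prime_iff_eq hr (by norm_num)).1 hd)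

theorem oddRank {G : Type*} [Group G] (h : Spor.IsoCo3 G) : OddTwoLocalRankLE 3 G := by
  obtain ⟨e⟩ := h
  exact oddRank_congr (e.trans SporRec.Co3.Model.equivCo3.symm) oddRank_G3

/-- **`σ(Co₃) = ∅`.** -/
theorem sigma_empty {G : Type*} [Group G] (h : Spor.IsoCo3 G) : sigmaSet G = ∅ :=
  SigZero.sigma_empty (oddRank h)

end Cfsg.Agent.SigZero.CoThree

end
end

-- part: BpSpor/CoThreeCent
section
prune_inst 0x4400002200000000000040001c4282000100000b0000000008040d810c0000008620b0300100000000844030006804541004600000000000000001180080002b42000210ad00300000008804400000000000000000000000000000000000000000000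
set_option linter.all false
open scoped Cfsg.Agent.FastGrp

-- merged: Cfsg.Agent.BpSpor.SympTwo
section

/-!
# 2-groups centralizing an element of order three of `Sp₆(2)` (helper25)

`card_le` : `V` of order 64 with a nondegenerate alternating form over the field of two elements, `s` of order three,
`T` a 2-group of isometries commuting with `s`: `|T| ≤ 16`.
-/

set_option autoImplicit false

namespace Cfsg.Agent.BpSpor.SympTwo

open MulAction

variable {V : Type*} [AddCommGroup V] {G : Type*} [Group G] [DistribMulAction G V]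

/-- the form -/
structure Form (om : V → V → ZMod 2) (G : Type*) [Group G] [DistribMulAction G V] : Prop where
  add : ∀ x y z, om (x + y) z = om x z + om y z
  symm : ∀ x y, om x y = om y x
  self : ∀ x, om x x = 0
  nd : ∀ x, (∀ y, om x y = 0) → x = 0
  inv : ∀ (g : G) (x y : V), om (g • x) (g • y) = om x y
  two : ∀ x : V, x + x = 0

theorem z2 (a : ZMod 2) : a = 0 ∨ a = 1 := by revert a; decide

/-- nondegenerate subgroup -/
def ND (om : V → V → ZMod 2) (X : AddSubgroup V) : Prop := ∀ p ∈ X, p ≠ 0 → ∃ q ∈ X, om p q = 1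

namespace Form

variable {om : V → V → ZMod 2} (F : Form om G)
include F

theorem addr (x y z : V) : om x (y + z) = om x y + om x z := by rw [F.symm, F.add, F.symm y, F.symm z]

theorem zero_r (x : V) : om x 0 = 0 := by
  have h := F.addr x 0 0
  rw [add_zero] at h
  exact left_eq_add.1 h

theorem neg_eq (x : V) : -x = x := neg_eq_of_add_eq_zero_left (F.two x)

theorem sub_eq (x y : V) : x - y = x + y := by rw [sub_eq_add_neg, F.neg_eq]

/-- cut an additive subgroup by a linear form -/
def cut (X : AddSubgroup V) (z : V) : AddSubgroup V where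
  carrier := {x | x ∈ X ∧ om z x = 0}
  add_mem' := fun {a b} ha hb => ⟨X.add_mem ha.1 hb.1, by rw [F.addr, ha.2, hb.2, add_zero]⟩
  zero_mem' := ⟨X.zero_mem, F.zero_r z⟩
  neg_mem' := fun {a} ha => ⟨X.neg_mem ha.1, by rw [F.neg_eq]; exact ha.2⟩

theorem card_cut {X : AddSubgroup V} {z y : V} (hy : y ∈ X) (h1 : om z y = 1) :
    Nat.card ↥(F.cut X z) * 2 = Nat.card ↥X := by
  let φ : ↥X →+ ZMod 2 := AddMonoidHom.mk' (fun x => om z x) (fun a b => F.addr z a b)
  have hsurj : Function.Surjective φ := by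
    intro a
    rcases z2 a with rfl | rfl
    · exact ⟨0, map_zero φ⟩
    · exact ⟨⟨y, hy⟩, h1⟩
  have h2 : Nat.card ↥φ.ker * φ.ker.index = Nat.card ↥X := AddSubgroup.card_mul_index _
  have h3 : φ.ker.index = 2 := by
    rw [AddSubgroup.index_ker, AddMonoidHom.range_eq_top.2 hsurj]
    rw [AddSubgroup.card_top, Nat.card_zmod]
  rw [h3] at h2
  rw [← h2]
  congr 1
  refine Nat.card_congr
    { toFun := fun x => ⟨⟨x, x.2.1⟩, x.2.2⟩
      invFun := fun x => ⟨x, x.1.2, x.2⟩
      left_inv := fun _ => rfl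
      right_inv := fun _ => rfl }

theorem nd_top : ND om ⊤ := by
  intro p _ hp
  by_contra hcon
  push Not at hcon
  apply hp
  apply F.nd
  intro y
  rcases z2 (om p y) with h | h
  · exact h
  · exact absurd h (hcon y trivial)

theorem nd_cut {X : AddSubgroup V} (hX : ND om X) {a b : V} (ha : a ∈ X) (hb : b ∈ X) (hab : om a b = 1) :
    ND om (F.cut (F.cut X a) b) := by
  intro p hp hp0
  obtain ⟨y, hy, hpy⟩ := hX p hp.1.1 hp0
  have hpa : om p a = 0 := by rw [F.symm]; exact hp.1.2
  have hpb : om p b = 0 := by rw [F.symm]; exact hp.2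
  have hba : om b a = 1 := by rw [F.symm]; exact hab
  have two : (1 : ZMod 2) + 1 = 0 := by decide
  rcases z2 (om a y) with h1 | h1 <;> rcases z2 (om b y) with h2 | h2
  · exact ⟨y, ⟨⟨hy, h1⟩, h2⟩, hpy⟩
  · refine ⟨y + a, ⟨⟨X.add_mem hy ha, ?_⟩, ?_⟩, ?_⟩
    · rw [F.addr, h1, F.self, add_zero]
    · rw [F.addr, h2, hba, two]
    · rw [F.addr, hpy, hpa, add_zero]
  · refine ⟨y + b, ⟨⟨X.add_mem hy hb, ?_⟩, ?_⟩, ?_⟩
    · rw [F.addr, h1, hab, two]
    · rw [F.addr, h2, F.self, add_zero]
    · rw [F.addr, hpy, hpb, add_zero]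
  · refine ⟨y + a + b, ⟨⟨X.add_mem (X.add_mem hy ha) hb, ?_⟩, ?_⟩, ?_⟩
    · rw [F.addr, F.addr, h1, F.self, hab, add_zero, two]
    · rw [F.addr, F.addr, h2, hba, F.self, two, add_zero]
    · rw [F.addr, F.addr, hpy, hpa, hpb, add_zero, add_zero]

theorem card_cut_two {X : AddSubgroup V} {a b : V} (ha : a ∈ X) (hb : b ∈ X) (hab : om a b = 1) :
    Nat.card ↥(F.cut (F.cut X a) b) * 4 = Nat.card ↥X := by
  have h1 := F.card_cut hb hab
  have h2 := F.card_cut (X := F.cut X a) (z := b) (y := a) ⟨ha, F.self a⟩ (by rw [F.symm]; exact hab)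
  rw [← h1, ← h2]
  ring

omit F in
/-- the orbit bound -/
theorem card_le_mul {T : Subgroup G} [Finite ↥T] (v : V) (K : AddSubgroup V) [Finite ↥K]
    (h : ∀ t ∈ T, t • v - v ∈ K) : Nat.card ↥T ≤ Nat.card ↥K * Nat.card ↥(T ⊓ stabilizer G v) := by
  have h1 : (stabilizer ↥T v).index ≤ Nat.card ↥K := by
    rw [index_stabilizer]
    have h2 : orbit ↥T v ⊆ (fun k : V => k + v) '' (K : Set V) := by
      rintro _ ⟨t, rfl⟩
      exact ⟨(t : G) • v - v, h t t.2, sub_add_cancel _ _⟩
    refine (Set.ncard_le_ncard h2 (Set.toFinite _)).trans ((Set.ncard_image_le (Set.toFinite _)).trans ?_)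
    rw [← Nat.card_coe_set_eq]
    rfl
  have h3 : Nat.card ↥(stabilizer ↥T v) = Nat.card ↥(T ⊓ stabilizer G v) := by
    refine Nat.card_congr
      { toFun := fun x => ⟨x, x.1.2, x.2⟩
        invFun := fun x => ⟨⟨x, x.2.1⟩, x.2.2⟩
        left_inv := fun _ => rfl
        right_inv := fun _ => rfl }
  rw [← (stabilizer ↥T v).card_mul_index, h3, mul_comm]
  exact Nat.mul_le_mul_right _ h1

omit F in
/-- a fixed vector of a 2-group -/
theorem exists_fixed {T : Subgroup G} (hT : IsPGroup 2 ↥T) {X : AddSubgroup V} [Finite ↥X]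
    (hX : ∀ t ∈ T, ∀ x ∈ X, t • x ∈ X) (h2 : 2 ∣ Nat.card ↥X) : ∃ x ∈ X, x ≠ 0 ∧ ∀ t ∈ T, t • x = x := by
  have : Fact (Nat.Prime 2) := ⟨Nat.prime_two⟩
  let _ : MulAction ↥T ↥X :=
    { smul := fun t x => ⟨(t : G) • (x : V), hX t t.2 x x.2⟩
      one_smul := fun x => Subtype.ext (one_smul G (x : V))
      mul_smul := fun a b x => Subtype.ext (mul_smul (a : G) (b : G) (x : V)) }
  have hsm : ∀ (t : ↥T) (x : ↥X), ((t • x : ↥X) : V) = (t : G) • (x : V) := fun _ _ => rfl
  have h0 : (0 : ↥X) ∈ fixedPoints ↥T ↥X := by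
    intro t
    apply Subtype.ext
    rw [hsm]
    exact smul_zero (t : G)
  obtain ⟨b, hb, hb0⟩ := hT.exists_fixed_point_of_prime_dvd_card_of_fixed_point ↥X h2 h0
  refine ⟨b, b.2, fun h => hb0 (Subtype.ext h.symm), fun t ht => ?_⟩
  exact congrArg Subtype.val (hb ⟨t, ht⟩)

/-- the last step: a nondegenerate subgroup of order 4 -/
theorem last [Finite V] {X : AddSubgroup V} (hX : ND om X) (h4 : Nat.card ↥X = 4) {T : Subgroup G} [Finite ↥T]
    (hT : IsPGroup 2 ↥T) (hTX : ∀ t ∈ T, ∀ x ∈ X, t • x ∈ X) :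
    ∃ p ∈ X, p ≠ 0 ∧ (∀ t ∈ T, t • p = p) ∧ Nat.card ↥(F.cut X p) = 2 ∧ ∃ q ∈ X, om p q = 1 ∧
      Nat.card ↥T ≤ 2 * Nat.card ↥(T ⊓ stabilizer G q) := by
  obtain ⟨p, hp, hp0, hpT⟩ := exists_fixed hT hTX (by rw [h4]; norm_num)
  obtain ⟨q, hq, hpq⟩ := hX p hp hp0
  have h2 : Nat.card ↥(F.cut X p) = 2 := by
    have := F.card_cut hq hpq
    omega
  refine ⟨p, hp, hp0, hpT, h2, q, hq, hpq, ?_⟩
  have h1 := card_le_mul (T := T) q (F.cut X p) (fun t ht => ⟨X.sub_mem (hTX t ht q hq) hq, by
    rw [F.sub_eq, F.addr, hpq]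
    have h3 := F.inv t p q
    rw [hpT t ht, hpq] at h3
    rw [h3]
    decide⟩)
  rwa [h2] at h1

theorem eq_zero_of_perp {X : AddSubgroup V} {p q x : V} (h2 : Nat.card ↥(F.cut X p) = 2) (hp : p ∈ X) (hpq : om p q = 1)
    (hx : x ∈ X) (h3 : om p x = 0) (h4 : om q x = 0) : x = 0 := by
  have hc := F.card_cut (X := F.cut X p) (z := q) (y := p) ⟨hp, F.self p⟩ (by rw [F.symm]; exact hpq)
  rw [h2] at hc
  have h5 : Nat.card ↥(F.cut (F.cut X p) q) = 1 := by omega
  have h6 := (Nat.card_eq_one_iff_unique.1 h5).1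
  exact congrArg Subtype.val (h6.elim (⟨x, ⟨hx, h3⟩, h4⟩ : ↥(F.cut (F.cut X p) q)) 0)

/-- the stabilizer of two pairs -/
theorem perp_smul_sub {t : G} {a x : V} (ha : t • a = a) : om a (t • x - x) = 0 := by
  rw [F.sub_eq, F.addr]
  have h := F.inv t a x
  rw [ha] at h
  rw [h]
  generalize om a x = c
  revert c
  decide

variable [Finite V] (hV : Nat.card V = 64) (hf : ∀ g : G, (∀ v : V, g • v = v) → g = 1)
include hV hf

/-- two hyperbolic pairs fixed by `T` -/
theorem fixed_four {a b c d : V} (hab : om a b = 1) (hac : om a c = 0) (had : om a d = 0) (hbc : om b c = 0)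
    (hbd : om b d = 0) (hcd : om c d = 1) {T : Subgroup G} [Finite ↥T] (hT : IsPGroup 2 ↥T) (ta : ∀ t ∈ T, t • a = a)
    (tb : ∀ t ∈ T, t • b = b) (tc : ∀ t ∈ T, t • c = c) (td : ∀ t ∈ T, t • d = d) :
    Nat.card ↥T ≤ 2 ∧ ∀ s : G, (∀ t ∈ T, t * s = s * t) →
      (∀ x, x ∈ F.cut (F.cut (F.cut (F.cut ⊤ a) b) c) d → s • x ∈ F.cut (F.cut (F.cut (F.cut ⊤ a) b) c) d) →
      (∀ x : V, s • x = x → x = 0) → Nat.card ↥T = 1 := by
  set X := F.cut (F.cut (F.cut (F.cut ⊤ a) b) c) d with hX
  have h1 : ND om (F.cut (F.cut ⊤ a) b) := F.nd_cut F.nd_top trivial trivial hab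
  have hcX : c ∈ F.cut (F.cut ⊤ a) b := ⟨⟨trivial, hac⟩, hbc⟩
  have hdX : d ∈ F.cut (F.cut ⊤ a) b := ⟨⟨trivial, had⟩, hbd⟩
  have h2 : ND om X := F.nd_cut h1 hcX hdX hcd
  have h3 : Nat.card ↥X = 4 := by
    have e1 := F.card_cut_two (X := ⊤) (a := a) (b := b) trivial trivial hab
    have e2 : Nat.card ↥X * 4 = Nat.card ↥(F.cut (F.cut ⊤ a) b) := F.card_cut_two hcX hdX hcd
    rw [AddSubgroup.card_top, hV, ← e2] at e1
    omega
  have hTX : ∀ t ∈ T, ∀ x ∈ X, t • x ∈ X := by
    intro t ht x hx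
    have key : ∀ z, t • z = z → om z x = 0 → om z (t • x) = 0 := by
      intro z hz h
      rw [← F.inv t z x, hz] at h
      exact h
    exact ⟨⟨⟨⟨trivial, key a (ta t ht) hx.1.1.1.2⟩, key b (tb t ht) hx.1.1.2⟩, key c (tc t ht) hx.1.2⟩,
      key d (td t ht) hx.2⟩
  obtain ⟨p, hp, hp0, hpT, hc2, q, hq, hpq, hle⟩ := F.last h2 h3 hT hTX
  -- the stabilizer of all is trivial
  have key : ∀ t : G, t ∈ T → ∀ q' : V, om p q' = 1 → t • q' = q' → t = 1 := by
    intro t ht q' hpq' htq
    apply hf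
    intro x
    have hx : t • x - x ∈ X := ⟨⟨⟨⟨trivial, F.perp_smul_sub (ta t ht)⟩, F.perp_smul_sub (tb t ht)⟩,
      F.perp_smul_sub (tc t ht)⟩, F.perp_smul_sub (td t ht)⟩
    exact sub_eq_zero.1 (F.eq_zero_of_perp hc2 hp hpq' hx (F.perp_smul_sub (hpT t ht)) (F.perp_smul_sub htq))
  constructor
  · have h5 : Nat.card ↥(T ⊓ stabilizer G q) = 1 := by
      rw [Subgroup.card_eq_one, eq_bot_iff]
      rintro t ⟨ht, htq⟩
      rw [Subgroup.mem_bot]
      exact key t ht q hpq htq
    omega
  · intro s hs hsX hs0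
    rw [Subgroup.card_eq_one, eq_bot_iff]
    intro t ht
    rw [Subgroup.mem_bot]
    have h6 : om p (s • p) = 1 := by
      rcases z2 (om p (s • p)) with h7 | h7
      · exfalso
        -- `s p` is in the cut, which has two elements `0`, `p`
        have h8 : s • p ∈ F.cut X p := ⟨hsX p hp, h7⟩
        have h9 : p ∈ F.cut X p := ⟨hp, F.self p⟩
        have h10 : s • p ≠ 0 := by
          intro h
          apply hp0
          have := congrArg (fun x => s⁻¹ • x) h
          simpa using this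
        have h11 : s • p ≠ p := fun h => hp0 (hs0 p h)
        have h12 : ({0, p, s • p} : Set V) ⊆ (F.cut X p : Set V) := by
          rintro x (rfl | rfl | rfl)
          · exact (F.cut X p).zero_mem
          · exact h9
          · exact h8
        have h13 := Set.ncard_le_ncard h12 (Set.toFinite _)
        have h14 : ({0, p, s • p} : Set V).ncard = 3 :=
          Set.ncard_eq_three.2 ⟨0, p, s • p, hp0.symm, h10.symm, h11.symm, rfl⟩
        rw [h14, ← Nat.card_coe_set_eq] at h13
        change 3 ≤ Nat.card ↥(F.cut X p) at h13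
        omega
      · exact h7
    refine key t ht (s • p) h6 ?_
    rw [← mul_smul, hs t ht, mul_smul, hpT t ht]

/-- **The bound.** -/
theorem card_le {s : G} (hs3 : s * s * s = 1) (hs1 : s ≠ 1) {T : Subgroup G} [Finite ↥T] (hT : IsPGroup 2 ↥T)
    (hc : ∀ t ∈ T, t * s = s * t) : Nat.card ↥T ≤ 16 := by
  have two : (1 : ZMod 2) + 1 = 0 := by decide
  have s3 : ∀ x : V, s • s • s • x = x := fun x => by rw [← mul_smul, ← mul_smul, hs3, one_smul]
  have tcomm : ∀ t ∈ T, ∀ x : V, t • s • x = s • t • x := fun t ht x => by rw [← mul_smul, hc t ht, mul_smul]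
  -- the moved part
  let W : AddSubgroup V :=
    { carrier := {v | v + s • v + s • s • v = 0}
      add_mem' := by
        intro a b ha hb
        change a + b + s • (a + b) + s • s • (a + b) = 0
        have h : a + b + s • (a + b) + s • s • (a + b) = (a + s • a + s • s • a) + (b + s • b + s • s • b) := by
          rw [smul_add, smul_add]
          abel
        rw [h, show a + s • a + s • s • a = 0 from ha, show b + s • b + s • s • b = 0 from hb, add_zero]
      zero_mem' := by
        change (0 : V) + s • (0 : V) + s • s • (0 : V) = 0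
        simp
      neg_mem' := by
        intro a ha
        rw [F.neg_eq]
        exact ha }
  have hW : ∀ v, v ∈ W ↔ v + s • v + s • s • v = 0 := fun _ => Iff.rfl
  have ss : ∀ v ∈ W, s • s • v = v + s • v := by
    intro v hv
    have h := (hW v).1 hv
    have h2 : s • s • v = -(v + s • v) := (neg_eq_of_add_eq_zero_right h).symm
    rw [h2, F.neg_eq]
  have sW : ∀ v ∈ W, s • v ∈ W := by
    intro v hv
    rw [hW, s3]
    have h := (hW v).1 hv
    rw [← h]
    abel
  have tW : ∀ t ∈ T, ∀ v ∈ W, t • v ∈ W := by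
    intro t ht v hv
    rw [hW, ← tcomm t ht, ← tcomm t ht, ← smul_add, ← smul_add, (hW v).1 hv, smul_zero]
  -- `W ≠ 0`
  have eqz : ∀ x y : V, x + y = 0 → x = y := fun x y h => by
    rw [← F.sub_eq] at h
    exact sub_eq_zero.1 h
  obtain ⟨v0, hv0⟩ : ∃ v : V, s • v ≠ v := by
    by_contra hcon
    push Not at hcon
    exact hs1 (hf s hcon)
  have hw0 : s • v0 + v0 ∈ W := by
    rw [hW, smul_add, smul_add, s3]
    have h : s • v0 + v0 + (s • s • v0 + s • v0) + (v0 + s • s • v0) = (s • v0 + s • v0) + (v0 + v0) +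
        (s • s • v0 + s • s • v0) := by abel
    rw [h]
    simp only [F.two, add_zero]
  have hW2 : 2 ∣ Nat.card ↥W := by
    have h1 : (⟨s • v0 + v0, hw0⟩ : ↥W) ≠ 0 := fun h => hv0 (eqz _ _ (congrArg Subtype.val h))
    have h2 : addOrderOf (⟨s • v0 + v0, hw0⟩ : ↥W) = 2 := by
      have : Fact (Nat.Prime 2) := ⟨Nat.prime_two⟩
      refine addOrderOf_eq_prime ?_ h1
      rw [two_nsmul]
      exact Subtype.ext (F.two _)
    rw [← h2]
    exact addOrderOf_dvd_natCard _
  obtain ⟨w, hw, hw0, hwT⟩ := exists_fixed hT tW hW2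
  have hswT : ∀ t ∈ T, t • s • w = s • w := fun t ht => by rw [tcomm t ht, hwT t ht]
  have inv2 : ∀ x y : V, om (s • x) y = om x (s • s • y) := fun x y => by
    rw [← F.inv s x (s • s • y), s3]
  rcases z2 (om w (s • w)) with ha | ha
  · -- isotropic
    -- `v ∈ W` with `om w v = 1`, `om (s w) v = 0`
    obtain ⟨v, hv, hwv, hswv⟩ : ∃ v ∈ W, om w v = 1 ∧ om (s • w) v = 0 := by
      obtain ⟨y, -, hy⟩ := F.nd_top w trivial hw0
      have hy' : s • y + s • s • y ∈ W := by
        rw [hW]
        simp only [smul_add, s3]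
        have h : s • y + s • s • y + (s • s • y + y) + (y + s • y) = (s • y + s • y) + (y + y) +
            (s • s • y + s • s • y) := by abel
        rw [h]
        simp only [F.two, add_zero]
      have hwy : om w (s • y + s • s • y) = 1 := by
        rw [F.addr, ← inv2, ← hy]
        have h1 : om w (s • y) = om (s • s • w) y := by rw [inv2, inv2, s3]
        rw [h1, ← F.add]
        congr 1
        rw [ss w hw]
        rw [add_assoc, F.two, add_zero]
      rcases z2 (om (s • w) (s • y + s • s • y)) with h | h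
      · exact ⟨_, hy', hwy, h⟩
      · refine ⟨s • s • (s • y + s • s • y), sW _ (sW _ hy'), ?_, ?_⟩
        · rw [← inv2]; exact h
        · rw [inv2, s3]
          have h1 : om w (s • (s • y + s • s • y)) = om (s • s • w) (s • y + s • s • y) := by rw [inv2, inv2, s3]
          rw [h1, ss w hw, F.add, hwy, h, two]
    have hwsv : om w (s • v) = 1 := by
      have h1 : om w (s • v) = om (s • s • w) v := by rw [inv2, inv2, s3]
      rw [h1, ss w hw, F.add, hwv, hswv, add_zero]
    have hswsv : om (s • w) (s • v) = 1 := by rw [F.inv, hwv]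
    set e := om v (s • v) with he
    -- the second pair
    have hsvT : ∀ t ∈ T ⊓ stabilizer G v, t • s • v = s • v := fun t ht => by rw [tcomm t ht.1, ht.2]
    obtain ⟨d, hd1, hd2, hd3, hd4, hdW⟩ : ∃ d : V, om w d = 0 ∧ om v d = 0 ∧ om (s • w) d = 1 ∧
        (∀ t ∈ T ⊓ stabilizer G v, t • d = d) ∧
        ∀ x : V, om v x = 0 → om w x = 0 → (om d x = 0 ↔ om (s • v) x = 0) := by
      have hsww : om (s • w) w = 0 := by rw [F.symm]; exact ha
      have hvw : om v w = 1 := by rw [F.symm]; exact hwv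
      rcases z2 e with h | h
      · refine ⟨s • v + v, ?_, ?_, ?_, ?_, ?_⟩
        · rw [F.addr, hwsv, hwv, two]
        · rw [F.addr, ← he, h, F.self, add_zero]
        · rw [F.addr, hswsv, hswv, add_zero]
        · intro t ht
          rw [smul_add, hsvT t ht, ht.2]
        · intro x h1 _
          rw [F.add, h1, add_zero]
      · refine ⟨s • v + v + w, ?_, ?_, ?_, ?_, ?_⟩
        · rw [F.addr, F.addr, hwsv, hwv, two, F.self, add_zero]
        · rw [F.addr, F.addr, ← he, h, F.self, hvw, add_zero, two]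
        · rw [F.addr, F.addr, hswsv, hswv, hsww, add_zero, add_zero]
        · intro t ht
          rw [smul_add, smul_add, hsvT t ht, ht.2, hwT t ht.1]
        · intro x h1 h2
          rw [F.add, F.add, h1, h2, add_zero, add_zero]
    have hT1 : IsPGroup 2 ↥(T ⊓ stabilizer G v) := hT.to_le inf_le_left
    have hfin1 : Finite ↥(T ⊓ stabilizer G v) := Finite.of_injective (Subgroup.inclusion inf_le_left)
      (Subgroup.inclusion_injective _)
    have hvsw : om v (s • w) = 0 := by rw [F.symm]; exact hswv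
    obtain ⟨hle, hone⟩ := F.fixed_four hV hf (a := w) (b := v) (c := s • w) (d := d) hwv ha hd1 hvsw hd2 hd3
      hT1 (fun t ht => hwT t ht.1) (fun t ht => ht.2) (fun t ht => hswT t ht.1) hd4
    -- the orbit of `v`
    have hK := card_le_mul (T := T) v (F.cut (F.cut W w) (s • w)) (fun t ht => ⟨⟨W.sub_mem (tW t ht v hv) hv,
      F.perp_smul_sub (hwT t ht)⟩, F.perp_smul_sub (hswT t ht)⟩)
    have k1 := F.card_cut hv hwv
    have k2 := F.card_cut (X := F.cut W w) (z := s • w) (y := s • v + v)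
      ⟨W.add_mem (sW v hv) hv, by rw [F.addr, hwsv, hwv, two]⟩ (by rw [F.addr, hswsv, hswv, add_zero])
    have hWd : Nat.card ↥W ∣ 64 := by
      rw [← hV]
      exact AddSubgroup.card_addSubgroup_dvd_card W
    by_cases hW64 : Nat.card ↥W = 64
    · have hWtop : W = ⊤ := by
        apply AddSubgroup.eq_top_of_card_eq
        rw [hW64, hV]
      have h1 : Nat.card ↥(T ⊓ stabilizer G v) = 1 := by
        refine hone s (fun t ht => hc t ht.1) ?_ ?_
        · intro x hx
          obtain ⟨⟨⟨⟨-, x1⟩, x2⟩, x3⟩, x4⟩ := hx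
          -- `s x ⊥ y` iff `x ⊥ s² y = y + s y`
          have xsv : om (s • v) x = 0 := (hdW x x2 x1).1 x4
          have q1 : om w (s • x) = 0 := by
            have h1 : om w (s • x) = om (s • s • w) x := by rw [inv2, inv2, s3]
            rw [h1, ss w hw, F.add, x1, x3, add_zero]
          have q2 : om v (s • x) = 0 := by
            have h1 : om v (s • x) = om (s • s • v) x := by rw [inv2, inv2, s3]
            rw [h1, ss v hv, F.add, x2, xsv, add_zero]
          have q3 : om (s • w) (s • x) = 0 := by rw [F.inv, x1]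
          exact ⟨⟨⟨⟨trivial, q1⟩, q2⟩, q3⟩, (hdW _ q2 q1).2 (by rw [F.inv, x2])⟩
        · intro x hx
          have h2 : x ∈ W := by rw [hWtop]; trivial
          rw [hW, hx, hx, F.two, zero_add] at h2
          exact h2
      rw [h1] at hK
      omega
    · have hW32 : Nat.card ↥W ≤ 32 := by
        obtain ⟨k, hk⟩ := hWd
        have k1 : k ≠ 1 := by rintro rfl; omega
        have k0 : k ≠ 0 := by rintro rfl; omega
        have k2 : 2 ≤ k := by omega
        have := Nat.mul_le_mul_left (Nat.card ↥W) k2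
        omega
      have : Nat.card ↥(F.cut (F.cut W w) (s • w)) ≤ 8 := by omega
      calc Nat.card ↥T ≤ _ := hK
        _ ≤ 8 * 2 := Nat.mul_le_mul this hle
        _ = 16 := rfl
  · -- nondegenerate
    have h1 : ND om (F.cut (F.cut ⊤ w) (s • w)) := F.nd_cut F.nd_top trivial trivial ha
    have e1 := F.card_cut_two (X := ⊤) (a := w) (b := s • w) trivial trivial ha
    rw [AddSubgroup.card_top, hV] at e1
    obtain ⟨u, hu, hu0, huT⟩ := exists_fixed (X := F.cut (F.cut ⊤ w) (s • w)) hT (by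
      intro t ht x hx
      have key : ∀ z, t • z = z → om z x = 0 → om z (t • x) = 0 := by
        intro z hz h
        rw [← F.inv t z x, hz] at h
        exact h
      exact ⟨⟨trivial, key w (hwT t ht) hx.1.2⟩, key (s • w) (hswT t ht) hx.2⟩) (by
      have h2 : Nat.card ↥(F.cut (F.cut ⊤ w) (s • w)) = 16 := by omega
      rw [h2]; norm_num)
    obtain ⟨v, hv, huv⟩ := h1 u hu hu0
    have k1 := F.card_cut hv huv
    have hK := card_le_mul (T := T) v (F.cut (F.cut (F.cut ⊤ w) (s • w)) u) (fun t ht => ⟨⟨⟨trivial,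
      F.perp_smul_sub (hwT t ht)⟩, F.perp_smul_sub (hswT t ht)⟩, F.perp_smul_sub (huT t ht)⟩)
    have hT1 : IsPGroup 2 ↥(T ⊓ stabilizer G v) := hT.to_le inf_le_left
    have hfin1 : Finite ↥(T ⊓ stabilizer G v) := Finite.of_injective (Subgroup.inclusion inf_le_left)
      (Subgroup.inclusion_injective _)
    obtain ⟨hle, -⟩ := F.fixed_four hV hf (a := w) (b := s • w) (c := u) (d := v) ha hu.1.2 hv.1.2 hu.2 hv.2 huv
      hT1 (fun t ht => hwT t ht.1) (fun t ht => hswT t ht.1) (fun t ht => huT t ht.1) (fun t ht => ht.2)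
    have : Nat.card ↥(F.cut (F.cut (F.cut ⊤ w) (s • w)) u) = 8 := by omega
    calc Nat.card ↥T ≤ _ := hK
      _ ≤ 8 * 2 := Nat.mul_le_mul this.le hle
      _ = 16 := rfl

end Form

end Cfsg.Agent.BpSpor.SympTwo

end

-- merged: Cfsg.Agent.BpSpor.CoThreeCent
section

/-!
# S1332: Co3, `p = 3` : the 2-part of the centralizers (helper25)

* `not_dvd_sp` : `32 ∤ |C(s)|`, `s` of order three of `Sp₆(2)`;
* `not_dvd_m12` : `32 ∤ |C(x)|`, `x` of order three of `M₁₂`;
* `not_sixty_four` : `64 ∤ |C(x)|`, `x` of order three of `Co₃`.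
-/

set_option autoImplicit false

namespace Cfsg.Agent.BpSpor.CoThree

open Cfsg Cfsg.Agent.SporRec.Co3.Chain Cfsg.Agent.SporRec.Co3.Ident
open Cfsg.Agent.SporRec.TwoSp6.Sp Cfsg.Agent.SporRec.TwoSp6.Main Cfsg.Agent.SporRec.TwoSp6.Invol
open Cfsg.Agent.SporRec.TwoSp6.CInvol (NS)
open Cfsg.Agent.SporRec.Co3.Fusion (tC mem_cent t_sq t_ne)
open Cfsg.Agent.SigZero
open Cfsg.Agent.SigZero.CoThreeA (card_V)
open Subgroup Cfsg.Agent.BpSpor.Cen

/-! ### `Sp₆(2)` -/

/-- the action on the natural module -/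
@[reducible] def dma : DistribMulAction S V where
  smul g v := act g v
  one_smul := act_one
  mul_smul := act_mul
  smul_zero := act_zero
  smul_add := act_add

theorem form : letI := dma; SympTwo.Form (V := V) om S := by
  let _ := dma
  exact
    { add := fun x y z => by rw [om_symm, om_add, om_symm z x, om_symm z y]
      symm := om_symm
      self := om_self
      nd := fun x h => by
        by_contra hx
        obtain ⟨a, ha⟩ := exists_om_one hx
        rw [h a] at ha
        exact zero_ne_one ha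
      inv := fun g x y => act_om g x y
      two := add_self }

theorem exists_two_group {X : Type*} [Group X] [Finite X] {s : X} (h : 32 ∣ Nat.card ↥(centralizer ({s} : Set X))) :
    ∃ T : Subgroup X, Nat.card ↥T = 32 ∧ ∀ t ∈ T, t * s = s * t := by
  have : Fact (Nat.Prime 2) := ⟨Nat.prime_two⟩
  obtain ⟨P, hP⟩ := Sylow.exists_subgroup_card_pow_prime 2 (n := 5) (G := ↥(centralizer ({s} : Set X)))
    (by norm_num; exact h)
  refine ⟨P.map (centralizer ({s} : Set X)).subtype, ?_, ?_⟩
  · rw [card_map_of_injective (subtype_injective _), hP]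
    norm_num
  · rintro _ ⟨t, -, rfl⟩
    exact mem_centralizer_singleton_iff.1 t.2

theorem not_dvd_sp {s : S} (hs : orderOf s = 3) : ¬ 32 ∣ Nat.card ↥(centralizer ({s} : Set S)) := by
  intro h
  obtain ⟨T, hT, hc⟩ := exists_two_group h
  let _ := dma
  have h3 : s * s * s = 1 := by
    have h4 := pow_orderOf_eq_one s
    rw [hs, pow_succ, pow_two] at h4
    exact h4
  have h1 : s ≠ 1 := by
    rintro rfl
    rw [orderOf_one] at hs
    norm_num at hs
  have h2 := form.card_le card_V (fun g hg => act_ext fun x => (hg x).trans (act_one x).symm) h3 h1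
    (IsPGroup.of_card (n := 5) (by rw [hT]; norm_num)) hc
  omega

/-! ### `M₁₂` -/

theorem pow_cases {x : Spor.M12} (hx : x ^ 3 = 1) (n : ℕ) : x ^ 2 ^ n = x ∨ x ^ 2 ^ n = x ^ 2 := by
  induction n with
  | zero => left; rw [pow_zero, pow_one]
  | succ n ih =>
    rw [pow_succ, pow_mul]
    rcases ih with h | h
    · right; rw [h]
    · left
      rw [h, ← pow_mul, show 2 * 2 = 3 + 1 from rfl, pow_add, hx, one_mul, pow_one]

/-- the orbits -/
theorem orbit_le {x : Spor.M12} (hx : x ^ 3 = 1) {T : Subgroup Spor.M12} (hT : IsPGroup 2 ↥T)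
    (hc : ∀ t ∈ T, t * x = x * t) {d : GolayPt} (hd : d ∈ CoThreeB.D) (hxd : (x : Equiv.Perm GolayPt) d ≠ d) :
    (MulAction.orbit ↥T d).ncard ≤ 4 := by
  have hcp : ∀ t ∈ T, ∀ p : GolayPt, (t : Equiv.Perm GolayPt) ((x : Equiv.Perm GolayPt) p) =
      (x : Equiv.Perm GolayPt) ((t : Equiv.Perm GolayPt) p) := fun t ht p =>
    congrArg (fun y : Spor.M12 => (y : Equiv.Perm GolayPt) p) (hc t ht)
  have hx3 : ∀ p : GolayPt, (x : Equiv.Perm GolayPt) ((x : Equiv.Perm GolayPt) ((x : Equiv.Perm GolayPt) p)) = p := by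
    intro p
    have h1 := congrArg (fun y : Spor.M12 => (y : Equiv.Perm GolayPt) p) hx
    rw [pow_succ, pow_two] at h1
    exact h1
  -- an element of `T` mapping `d` into its cycle fixes `d`
  have key : ∀ t ∈ T, (t : Equiv.Perm GolayPt) d ≠ (x : Equiv.Perm GolayPt) d := by
    intro t ht h
    obtain ⟨n, hn⟩ := hT ⟨t, ht⟩
    have hn' : t ^ 2 ^ n = 1 := congrArg Subtype.val hn
    have h1 : ∀ k : ℕ, ((t ^ k : Spor.M12) : Equiv.Perm GolayPt) d = ((x ^ k : Spor.M12) : Equiv.Perm GolayPt) d := by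
      intro k
      induction k with
      | zero => rw [pow_zero, pow_zero]
      | succ k ih =>
        rw [pow_succ, pow_succ']
        change ((t ^ k : Spor.M12) : Equiv.Perm GolayPt) ((t : Equiv.Perm GolayPt) d) =
          (x : Equiv.Perm GolayPt) (((x ^ k : Spor.M12) : Equiv.Perm GolayPt) d)
        rw [h, hcp _ (T.pow_mem ht k), ih]
    have h2 := h1 (2 ^ n)
    rw [hn'] at h2
    have h3 : d = ((x ^ 2 ^ n : Spor.M12) : Equiv.Perm GolayPt) d := h2
    rcases pow_cases hx n with h4 | h4 <;> rw [h4] at h3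
    · exact hxd h3.symm
    · apply hxd
      have h5 : d = (x : Equiv.Perm GolayPt) ((x : Equiv.Perm GolayPt) d) := by
        rw [pow_two] at h3
        exact h3
      have h6 := congrArg (x : Equiv.Perm GolayPt) h5
      rw [hx3] at h6
      exact h6
  set O := MulAction.orbit ↥T d with hO
  have hOD : O ⊆ (CoThreeB.D : Set GolayPt) := by
    rintro _ ⟨t, rfl⟩
    exact CoThreeM12.map_D (t : Spor.M12) hd
  have hxD : ∀ p ∈ (CoThreeB.D : Set GolayPt), (x : Equiv.Perm GolayPt) p ∈ (CoThreeB.D : Set GolayPt) := fun p hp =>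
    CoThreeM12.map_D x hp
  -- disjoint translates
  have d1 : ∀ p ∈ O, (x : Equiv.Perm GolayPt) p ∉ O := by
    rintro _ ⟨t, rfl⟩ ⟨u, hu⟩
    have h1 : ((u : Spor.M12) : Equiv.Perm GolayPt) d = (x : Equiv.Perm GolayPt) (((t : Spor.M12) : Equiv.Perm GolayPt) d) := hu
    apply key ((t : Spor.M12)⁻¹ * u) (T.mul_mem (T.inv_mem t.2) u.2)
    change (((t : Spor.M12)⁻¹ : Spor.M12) : Equiv.Perm GolayPt) (((u : Spor.M12) : Equiv.Perm GolayPt) d) = _
    rw [h1, ← hcp _ t.2]
    exact Equiv.symm_apply_apply ((t : Spor.M12) : Equiv.Perm GolayPt) _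
  have hinj : Function.Injective (x : Equiv.Perm GolayPt) := (x : Equiv.Perm GolayPt).injective
  have e1 : Disjoint O ((x : Equiv.Perm GolayPt) '' O) := by
    rw [Set.disjoint_left]
    rintro _ hp ⟨q, hq, rfl⟩
    exact d1 q hq hp
  have e2 : Disjoint (O ∪ (x : Equiv.Perm GolayPt) '' O) ((x : Equiv.Perm GolayPt) '' ((x : Equiv.Perm GolayPt) '' O)) := by
    rw [Set.disjoint_left]
    rintro p hp ⟨_, ⟨q, hq, rfl⟩, h1⟩
    rcases hp with hp | ⟨r, hr, h2⟩
    · apply d1 p hp
      rw [← h1, hx3]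
      exact hq
    · apply d1 q hq
      rw [hinj (h1.trans h2.symm)]
      exact hr
  have hfin : ∀ A : Set GolayPt, A.Finite := fun A => Set.toFinite A
  have h1 : (O ∪ (x : Equiv.Perm GolayPt) '' O ∪ (x : Equiv.Perm GolayPt) '' ((x : Equiv.Perm GolayPt) '' O)).ncard =
      O.ncard + O.ncard + O.ncard := by
    rw [Set.ncard_union_eq e2 (hfin _) (hfin _), Set.ncard_union_eq e1 (hfin _) (hfin _),
      Set.ncard_image_of_injective _ hinj, Set.ncard_image_of_injective _ hinj,
      Set.ncard_image_of_injective _ hinj]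
  have h2 : O ∪ (x : Equiv.Perm GolayPt) '' O ∪ (x : Equiv.Perm GolayPt) '' ((x : Equiv.Perm GolayPt) '' O) ⊆
      (CoThreeB.D : Set GolayPt) := by
    rintro p ((hp | ⟨q, hq, rfl⟩) | ⟨_, ⟨q, hq, rfl⟩, rfl⟩)
    · exact hOD hp
    · exact hxD _ (hOD hq)
    · exact hxD _ (hxD _ (hOD hq))
  have h3 := Set.ncard_le_ncard h2 (hfin _)
  rw [h1, Set.ncard_coe_finset, CoThreeB.card_D] at h3
  omega

theorem card_le_orbit {T : Subgroup Spor.M12} (d : GolayPt) :
    Nat.card ↥T = (MulAction.orbit ↥T d).ncard * Nat.card ↥(T ⊓ MulAction.stabilizer Spor.M12 d) := by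
  rw [← (MulAction.stabilizer ↥T d).card_mul_index, MulAction.index_stabilizer, mul_comm]
  congr 1
  refine Nat.card_congr
    { toFun := fun x => ⟨x, x.1.2, x.2⟩
      invFun := fun x => ⟨⟨x, x.2.1⟩, x.2.2⟩
      left_inv := fun _ => rfl
      right_inv := fun _ => rfl }

theorem not_dvd_m12 {x : Spor.M12} (hx : orderOf x = 3) : ¬ 32 ∣ Nat.card ↥(centralizer ({x} : Set Spor.M12)) := by
  intro h
  obtain ⟨T, hT, hc⟩ := exists_two_group h
  have hTp : IsPGroup 2 ↥T := IsPGroup.of_card (n := 5) (by rw [hT]; norm_num)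
  have hx3 : x ^ 3 = 1 := by rw [← hx, pow_orderOf_eq_one]
  have hx1 : x ≠ 1 := by
    rintro rfl
    rw [orderOf_one] at hx
    norm_num at hx
  have h4 := CoThreeM12.fix_le hx1
  have hcp : ∀ t ∈ T, ∀ p : GolayPt, (t : Equiv.Perm GolayPt) ((x : Equiv.Perm GolayPt) p) =
      (x : Equiv.Perm GolayPt) ((t : Equiv.Perm GolayPt) p) := fun t ht p =>
    congrArg (fun y : Spor.M12 => (y : Equiv.Perm GolayPt) p) (hc t ht)
  -- the moved points
  set M := CoThreeB.D.filter (fun p => ¬ (x : Equiv.Perm GolayPt) p = p) with hM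
  have hMc : 8 ≤ M.card := by
    have h5 := Finset.card_filter_add_card_filter_not (s := CoThreeB.D) (fun p => (x : Equiv.Perm GolayPt) p = p)
    rw [CoThreeB.card_D, ← hM] at h5
    omega
  obtain ⟨d, hd⟩ : M.Nonempty := Finset.card_pos.1 (by omega)
  have hdD := (Finset.mem_filter.1 hd).1
  have hdx := (Finset.mem_filter.1 hd).2
  have hinj : Function.Injective (x : Equiv.Perm GolayPt) := (x : Equiv.Perm GolayPt).injective
  set y : GolayPt → GolayPt := fun p => (x : Equiv.Perm GolayPt) p with hy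
  obtain ⟨e, he⟩ : (M \ {d, y d, y (y d)}).Nonempty := by
    rw [← Finset.card_pos]
    have h5 := Finset.le_card_sdiff ({d, y d, y (y d)} : Finset GolayPt) M
    have h6 : ({d, y d, y (y d)} : Finset GolayPt).card ≤ 3 := Finset.card_le_three
    omega
  rw [Finset.mem_sdiff] at he
  have heD := (Finset.mem_filter.1 he.1).1
  have hex := (Finset.mem_filter.1 he.1).2
  have hne := he.2
  simp only [Finset.mem_insert, Finset.mem_singleton, not_or] at hne
  have hx3' : ∀ p : GolayPt, y (y (y p)) = p := by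
    intro p
    have h1 := congrArg (fun z : Spor.M12 => (z : Equiv.Perm GolayPt) p) hx3
    rw [pow_succ, pow_two] at h1
    exact h1
  have o1 := orbit_le hx3 hTp hc hdD hdx
  have o2 := orbit_le hx3 (hTp.to_le (inf_le_left : T ⊓ MulAction.stabilizer Spor.M12 d ≤ T))
    (fun t ht => hc t ht.1) heD hex
  have o3 : Nat.card ↥(T ⊓ MulAction.stabilizer Spor.M12 d ⊓ MulAction.stabilizer Spor.M12 e : Subgroup Spor.M12) = 1 := by
    rw [Subgroup.card_eq_one, eq_bot_iff]
    rintro t ⟨⟨ht, htd⟩, hte⟩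
    rw [Subgroup.mem_bot]
    by_contra ht1
    have h5 := CoThreeM12.fix_le ht1
    have fd : (t : Equiv.Perm GolayPt) d = d := htd
    have fe : (t : Equiv.Perm GolayPt) e = e := hte
    have fy : ∀ p, (t : Equiv.Perm GolayPt) p = p → (t : Equiv.Perm GolayPt) (y p) = y p := by
      intro p hp
      have h6 := hcp t ht p
      rw [hp] at h6
      exact h6
    have yD : ∀ p ∈ CoThreeB.D, y p ∈ CoThreeB.D := fun p hp => CoThreeM12.map_D x hp
    have h6 : ({d, y d, y (y d), e, y e} : Finset GolayPt) ⊆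
        CoThreeB.D.filter (fun p => (t : Equiv.Perm GolayPt) p = p) := by
      intro p hp
      simp only [Finset.mem_insert, Finset.mem_singleton] at hp
      rw [Finset.mem_filter]
      rcases hp with rfl | rfl | rfl | rfl | rfl
      · exact ⟨hdD, fd⟩
      · exact ⟨yD _ hdD, fy _ fd⟩
      · exact ⟨yD _ (yD _ hdD), fy _ (fy _ fd)⟩
      · exact ⟨heD, fe⟩
      · exact ⟨yD _ heD, fy _ fe⟩
    have n1 : y d ≠ d := hdx
    have n2 : y (y d) ≠ d := by
      intro h
      apply n1
      have := congrArg y h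
      rw [hx3'] at this
      exact this.symm
    have n3 : y (y d) ≠ y d := fun h => n1 (hinj h)
    have n4 : y e ≠ e := hex
    have n5 : y e ≠ d := by
      intro h
      apply hne.2.2
      rw [← h, hx3']
    have n6 : y e ≠ y d := fun h => hne.1 (hinj h)
    have n7 : y e ≠ y (y d) := fun h => hne.2.1 (hinj h)
    have h7 : ({d, y d, y (y d), e, y e} : Finset GolayPt).card = 5 := by
      rw [Finset.card_insert_of_notMem, Finset.card_insert_of_notMem, Finset.card_insert_of_notMem,
        Finset.card_insert_of_notMem, Finset.card_singleton]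
      · simpa using n4.symm
      · simp only [Finset.mem_insert, Finset.mem_singleton, not_or]
        exact ⟨fun h => hne.2.2 h.symm, n7.symm⟩
      · simp only [Finset.mem_insert, Finset.mem_singleton, not_or]
        exact ⟨n3.symm, fun h => hne.2.1 h.symm, n6.symm⟩
      · simp only [Finset.mem_insert, Finset.mem_singleton, not_or]
        exact ⟨n1.symm, n2.symm, fun h => hne.1 h.symm, n5.symm⟩
    have h8 := Finset.card_le_card h6
    rw [h7] at h8
    omega
  have c1 := card_le_orbit (T := T) d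
  have c2 := card_le_orbit (T := T ⊓ MulAction.stabilizer Spor.M12 d) e
  rw [o3, mul_one] at c2
  rw [hT, c2] at c1
  have := Nat.mul_le_mul o1 o2
  omega

/-! ### `Co₃` -/

theorem not_dvd_of {m n : ℕ} (h : m ∣ 2 * n) (hn : ¬ 32 ∣ n) : ¬ 64 ∣ m := by
  intro h1
  have h2 : 2 * 32 ∣ 2 * n := h1.trans h
  exact hn (Nat.dvd_of_mul_dvd_mul_left (by norm_num) h2)

/-- a group with an involution `t` and a homomorphism of `C(t)` with kernel `⟨t⟩` -/
theorem bd2_of {X : Type*} [Group X] [Finite X] {Y : Type*} [Group Y] [Finite Y] {t : X} (ht2 : t * t = 1)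
    (ρ : ↥(centralizer ({t} : Set X)) →* Y) (hker : ∀ c, ρ c = 1 → (c : X) = 1 ∨ (c : X) = t)
    (hY : ∀ y : Y, orderOf y = 3 → ¬ 32 ∣ Nat.card ↥(centralizer ({y} : Set Y))) : Bd2 3 t := by
  intro x hx hxt
  let x' : ↥(centralizer ({t} : Set X)) := ⟨x, mem_centralizer_singleton_iff.2 hxt⟩
  have h1 := card_inf_dvd (C := centralizer ({t} : Set X)) (N := zpowers t) ρ (fun c hc => by
    rcases hker c hc with h | h <;> rw [h]
    · exact one_mem _
    · exact mem_zpowers t) x'
  have h2 : Nat.card ↥(zpowers t ⊓ centralizer ({x} : Set X)) ∣ 2 := by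
    refine (card_dvd_of_le inf_le_left).trans ?_
    rw [Nat.card_zpowers]
    exact orderOf_dvd_of_pow_eq_one (by rw [pow_two]; exact ht2)
  have h3 : orderOf (ρ x') = 3 := by
    have : Fact (Nat.Prime 3) := ⟨Nat.prime_three⟩
    have hx3 : x ^ 3 = 1 := by rw [← hx, pow_orderOf_eq_one]
    apply orderOf_eq_prime
    · rw [← map_pow]
      have : x' ^ 3 = 1 := Subtype.ext hx3
      rw [this, map_one]
    · intro h
      rcases hker x' h with h | h
      · have h4 : x = 1 := h
        rw [h4, orderOf_one] at hx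
        norm_num at hx
      · have h4 : x = t := h
        have h5 : orderOf x ∣ 2 := orderOf_dvd_of_pow_eq_one (by rw [pow_two, h4]; exact ht2)
        rw [hx] at h5
        norm_num at h5
  exact not_dvd_of (h1.trans (Nat.mul_dvd_mul_right h2 _)) (hY _ h3)

/-- transport -/
theorem bd2_congr {X Y : Type*} [Group X] [Group Y] (e : X ≃* Y) {t : X} (h : Bd2 3 t) : Bd2 3 (e t) := by
  intro y hy hyt
  have h1 : orderOf (e.symm y) = 3 := by rw [MulEquiv.orderOf_eq, hy]
  have h2 := h (e.symm y) h1 (by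
    apply e.injective
    rw [map_mul, map_mul, e.apply_symm_apply, hyt])
  have h3 : (centralizer ({t} : Set X) ⊓ centralizer ({e.symm y} : Set X)).map e.toMonoidHom =
      centralizer ({e t} : Set Y) ⊓ centralizer ({y} : Set Y) := by
    ext z
    rw [mem_inf, mem_centralizer_singleton_iff, mem_centralizer_singleton_iff]
    constructor
    · rintro ⟨a, ⟨ha0, hb0⟩, rfl⟩
      have ha : a * t = t * a := mem_centralizer_singleton_iff.1 ha0
      have hb : a * e.symm y = e.symm y * a := mem_centralizer_singleton_iff.1 hb0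
      constructor
      · change e a * e t = e t * e a
        rw [← map_mul, ha, map_mul]
      · change e a * y = y * e a
        have h4 := congrArg e hb
        rwa [map_mul, map_mul, e.apply_symm_apply] at h4
    · rintro ⟨ha, hb⟩
      refine ⟨e.symm z, ⟨mem_centralizer_singleton_iff.2 ?_, mem_centralizer_singleton_iff.2 ?_⟩, e.apply_symm_apply z⟩
      · apply e.injective
        rw [map_mul, map_mul, e.apply_symm_apply, ha]
      · rw [← map_mul, hb, map_mul]
  rw [← h3, card_map_of_injective (f := e.toMonoidHom) e.injective]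
  exact h2

theorem finite_G3 : Finite G3 := Nat.finite_of_card_ne_zero (by rw [isCo3_G3.2]; norm_num)

/-- `2.Sp₆(2)` -/
theorem bd2_Z : Bd2 3 (Z : G3) := by
  have := finite_G3
  obtain ⟨π, N⟩ := KFacts.Co3D4.exists_NS_G3
  refine bd2_of (t_sq N) π (fun c hc => ?_) (fun y hy => not_dvd_sp hy)
  rcases N.ker c hc with h | h
  · exact Or.inl (congrArg Subtype.val h)
  · exact Or.inr (congrArg Subtype.val h)

/-- `2 × M₁₂` -/
theorem exists_bd2 : ∃ w : G3, w * w = 1 ∧ w ≠ 1 ∧ Nat.card (Subgroup.centralizer ({w} : Set G3)) ≤ 2 * 95040 ∧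
    Bd2 3 w := by
  have := finite_G3
  obtain ⟨e⟩ := SigZero.CoThree.exists_equiv
  have hf : Finite CoThreeB.K := Finite.of_equiv _ e.symm.toEquiv
  refine ⟨e CoThreeB.wK, ?_, ?_, ?_, ?_⟩
  · rw [← map_mul, CoThreeB.wK_sq, map_one]
  · intro h
    exact CoThreeB.wK_ne ((map_eq_one_iff e e.injective).1 h)
  · refine le_trans (le_of_eq ?_) SigZero.CoThree.card_C_le
    have h3 : (centralizer ({CoThreeB.wK} : Set CoThreeB.K)).map e.toMonoidHom =
        centralizer ({e CoThreeB.wK} : Set G3) := by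
      ext z
      rw [mem_centralizer_singleton_iff]
      constructor
      · rintro ⟨a, ha, rfl⟩
        rw [SetLike.mem_coe, mem_centralizer_singleton_iff] at ha
        change e a * e _ = e _ * e a
        rw [← map_mul, ha, map_mul]
      · intro ha
        refine ⟨e.symm z, mem_centralizer_singleton_iff.2 ?_, e.apply_symm_apply z⟩
        apply e.injective
        rw [map_mul, map_mul, e.apply_symm_apply, ha]
    rw [← h3, card_map_of_injective (f := e.toMonoidHom) e.injective]
  · refine bd2_congr e (bd2_of CoThreeB.wK_sq CoThreeB.proj (fun c hc => ?_) (fun y hy => not_dvd_m12 hy))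
    rcases CoThreeB.ker_proj hc with h | h
    · exact Or.inl (congrArg Subtype.val h)
    · exact Or.inr h

/-- **`64 ∤ |C(x)|`** -/
theorem not_sixty_four {x : G3} (hx : orderOf x = 3) : ¬ 64 ∣ Nat.card ↥(centralizer ({x} : Set G3)) := by
  have := finite_G3
  obtain ⟨w, hw2, hw1, hwc, hwb⟩ := exists_bd2
  refine not_dvd_of_inv (k := 6) (by norm_num) fun t ht hxt => ?_
  have ht2 : t * t = 1 := by rw [← pow_two, ← ht, pow_orderOf_eq_one]
  have ht1 : t ≠ 1 := by
    rintro rfl
    rw [orderOf_one] at ht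
    norm_num at ht
  have hb : Bd2 3 t := by
    rcases SigZero.CoThree.classes hw2 hw1 hwc ht2 ht1 with ⟨g, hg⟩ | ⟨g, hg⟩
    · exact bd2_Z.conj (isConj_iff.2 ⟨g, hg⟩)
    · exact hwb.conj (isConj_iff.2 ⟨g, hg⟩)
  exact hb x hx hxt

end Cfsg.Agent.BpSpor.CoThree

end
end
end
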