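import Mathlib
import Cfsg.Agent.FastGrp
import Cfsg.Agent.Prune
set_option linter.all false
prune_inst 0x7f00000000000000000000000000000000000000000000000000000000000000000000000000000000000000000000000000000000000000000000000000000000000000000000000000000000000000003fffffffffffffffffffffffffffbeffbdffffffff
open scoped Cfsg.Agent.FastGrp

/-!
# Sylow data of a perfect group at a prime dividing its order exactly once
-/

set_option autoImplicit false

namespace Cfsg.Agent.BpSpor.SylowData

open Subgroup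

variable {Y : Type*} [Group Y] [Finite Y] {q : ℕ} [hq : Fact q.Prime]

theorem exists_sylow (h2 : ¬ q ^ 2 ∣ Nat.card Y) {y : Y} (hy : orderOf y = q) :
    ∃ P : Sylow q Y, (P : Subgroup Y) = zpowers y := by
  have hP : IsPGroup q ↥(zpowers y) := IsPGroup.of_card (n := 1) (by rw [Nat.card_zpowers, hy, pow_one])
  obtain ⟨P, hP'⟩ := hP.exists_le_sylow
  refine ⟨P, (eq_of_le_of_card_ge hP' ?_).symm⟩
  obtain ⟨n, hn⟩ := IsPGroup.iff_card.1 P.2
  have h3 : q ^ n ∣ Nat.card Y := hn ▸ card_subgroup_dvd_card (P : Subgroup Y)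
  have h4 : n ≤ 1 := by
    by_contra h
    exact h2 ((pow_dvd_pow q (by omega)).trans h3)
  rw [Nat.card_zpowers, hy]
  change Nat.card ↥(P : Subgroup Y) ≤ q
  rw [hn]
  calc q ^ n ≤ q ^ 1 := Nat.pow_le_pow_right hq.out.pos h4
    _ = q := pow_one q

theorem centralizer_zpowers (y : Y) : centralizer (zpowers y : Set Y) = centralizer ({y} : Set Y) := by
  ext c
  rw [mem_centralizer_singleton_iff, mem_centralizer_iff]
  constructor
  · intro h
    exact (h y (mem_zpowers y)).symm
  · rintro h z ⟨k, rfl⟩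
    have h1 : Commute c y := h
    exact (h1.zpow_right k).eq.symm

/-- Burnside's transfer theorem for perfect groups -/
theorem not_le (hperf : commutator Y = ⊤) (h2 : ¬ q ^ 2 ∣ Nat.card Y) {y : Y} (hy : orderOf y = q) :
    ¬ normalizer (zpowers y : Set Y) ≤ centralizer ({y} : Set Y) := by
  intro hle
  obtain ⟨P, hP⟩ := exists_sylow h2 hy
  have hP' : normalizer (P : Set Y) ≤ centralizer (P : Set Y) := by
    have h3 : ((P : Subgroup Y) : Set Y) = (zpowers y : Set Y) := by rw [hP]
    have h4 : (P : Set Y) = ((P : Subgroup Y) : Set Y) := rfl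
    rw [h4, h3, centralizer_zpowers]
    exact hle
  have h3 := MonoidHom.not_dvd_card_ker_transferSylow P hP'
  apply h3
  have hc : IsMulCommutative ↥(P : Subgroup Y) := by
    rw [hP]
    infer_instance
  have h4 : (MonoidHom.transferSylow P hP').ker = ⊤ := by
    rw [eq_top_iff, ← hperf, commutator_def, commutator_le]
    intro a _ b _
    rw [MonoidHom.mem_ker, map_commutatorElement, commutatorElement_eq_one_iff_mul_comm]
    exact hc.is_comm.comm _ _
  rw [h4, card_top]
  have h5 := orderOf_dvd_natCard y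
  rwa [hy] at h5

/-- the order of the centralizer of an element of order `q`, if `q` divides the order of a perfect group exactly once -/
theorem data (hperf : commutator Y = ⊤) (h2 : ¬ q ^ 2 ∣ Nat.card Y) {y : Y} (hy : orderOf y = q) :
    ∃ c r s : ℕ, Nat.card ↥(centralizer ({y} : Set Y)) = q * c ∧ q * c * r * s = Nat.card Y ∧ r ≠ 1 ∧ r ∣ q - 1 ∧
      s ≠ 1 ∧ s % q = 1 := by
  obtain ⟨P, hP⟩ := exists_sylow h2 hy
  set N := normalizer (zpowers y : Set Y) with hN
  set C := centralizer ({y} : Set Y) with hC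
  have hCN : C ≤ N := by
    rw [hC, ← centralizer_zpowers]
    exact centralizer_le_normalizer _
  have hyC : zpowers y ≤ C := by
    rw [zpowers_le, hC, mem_centralizer_singleton_iff]
  obtain ⟨c, hc⟩ : q ∣ Nat.card C := by
    have := card_dvd_of_le hyC
    rwa [Nat.card_zpowers, hy] at this
  have h3 : Nat.card C * C.relIndex N = Nat.card N := by
    have h1 := (C.subgroupOf N).card_mul_index
    rwa [Nat.card_congr (subgroupOfEquivOfLe hCN).toEquiv] at h1
  have h4 : Nat.card N * N.index = Nat.card Y := N.card_mul_index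
  have hr1 : C.relIndex N ≠ 1 := by
    intro h
    exact not_le hperf h2 hy (relIndex_eq_one.1 h)
  -- `N / C`
  have hrd : C.relIndex N ∣ q - 1 := by
    have hker : (normalizerMonoidHom (zpowers y)).ker = C.subgroupOf N := by
      rw [normalizerMonoidHom_ker, centralizer_zpowers]
    have h5 : C.relIndex N = Nat.card (normalizerMonoidHom (zpowers y)).range := by
      rw [← index_ker, hker]
      rfl
    rw [h5]
    have h6 : Nat.card (MulAut ↥(zpowers y)) = q - 1 := by
      rw [IsCyclic.card_mulAut, Nat.card_zpowers, hy, Nat.totient_prime hq.out]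
    rw [← h6]
    exact card_subgroup_dvd_card _
  have hs : N.index % q = 1 := by
    have h5 := card_sylow_modEq_one q Y
    rw [P.card_eq_index_normalizer] at h5
    have h6 : (P : Set Y) = ((P : Subgroup Y) : Set Y) := rfl
    rw [h6, hP] at h5
    have h7 : N.index % q = 1 % q := h5
    rwa [Nat.mod_eq_of_lt hq.out.one_lt] at h7
  have hs1 : N.index ≠ 1 := by
    intro h
    have hNt : N = ⊤ := index_eq_one.1 h
    -- the image of `N = Y` in the abelian group `Aut (zpowers y)` is trivial
    have h5 : C = ⊤ := by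
      rw [eq_top_iff, ← hperf, commutator_def, commutator_le]
      intro a _ b _
      have ha : a ∈ N := by rw [hNt]; trivial
      have hb : b ∈ N := by rw [hNt]; trivial
      have h6 : ∀ n ∈ N, ∃ k : ℤ, n * y * n⁻¹ = y ^ k := by
        intro n hn
        have h7 := (mem_normalizer_iff.1 hn y).1 (mem_zpowers y)
        obtain ⟨k, hk⟩ := h7
        exact ⟨k, hk.symm⟩
      obtain ⟨k, hk⟩ := h6 a ha
      obtain ⟨l, hl⟩ := h6 b hb
      have e1 : (a * b) * y * (a * b)⁻¹ = y ^ (k * l) := by
        calc (a * b) * y * (a * b)⁻¹ = a * (b * y * b⁻¹) * a⁻¹ := by group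
          _ = a * y ^ l * a⁻¹ := by rw [hl]
          _ = (a * y * a⁻¹) ^ l := by rw [conj_zpow]
          _ = y ^ (k * l) := by rw [hk, zpow_mul]
      have e2 : (b * a) * y * (b * a)⁻¹ = y ^ (k * l) := by
        calc (b * a) * y * (b * a)⁻¹ = b * (a * y * a⁻¹) * b⁻¹ := by group
          _ = b * y ^ k * b⁻¹ := by rw [hk]
          _ = (b * y * b⁻¹) ^ k := by rw [conj_zpow]
          _ = y ^ (k * l) := by rw [hl, ← zpow_mul, mul_comm]
      rw [hC, mem_centralizer_singleton_iff, commutatorElement_def]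
      have e3 : (a * b) * y * (a * b)⁻¹ = (b * a) * y * (b * a)⁻¹ := by rw [e1, e2]
      -- conjugate by `a b a⁻¹ b⁻¹ = (a b) (b a)⁻¹`
      have e4 : a * b * a⁻¹ * b⁻¹ = (a * b) * (b * a)⁻¹ := by group
      rw [e4]
      have e5 : ∀ m : ℤ, (a * b) * y ^ m * (a * b)⁻¹ = (b * a) * y ^ m * (b * a)⁻¹ := by
        intro m
        rw [← conj_zpow, ← conj_zpow, e3]
      -- `(b a)⁻¹ y (b a)` is a power of `y`
      obtain ⟨m, hm⟩ : ∃ m : ℤ, (b * a)⁻¹ * y * (b * a) = y ^ m := by
        obtain ⟨m, hm⟩ := h6 (b * a)⁻¹ (inv_mem (mul_mem hb ha))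
        exact ⟨m, by rw [← hm, inv_inv]⟩
      have e6 : (a * b) * (b * a)⁻¹ * y * ((a * b) * (b * a)⁻¹)⁻¹ = y := by
        calc (a * b) * (b * a)⁻¹ * y * ((a * b) * (b * a)⁻¹)⁻¹
            = (a * b) * ((b * a)⁻¹ * y * (b * a)) * (a * b)⁻¹ := by group
          _ = (a * b) * y ^ m * (a * b)⁻¹ := by rw [hm]
          _ = (b * a) * y ^ m * (b * a)⁻¹ := e5 m
          _ = (b * a) * ((b * a)⁻¹ * y * (b * a)) * (b * a)⁻¹ := by rw [hm]
          _ = y := by group
      exact mul_inv_eq_iff_eq_mul.1 e6
    exact hr1 (by rw [h5, relIndex_top_left])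
  refine ⟨c, C.relIndex N, N.index, hc, ?_, hr1, hrd, hs1, hs⟩
  rw [← hc, h3, h4]

end Cfsg.Agent.BpSpor.SylowData
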