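import Cfsg.Agent.BpTab.Base
import Cfsg.Agent.CpAut.Base
import Cfsg.Agent.OddHalf.Quat.NoThreeTools
import Mathlib
import Cfsg.Agent.CpAut.RankOne
import Cfsg.Agent.BpTab.Rows
import Cfsg.Agent.OrdDiv.Core
import Cfsg.Agent.FastGrp
import Cfsg.Agent.Prune
set_option linter.all false

section
prune_inst 0x7f00000000000000000000000000000000000000000000000000000000000000000000000000000000000000000000000000000000000000000000000000000000000000000000000000000000000000003fffffffffffffffffffffffffffbeffbdffffffff

-- part: BpSpor/NoComp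
section
set_option linter.all false
open scoped Cfsg.Agent.FastGrp

/-!
# Rows `BpS p K` of S1332, sporadic `K`: tools (helper25)

* `NoComp p H` : `H / O_{p'}(H)` has no component; `NoComp.good : Good p H`;
* `bpS_of_inner` : all automorphisms of order `p` are inner: `BpS p X` from `Good p (C_X(g))`;
* `bpS_congr` : transport along isomorphisms.
-/

set_option autoImplicit false

namespace Cfsg.Agent.BpSpor

open Subgroup Cfsg
open Cfsg.Agent.BpTab Cfsg.Agent.CpAut

universe u v

/-- `H / O_{p'}(H)` has no component. -/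
def NoComp (p : ℕ) (H : Type*) [Group H] : Prop := ∀ J : Subgroup (H ⧸ pPrimeCore p H), ¬ IsComponent J

theorem NoComp.good {p : ℕ} {H : Type*} [Group H] (h : NoComp p H) : Good p H :=
  good_of_none fun _ hK => h _ hK.2.1

theorem NoComp.of_solvable {p : ℕ} {H : Type*} [Group H] (hs : Group.IsSolvable H) : NoComp p H := by
  intro J hJ
  have := Cfsg.Agent.Lib.Cores.pPrimeCore_normal (G := H) p
  have h2 : Group.IsSolvable (H ⧸ pPrimeCore p H) := inferInstance
  exact SignalizersComponents.Components.quasisimple_not_isSolvable hJ.2 inferInstance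

variable {X : Type u} [Group X]

/-- all automorphisms of order `p` are inner -/
theorem bpS_of_inner {p : ℕ} (hc : center X = ⊥) (hi : AutInner p X)
    (h : ∀ g : X, orderOf g = p → Good p ↥(centralizer ({g} : Set X))) : BpS p X := by
  intro x hx
  obtain ⟨g, rfl⟩ := hi x hx
  rw [orderOf_conj hc] at hx
  rw [fixedSubgroup_conj]
  exact h g hx

/-- transport along isomorphisms -/
theorem bpS_congr {Y : Type v} [Group Y] [Finite X] [Finite Y] {p : ℕ} [Fact p.Prime] (e : X ≃* Y) (h : BpS p X) :
    BpS p Y := by
  intro y hy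
  have h1 : orderOf (MulAut.congr e.symm y) = p := by
    rw [← hy]
    exact MulEquiv.orderOf_eq (MulAut.congr e.symm) y
  have h2 := h _ h1
  have h3 : (fixedSubgroup (MulAut.congr e.symm y)).map e.toMonoidHom = fixedSubgroup y := by
    rw [map_fixedSubgroup]
    congr 1
    ext v
    simp
  have h4 := h2.congr (((fixedSubgroup (MulAut.congr e.symm y)).equivMapOfInjective e.toMonoidHom e.injective).trans
    (MulEquiv.subgroupCongr h3))
  exact h4

end Cfsg.Agent.BpSpor
end

-- part: BpSpor/Inn/Base
section
set_option linter.all false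
open scoped Cfsg.Agent.FastGrp

/-!
# Automorphisms of odd prime order of the sporadic groups are inner: tools (helper5)

`OddInn K` : every automorphism of odd prime order of `K` is inner.
-/

set_option autoImplicit false

namespace Cfsg.Agent.BpSpor.Inn

open Subgroup Cfsg Cfsg.Agent.CpAut

universe u v

/-- every automorphism of odd prime order of `K` is inner -/
def OddInn (K : Type*) [Group K] : Prop := ∀ p : ℕ, p.Prime → p ≠ 2 → AutInner p K

theorem OddInn.congr {K : Type u} {L : Type v} [Group K] [Group L] (e : K ≃* L) (h : OddInn L) : OddInn K :=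
  fun p hp hp2 => (h p hp hp2).congr e.symm

/-- the square of every automorphism is inner -/
theorem of_sq {K : Type*} [Group K] (h : ∀ x : MulAut K, ∃ g : K, x * x = MulAut.conj g) : OddInn K :=
  fun _ hp hp2 => autInner_of_sq hp hp2 h

theorem of_pow {K : Type*} [Group K] (h : ∀ x : MulAut K, x ^ 2 ∈ (MulAut.conj : K →* MulAut K).range) : OddInn K :=
  of_sq fun x => by
    obtain ⟨g, hg⟩ := h x
    exact ⟨g, by rw [hg, pow_two]⟩

theorem of_inner {K : Type*} [Group K] (h : ∀ x : MulAut K, ∃ g : K, x = MulAut.conj g) : OddInn K :=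
  fun _ _ _ x _ => h x

theorem of_inner' {K : Type*} [Group K] (h : ∀ x : MulAut K, x ∈ (MulAut.conj : K →* MulAut K).range) : OddInn K :=
  of_inner fun x => by
    obtain ⟨g, hg⟩ := h x
    exact ⟨g, hg.symm⟩

theorem of_dvd_two {K : Type*} [Group K] (h : (MulAut.conj : K →* MulAut K).range.index ∣ 2) : OddInn K := by
  have hn := Cfsg.Agent.OddHalf.Quat.NoThree.normal_inn (K := K)
  refine of_pow fun x => ?_
  obtain ⟨m, hm⟩ := h
  rw [hm, pow_mul]
  exact pow_mem (Subgroup.pow_index_mem _ x) m

theorem of_index {K : Type*} [Group K] (h : (MulAut.conj : K →* MulAut K).range.index = 1 ∨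
    (MulAut.conj : K →* MulAut K).range.index = 2) : OddInn K :=
  of_dvd_two (by rcases h with h | h <;> rw [h]; norm_num)

/-- products `b * a⁻¹` of non-inner automorphisms are inner -/
theorem of_mul_inv {K : Type*} [Group K] (h : ∀ a b : MulAut K, (∀ u, a ≠ MulAut.conj u) →
    (∀ u, b ≠ MulAut.conj u) → ∃ u : K, b * a⁻¹ = MulAut.conj u) : OddInn K := by
  refine of_sq fun x => ?_
  by_cases hx : ∃ u, x = MulAut.conj u
  · obtain ⟨u, rfl⟩ := hx
    exact ⟨u * u, by rw [map_mul]⟩
  · push Not at hx
    obtain ⟨u, hu⟩ := h x⁻¹ x (fun v hv => hx v⁻¹ (by rw [map_inv, ← hv, inv_inv])) hx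
    exact ⟨u, by rw [← hu, inv_inv]⟩

end Cfsg.Agent.BpSpor.Inn
end

-- part: BpSpor/RowAll
section
set_option linter.all false
open scoped Cfsg.Agent.FastGrp

-- merged: Cfsg.Agent.BpSpor.Normal
section

/-!
# `Good p H` from a component of order divisible by `p` (helper36)

* `isPComponent_of_component` : a component `A` of `H` with `p ∣ |A|` is a `p`-component;
* `pcomp_cases` : every `p`-component of `H` is `A` or centralises `A`;
* `good_of_component` : if moreover `C_H(A)` has no `p`-components then `Good p H`;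
* `not_pcomp_of_rank_one`, `not_pcomp_of_sq` : no `p`-components in a group with a central element of order `p` and `p`-rank one
  (in particular if `p ^ 2` does not divide the order).
-/

set_option autoImplicit false

namespace Cfsg.Agent.BpSpor

open Subgroup Cfsg Cfsg.Agent.Lib Cfsg.Agent.SignalizersComponents Cfsg.Agent.BpTab
open Cfsg.Agent.Intrinsic.Charac (isPComponent_iff)

universe u

section

variable {H : Type u} [Group H] [Finite H] {p : ℕ} [hp : Fact p.Prime]

/-- A component of order divisible by `p` is a `p`-component. -/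
theorem isPComponent_of_component {A : Subgroup H} (hA : IsComponent A) (hd : p ∣ Nat.card ↥A) : IsPComponent p A := by
  refine isPComponent_iff.2 ⟨hA.1, ?_, ?_⟩
  · have hn := Cores.pPrimeCore_normal (G := ↥A) p
    refine ComponentImage.isQuasisimple_of_surjective hA.2 (QuotientGroup.mk' (pPrimeCore p ↥A))
      (QuotientGroup.mk'_surjective _) ?_
    rw [← not_subsingleton_iff_nontrivial, QuotientGroup.subsingleton_iff]
    intro h
    exact (hp.out.coprime_iff_not_dvd.1 ((Cores.pPrimeCore_eq_top_iff p).1 h).symm) hd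
  · apply le_antisymm (PComponents.pElem_le A)
    have h1 := PComponents.quasisimple_pElem_top hA.2 hd
    have h2 : PComponents.pElem p (⊤ : Subgroup A) ≤ (PComponents.pElem p A).subgroupOf A := by
      refine (Subgroup.closure_le _).mpr ?_
      rintro y ⟨-, n, hn⟩
      change (y : H) ∈ PComponents.pElem p A
      exact PComponents.mem_pElem y.2 (n := n) (by simpa using congrArg Subtype.val hn)
    rw [h1, top_le_iff, Subgroup.subgroupOf_eq_top] at h2
    exact h2

/-- Every `p`-component is `A` or centralises `A`. -/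
theorem pcomp_cases {A L : Subgroup H} (hA : IsComponent A) (hd : p ∣ Nat.card ↥A) (hL : IsPComponent p L) :
    L = A ∨ L ≤ centralizer (A : Set H) := by
  rcases Components.component_le_or_commutator_eq_bot hA hL.1 with h | h
  · left
    by_contra hne
    have h1 := PComponents.commutator_pcomp_le_core hL (isPComponent_of_component hA hd) hne
    have h2 : A ≤ pPrimeCore p H := by
      conv_lhs => rw [← Components.component_commutator_self hA]
      exact (commutator_mono h le_rfl).trans h1
    have h3 := (Cores.pPrimeCore_coprime (G := H) p).coprime_dvd_left (card_dvd_of_le h2)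
    exact (hp.out.coprime_iff_not_dvd.1 h3.symm) hd
  · right
    rw [commutator_comm] at h
    exact commutator_eq_bot_iff_le_centralizer.1 h

/-- **If `A` is a component of order divisible by `p` and `C_H(A)` has no `p`-components, the `p`-layer is `A`.** -/
theorem good_of_component {A : Subgroup H} (hA : IsComponent A) (hd : p ∣ Nat.card ↥A)
    (hC : ∀ B : Subgroup ↥(centralizer (A : Set H)), ¬ IsPComponent p B) : Good p H := by
  rw [good_iff]
  intro L hL
  have hn := Cores.pPrimeCore_normal (G := H) p
  rcases pcomp_cases hA hd hL with rfl | h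
  · rcases Components.component_le_or_commutator_eq_bot hA hn.isSubnormal with h1 | h1
    · exfalso
      have h3 := (Cores.pPrimeCore_coprime (G := H) p).coprime_dvd_left (card_dvd_of_le h1)
      exact (hp.out.coprime_iff_not_dvd.1 h3.symm) hd
    · exact h1
  · exfalso
    refine hC (L.subgroupOf (centralizer (A : Set H))) ?_
    obtain ⟨h1, h2, h3⟩ := isPComponent_iff.1 hL
    have e : ↥(L.subgroupOf (centralizer (A : Set H))) ≃* ↥L := subgroupOfEquivOfLe h
    refine isPComponent_iff.2 ⟨h1.subgroupOf, ?_, ?_⟩
    · have hn1 := Cores.pPrimeCore_normal (G := ↥L) p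
      have hn2 := Cores.pPrimeCore_normal (G := ↥(L.subgroupOf (centralizer (A : Set H)))) p
      have h4 := LThree.map_pPrimeCore p e
      exact Components.isQuasisimple_of_mulEquiv (QuotientGroup.congr _ _ e h4).symm h2
    · apply le_antisymm (PComponents.pElem_le _)
      intro y hy
      have h4 : (y : H) ∈ PComponents.pElem p L := by rw [h3]; exact hy
      have h5 : PComponents.pElem p L ≤ (PComponents.pElem p (L.subgroupOf (centralizer (A : Set H)))).map
          (centralizer (A : Set H)).subtype := by
        refine (Subgroup.closure_le _).2 ?_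
        rintro z ⟨hz, n, hn'⟩
        exact ⟨⟨z, h hz⟩, PComponents.mem_pElem (n := n) hz (Subtype.ext hn'), rfl⟩
      obtain ⟨y', hy', h6⟩ := h5 h4
      have h7 : y' = y := Subtype.ext h6
      rwa [← h7]

end

/-- no `p`-components : central element of order `p`, `p`-rank one -/
theorem not_pcomp_of_rank_one {H : Type u} [Group H] [Finite H] {p : ℕ} (hp : p.Prime) (hp2 : p ≠ 2)
    (hr : PRankLE p 1 H) {x : H} (hx : orderOf x = p) (hxc : x ∈ center H) (B : Subgroup H) : ¬ IsPComponent p B :=
  fun hB => CpAut.no_comp hp hp2 hr hx hxc _ hB.2.1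

theorem pRankLE_one_of_sq {H : Type u} [Group H] [Finite H] {p : ℕ} (hp : p.Prime) (h : ¬ p ^ 2 ∣ Nat.card H) :
    PRankLE p 1 H := by
  intro A hAc hA
  have : Fact p.Prime := ⟨hp⟩
  have h1 : IsPGroup p ↥A := by
    intro a
    exact ⟨1, by rw [pow_one]; exact Subtype.ext (hA a a.2)⟩
  obtain ⟨n, hn⟩ := IsPGroup.iff_card.1 h1
  rw [hn]
  apply Nat.pow_le_pow_right hp.pos
  by_contra h2
  exact h ((pow_dvd_pow p (by omega : 2 ≤ n)).trans (hn ▸ card_subgroup_dvd_card A))

/-- no `p`-components : central element of order `p` and `p ^ 2` does not divide the order -/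
theorem not_pcomp_of_sq {H : Type u} [Group H] [Finite H] {p : ℕ} (hp : p.Prime) (hp2 : p ≠ 2)
    (h : ¬ p ^ 2 ∣ Nat.card H) {x : H} (hx : orderOf x = p) (hxc : x ∈ center H) (B : Subgroup H) :
    ¬ IsPComponent p B :=
  not_pcomp_of_rank_one hp hp2 (pRankLE_one_of_sq hp h) hx hxc B

/-- **The form used for centralizers.** `u` central of order `p`, `p ^ 3 ∤ |H|`, `A` a simple component with `p ∣ |A|`. -/
theorem good_of_simple_component {H : Type u} [Group H] [Finite H] {p : ℕ} (hp : p.Prime) (hp2 : p ≠ 2)
    (h : ¬ p ^ 3 ∣ Nat.card H) {u : H} (hu : orderOf u = p) (huc : u ∈ center H) {A : Subgroup H} [hn : A.Normal]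
    (hs : IsSimpleGroup ↥A) (hna : ¬ IsMulCommutative ↥A) (hd : p ∣ Nat.card ↥A) : Good p H := by
  have : Fact p.Prime := ⟨hp⟩
  have hZ : center ↥A = ⊥ := CpAut.center_eq_bot_of_simple hna
  have hq : IsQuasisimple ↥A := by
    refine ⟨?_, ?_⟩
    · rw [Group.isPerfect_def]
      rcases (inferInstance : (commutator ↥A).Normal).eq_bot_or_eq_top with h1 | h1
      · exfalso
        apply hna
        refine ⟨⟨fun a b => ?_⟩⟩
        have h2 : a * b * a⁻¹ * b⁻¹ ∈ commutator ↥A := by
          rw [_root_.commutator_def]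
          exact commutator_mem_commutator (mem_top a) (mem_top b)
        rw [h1, mem_bot] at h2
        exact mul_inv_eq_one.1 (by rw [← h2]; group)
      · exact h1
    · have e : ↥A ≃* ↥A ⧸ center ↥A := (QuotientGroup.quotientBot).symm.trans (QuotientGroup.quotientMulEquivOfEq hZ.symm)
      have : Nontrivial (↥A ⧸ center ↥A) := e.symm.toEquiv.nontrivial
      exact IsSimpleGroup.isSimpleGroup_of_surjective e.toMonoidHom e.surjective
  have hA : IsComponent A := ⟨hn.isSubnormal, hq⟩
  refine good_of_component hA hd ?_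
  have huC : u ∈ centralizer (A : Set H) := by
    rw [mem_centralizer_iff]
    intro a _
    exact mem_center_iff.1 huc a
  have hinf : A ⊓ centralizer (A : Set H) = ⊥ := by
    rw [eq_bot_iff]
    rintro x ⟨hx, hx'⟩
    have h1 : (⟨x, hx⟩ : ↥A) ∈ center ↥A := by
      rw [mem_center_iff]
      intro a
      exact Subtype.ext (mem_centralizer_iff.1 hx' a a.2)
    rw [hZ, mem_bot] at h1
    rw [mem_bot]
    exact congrArg Subtype.val h1
  have hcard : Nat.card ↥A * Nat.card ↥(centralizer (A : Set H)) ∣ Nat.card H := by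
    have h1 : Function.Injective ((QuotientGroup.mk' A).comp (centralizer (A : Set H)).subtype) := by
      rw [← MonoidHom.ker_eq_bot_iff, eq_bot_iff]
      intro c hc
      have h2 : (c : H) ∈ A := (QuotientGroup.eq_one_iff (c : H)).1 hc
      have h3 : (c : H) ∈ A ⊓ centralizer (A : Set H) := ⟨h2, c.2⟩
      rw [hinf, mem_bot] at h3
      rw [mem_bot]
      exact Subtype.ext h3
    have h2 := card_dvd_of_injective _ h1
    rw [A.card_eq_card_quotient_mul_card_subgroup, mul_comm]
    exact Nat.mul_dvd_mul_right h2 _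
  intro B
  refine not_pcomp_of_sq hp hp2 ?_ (x := ⟨u, huC⟩) ((Subgroup.orderOf_mk u huC).trans hu) ?_ B
  · intro h1
    apply h
    have h2 : p ^ 3 = p * p ^ 2 := by ring
    rw [h2]
    exact (Nat.mul_dvd_mul hd h1).trans hcard
  · rw [mem_center_iff]
    rintro ⟨g, hg⟩
    exact Subtype.ext (mem_center_iff.1 huc g)

end Cfsg.Agent.BpSpor

end

-- merged: Cfsg.Agent.BpSpor.RowAll
section

/-!
# S1332, sporadic rows: all odd primes (helper5)

* `bps_of_not_sq` : `BpS p K` if `p ^ 2 ∤ |K|` and the automorphisms of order `p` are inner;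
* `Dat K N` : `K` is simple of order `N`, its automorphisms of odd prime order are inner;
* `Dat.bps` : `BpS p K` for all odd `p` from the primes `p` with `p ^ 2 ∣ |K|`.
-/

set_option autoImplicit false

namespace Cfsg.Agent.BpSpor

open Subgroup Cfsg Cfsg.Agent.BpTab Cfsg.Agent.CpAut

universe u

/-- no `p`-components if `p ^ 2` does not divide the order of `K` -/
theorem bps_of_not_sq {K : Type u} [Group K] [Finite K] {p : ℕ} (hp : p.Prime) (hp2 : p ≠ 2) (hc : center K = ⊥)
    (hi : AutInner p K) (h : ¬ p ^ 2 ∣ Nat.card K) : BpS p K := by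
  refine bpS_of_inner hc hi fun g hg => good_of_none ?_
  have hgm : g ∈ centralizer ({g} : Set K) := by rw [mem_centralizer_singleton_iff]
  refine not_pcomp_of_sq hp hp2 (fun hd => h (hd.trans (card_subgroup_dvd_card _))) (x := ⟨g, hgm⟩) ?_ ?_
  · rw [← Subgroup.orderOf_coe]
    exact hg
  · rw [mem_center_iff]
    intro y
    exact Subtype.ext (mem_centralizer_singleton_iff.1 y.2)

/-- `K` is simple of order `N`; automorphisms of odd prime order are inner -/
structure Dat (K : Type*) [Group K] (N : ℕ) : Prop where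
  simple : IsSimpleGroup K
  card : Nat.card K = N
  inn : Inn.OddInn K

theorem center_eq_bot_of_card {K : Type u} [Group K] [Finite K] (hs : IsSimpleGroup K) (h4 : 4 ∣ Nat.card K) :
    center K = ⊥ := by
  refine CpAut.center_eq_bot_of_simple fun hm => ?_
  let _ : CommGroup K := { (inferInstance : Group K) with mul_comm := hm.is_comm.comm }
  have h1 : (Nat.card K).Prime := IsSimpleGroup.prime_card (α := K)
  rcases (Nat.dvd_prime h1).1 ((by norm_num : 2 ∣ 4).trans h4) with h2 | h2
  · omega
  · rw [← h2] at h4
    omega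

theorem Dat.bps {K : Type u} [Group K] {N : ℕ} (D : Dat K N) {l : List (ℕ × ℕ)} (hv : OrdDiv.valid l N = true)
    (h4 : 4 ∣ N) (hrows : ∀ x ∈ l, 2 ≤ x.2 → x.1 ≠ 2 → BpS x.1 K) {p : ℕ} (hp : p.Prime) (hp2 : p ≠ 2) :
    BpS p K := by
  have hfin : Finite K := Nat.finite_of_card_ne_zero (by
    rw [D.card]
    exact (OrdDiv.valid_pos hv).ne')
  by_cases h : p ^ 2 ∣ N
  · obtain ⟨k, hk, h2k⟩ := OrdDiv.exists_pair hv hp (by norm_num : 1 ≤ 2) h
    exact hrows (p, k) hk h2k hp2
  · refine bps_of_not_sq hp hp2 (center_eq_bot_of_card D.simple (by rw [D.card]; exact h4)) (D.inn p hp hp2) ?_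
    rw [D.card]
    exact h

end Cfsg.Agent.BpSpor

end
end
end
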