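import Cfsg.Agent.CoFive.Ranks
import Cfsg.Agent.BpSpor.BFiveZero
import Cfsg.Agent.BpSpor.Row.M
import Cfsg.Agent.BpSpor.RowAll
import Cfsg.Agent.CpAutBFive.Final
import Cfsg.Agent.PreUniq.MonGen
import Cfsg.Agent.BpSpor.BFiveAsm
import Cfsg.Agent.MFive.JMat
import Cfsg.Agent.LThreeCo1.Ev
import Cfsg.Agent.CoOneType.ClosingFacts
import Cfsg.Agent.Prune
set_option linter.all false
prune_inst 0x7f00000000000000000000000000000000000000000000000000000000000000000000000000000000000000000000000000000000000000000000000000000000000000000000000000000000000000003fffffffffffffffffffffffffffbeffbdffffffff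
open scoped Cfsg.Agent.FastGrp

-- merged: Cfsg.Agent.CoFive.Sylow
section

/-!
# The Sylow 5-subgroup of `Co0` / `Co1` centralizes `r4` (helper89)
-/

set_option autoImplicit false

namespace Cfsg.Agent.CoFive.Sylow

open Cfsg Cfsg.Agent.CoFive.Abs Cfsg.Agent.CoFive.Rel Cfsg.Agent.CoFive.Class Cfsg.Agent.CoFive.Ranks
open Cfsg.Agent.LThreeMB (fr)
open Cfsg.Spor (Co1)
open Subgroup (centralizer)

/-- the Sylow 5-subgroup `5^3 : 5` of `Co0` -/
noncomputable def S5 : Subgroup Co0 := haveI := finite_co0; PP dat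

theorem card_S5 : Nat.card S5 = 5 ^ 4 := by
  have := finite_co0
  exact card_PP dat

theorem mem_S5 {g : Co0} : g ∈ S5 ↔ ∃ (v : V) (k : ZMod 5), g = P v * e 4 ^ k.val := Iff.rfl

theorem comm_u : e 4 * r4 = r4 * e 4 := by
  have h : e 4 * e 1 * (e 4)⁻¹ = r4 := dat.ua.trans r4_eq.symm
  exact mul_inv_eq_iff_eq_mul.1 h

theorem S5_le : S5 ≤ centralizer ({r4} : Set Co0) := by
  intro g hg
  obtain ⟨v, k, rfl⟩ := mem_S5.1 hg
  rw [Subgroup.mem_centralizer_singleton_iff]
  have h1 : Commute r4 (P v) := by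
    rw [r4_eq]
    exact hyp.ph_comm _ _
  have h2 : Commute r4 (e 4) := comm_u.symm
  exact (h1.mul_right (h2.pow_right _)).symm.eq

theorem map_injOn {x y : Co0} (hx : x ∈ S5) (hy : y ∈ S5) (h : (QuotientGroup.mk x : Co1) = QuotientGroup.mk y) :
    x = y := by
  have h1 : x⁻¹ * y ∈ Subgroup.center Co0 := QuotientGroup.eq.1 h
  have h2 : (x⁻¹ * y) ^ 2 = 1 := sq_of_center h1
  have h3 : (x⁻¹ * y) ^ (5 ^ 4) = 1 := by
    have h4 : x⁻¹ * y ∈ S5 := S5.mul_mem (S5.inv_mem hx) hy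
    have h5 := pow_card_eq_one' (x := (⟨x⁻¹ * y, h4⟩ : S5))
    rw [card_S5] at h5
    have h6 := congrArg Subtype.val h5
    rw [SubmonoidClass.coe_pow, OneMemClass.coe_one] at h6
    exact h6
  have h4 : orderOf (x⁻¹ * y) ∣ 1 := by
    have ha := orderOf_dvd_of_pow_eq_one h2
    have hb := orderOf_dvd_of_pow_eq_one h3
    have hc : Nat.Coprime 2 (5 ^ 4) := by norm_num
    have := Nat.dvd_gcd ha hb
    rwa [Nat.Coprime.gcd_eq_one hc] at this
  have h5 : x⁻¹ * y = 1 := orderOf_eq_one_iff.1 (Nat.dvd_one.1 h4)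
  exact (inv_mul_eq_one.1 h5)

theorem card_map : Nat.card (S5.map (QuotientGroup.mk' (Subgroup.center Co0))) = 5 ^ 4 := by
  rw [← card_S5]
  symm
  apply Nat.card_congr
  refine Equiv.ofBijective (fun x : S5 => (⟨QuotientGroup.mk' (Subgroup.center Co0) x, x, x.2, rfl⟩ :
    S5.map (QuotientGroup.mk' (Subgroup.center Co0)))) ⟨?_, ?_⟩
  · intro x y h
    exact Subtype.ext (map_injOn x.2 y.2 (congrArg Subtype.val h))
  · rintro ⟨_, x, hx, rfl⟩
    exact ⟨⟨x, hx⟩, rfl⟩

theorem map_le : S5.map (QuotientGroup.mk' (Subgroup.center Co0)) ≤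
    centralizer ({(QuotientGroup.mk r4 : Co1)} : Set Co1) := by
  rintro _ ⟨x, hx, rfl⟩
  rw [Subgroup.mem_centralizer_singleton_iff]
  have h := Subgroup.mem_centralizer_singleton_iff.1 (S5_le hx)
  exact congrArg (QuotientGroup.mk : Co0 → Co1) h

/-- `5 ^ 4` divides `|C_{Co1}(r4)|`. -/
theorem dvd_card_co1 : 5 ^ 4 ∣ Nat.card ↥(centralizer ({(QuotientGroup.mk r4 : Co1)} : Set Co1)) := by
  rw [← card_map]
  exact Subgroup.card_dvd_of_le map_le

theorem orderOf_mk {g : Co0} (hg : orderOf g = 5) : orderOf (QuotientGroup.mk g : Co1) = 5 := by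
  have : Fact (Nat.Prime 5) := ⟨Nat.prime_five⟩
  refine orderOf_eq_prime ?_ ?_
  · rw [← QuotientGroup.mk_pow, ← hg, pow_orderOf_eq_one]; rfl
  · intro h
    have h1 : g ∈ Subgroup.center Co0 := (QuotientGroup.eq_one_iff g).1 h
    have h2 := orderOf_dvd_of_pow_eq_one (sq_of_center h1)
    rw [hg] at h2
    norm_num at h2

/-- helper55's input -/
theorem exists_four : ∃ c : Co1, orderOf c = 5 ∧ fr c = 2 ^ 4 ∧ 5 ^ 4 ∣ Nat.card ↥(centralizer ({c} : Set Co1)) :=
  ⟨QuotientGroup.mk r4, orderOf_mk order_r4, fr_r4, dvd_card_co1⟩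

end Cfsg.Agent.CoFive.Sylow

end

-- merged: Cfsg.Agent.BpSpor.MFiveRow
section

/-!
# S1332: the row `M`, `p = 5` (helper55)

`bps_five_of (hJ : HJ) (hA : HA) : BpS 5 Spor.Monster` : `HJ` = `C(s) / ⟨s⟩ ≅ J₂` for the elements `s` of order 5 and fixed
rank 0 of `Co1` (`CpAutBFive.Closed`), `HA` : one such `s` commutes with the image of an element `A` of `Co0`, `A² = -1`.
-/

set_option autoImplicit false
set_option maxRecDepth 100000

namespace Cfsg.Agent.BpSpor.M5

open Cfsg Cfsg.Agent.MonsterU Cfsg.Agent.MFive Cfsg.Agent.BpTab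
open Cfsg.Agent.LThreeMB (fr XX exists_XX_equiv KChart.Cent KChart.pi KChart.chart)
open Cfsg.Agent.MonsterX Cfsg.Agent.MonsterX.InstData Cfsg.Agent.MonsterX.MainPack
open Cfsg.Agent.MonsterP Cfsg.Agent.MonsterN
open Cfsg.Agent.SporadicA.Co0Mono (signCo0)
open Cfsg.Agent.SporadicA.Co1Simple (allOne)
open Cfsg.Agent.CpAutBFive.Closed (HJ coFive hnEight)
open Cfsg.Spor (Co1)
open Subgroup (centralizer zpowers mem_centralizer_singleton_iff)

universe u

/-- an element of `Co0` of square `-1` over the centralizer of an element of order 5 and fixed rank 0 -/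
abbrev HA : Prop := ∃ (s : Co1) (A : Co0), orderOf s = 5 ∧ fr s = 1 ∧ A * A = signCo0 allOne ∧
  (QuotientGroup.mk A : Co1) * s = s * QuotientGroup.mk A

theorem trNe : TrNe 5 KDone.K.z (KChart.pi MFive.Row.hc) :=
  KPair.trNe_five KDone.lft LThreeMBTr.tens MFive.Row.hc

theorem hasPair : HasPair 5 KDone.K.z (KChart.pi MFive.Row.hc) :=
  KPair.hasPair Nat.prime_five (by decide) KDone.lft LThreeMBTr.tens MFive.Row.hc MFive.Row.two Oct.octPair

/-- `k` with `k² = z` -/
theorem exists_k (hA : HA) : ∃ (x₀ : centralizer ({KDone.K.z} : Set ↥InstData.M.G)) (k : ↥InstData.M.G),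
    orderOf x₀ = 5 ∧ fr (KChart.pi MFive.Row.hc x₀) = 1 ∧ k * (x₀ : ↥InstData.M.G) = x₀ * k ∧ k * k = KDone.K.z := by
  obtain ⟨s, A, hs, hfr, hAA, hAs⟩ := hA
  obtain ⟨x, hx, rfl⟩ := KPair.exists_order (KChart.chart KDone.lft MFive.Row.hc) Nat.prime_five (by decide) hs
  obtain ⟨k, hk, hkk⟩ := PreUniq.MonGen.exists_k KDone.lft MFive.Row.hc Nat.prime_five (by decide) hx hfr hAA hAs
  exact ⟨x, k, hx, hfr, hk, hkk⟩

theorem good_model (hJ : HJ) (hA : HA) {x : ↥InstData.M.G} (hx : orderOf x = 5) :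
    Good 5 ↥(centralizer ({x} : Set ↥InstData.M.G)) := by
  have := MFive.Row.finite_model
  have hpf : Fact (Nat.Prime 5) := ⟨Nat.prime_five⟩
  rcases CpAutBFive.EvenRow.cases_solvable hx with h | h
  · obtain ⟨x', g, hg⟩ := Model.exists_in h
    have hx' : orderOf x' = 5 := by rw [← Subgroup.orderOf_coe, Model.orderOf_of_conj hg, hx]
    obtain ⟨⟨e⟩, -⟩ := exists_XX_equiv hg
    exact (good_all (KChart.chart KDone.lft MFive.Row.hc) trNe (coFive hJ) hJ hnEight hasPair (CoFive.Ranks.wclassOf _) CoFive.Sylow.exists_four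
      (exists_k hA) hx').congr e
  · exact good_of_solvable h

/-- **The row `M`, `p = 5`.** -/
theorem bps_five_of (hJ : HJ) (hA : HA) : BpTab.BpS 5 Spor.Monster := by
  have h5 : Fact (Nat.Prime 5) := ⟨Nat.prime_five⟩
  have hfin : Finite Spor.Monster := Nat.finite_of_card_ne_zero (by
    rw [Cfsg.Agent.MonsterP.Equiv.isM.2]
    norm_num)
  obtain ⟨f⟩ := Cfsg.Agent.MonsterP.Equiv.equiv
  refine bpS_of_inner (center_eq_bot_of_card Cfsg.Agent.MonsterP.Equiv.isM.1 (by
    rw [Cfsg.Agent.MonsterP.Equiv.isM.2]; norm_num)) (Inn.m ⟨MulEquiv.refl _⟩ 5 Nat.prime_five (by norm_num))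
    fun g hg => ?_
  have h1 : orderOf (f g) = 5 := by rw [MulEquiv.orderOf_eq, hg]
  have e : ↥(centralizer ({g} : Set Spor.Monster)) ≃* ↥(centralizer ({f g} : Set ↥InstData.M.G)) := by
    refine ((centralizer ({g} : Set Spor.Monster)).equivMapOfInjective f.toMonoidHom f.injective).trans
      (MulEquiv.subgroupCongr ?_)
    ext y
    rw [Subgroup.mem_map, mem_centralizer_singleton_iff]
    constructor
    · rintro ⟨c, hc, rfl⟩
      rw [mem_centralizer_singleton_iff] at hc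
      show f c * f g = f g * f c
      rw [← map_mul, hc, map_mul]
    · intro hy
      refine ⟨f.symm y, ?_, f.apply_symm_apply y⟩
      rw [mem_centralizer_singleton_iff]
      apply f.injective
      rw [map_mul, map_mul, f.apply_symm_apply, hy]
  have := MFive.Row.finite_model
  exact (good_model hJ hA h1).congr e.symm

end Cfsg.Agent.BpSpor.M5

end

-- merged: Cfsg.Agent.BpSpor.BFiveRow
section

/-!
# S1332: the row `B`, `p = 5` (helper30; the case of fixed rank 0 is helper55's)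

`bps_five_of (hJ : HJ) (hA : HA) : BpS 5 Spor.BabyMonster`.
-/

set_option autoImplicit false
set_option maxRecDepth 100000

namespace Cfsg.Agent.BpSpor.B5

open Cfsg Cfsg.Agent.BpTab Cfsg.Agent.CpAutBFive Cfsg.Agent.MFive
open Cfsg.Agent.LThreeMB (fr XX KChart.Cent KChart.pi KChart.chart)
open Cfsg.Agent.MonsterX
open Cfsg.Agent.CpAutBFive.Closed (HJ coFive hnEight)
open Cfsg.Agent.BpSpor.M5 (HA trNe hasPair)

/-- the case of fixed rank 0 in the model -/
theorem zero (hJ : HJ) (hA : HA) : BFiveAsm.Zero KDone.K.z (KChart.pi MFive.Row.hc) := by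
  have := MFive.Row.finite_model
  intro x t hx hfr ht hxt hnt
  have h := KChart.chart KDone.lft MFive.Row.hc
  obtain ⟨x₁, k₁, hx₁, hfr₁, hkx₁, hkk₁⟩ := M5.exists_k hA
  obtain ⟨k, hkx, hkk⟩ := M5.exists_sq h Nat.prime_five (by decide) (CoFive.Ranks.wclassOf _) hx₁ hfr₁ hkx₁ hkk₁ hx hfr
  exact good_zero h trNe hasPair (CoFive.Ranks.wclassOf _) hx hfr
    (hJ _ (orderOf_pi h Nat.prime_five (by decide) hx) hfr)
    (M5.dvd_zero h trNe (coFive hJ) hnEight hasPair (CoFive.Ranks.wclassOf _) CoFive.Sylow.exists_four hx hfr)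
    hkx hkk ht hxt hnt

/-- **The row `B`, `p = 5`.** -/
theorem bps_five_of (hJ : HJ) (hA : HA) : BpTab.BpS 5 Spor.BabyMonster :=
  BFiveAsm.bps_of_zero hJ (zero hJ hA)

end Cfsg.Agent.BpSpor.B5

end

-- merged: Cfsg.Agent.BpSpor.MFiveHA
section

/-!
# The element of square `-1` of `C_{Co0}(Oct.e 0)` and the rows `M`, `B`, `p = 5` (helper55)

`hA : HA` (matrices of helper49's `MFive/JMat`); `bps_five_m`, `bps_five_b` from `HJ` alone.
-/

set_option autoImplicit false
set_option maxRecDepth 100000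

namespace Cfsg.Agent.BpSpor.M5

open Cfsg Cfsg.Agent.SporadicA Cfsg.Agent.SporadicStructure.Co0Matrix Cfsg.Agent.CoOneType.CoEval
open Cfsg.Agent.LThreeCo1.Ev Cfsg.Agent.MonsterU.Lam2 Cfsg.Agent.LThreeMB.Fix
open Cfsg.Agent.LThreeMB (fr)
open Cfsg.Agent.MFive
open Cfsg.Agent.CpAutBFive.Closed (HJ)
open Cfsg.Spor (Co1)

/-- the matrices of `Oct.e 0` and of the element of square `-1` -/
def MI (i : ℕ) : List (List ℤ) := if i = 0 then Oct.rA else JMat.rI

/-- the elements -/
noncomputable def eI (i : ℕ) : Co0 :=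
  if i = 0 then Cfsg.Agent.SporadicStructure.Co0Matrix.mk Oct.okA else Cfsg.Agent.SporadicStructure.Co0Matrix.mk JMat.okI

theorem repI (i : ℕ) : Rep (eI i) (MI i) := by
  by_cases h : i = 0
  · rw [eI, MI, if_pos h, if_pos h]; exact rep_mk Oct.okA
  · rw [eI, MI, if_neg h, if_neg h]; exact rep_mk JMat.okI

theorem word_eq {w w' : List ℕ} (h : eqL (foldZ MI w betaL) (foldZ MI w' betaL) = true) :
    (w.map eI).prod = (w'.map eI).prod := by
  rw [foldZ_eq, foldZ_eq] at h
  have h1 := (fold_spec repI w (l := betaL) (v := Cfsg.Agent.CoOneType.CoEval.beta) (by decide) rfl).2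
  have h2 := (fold_spec repI w' (l := betaL) (v := Cfsg.Agent.CoOneType.CoEval.beta) (by decide) rfl).2
  rw [eqL_eq h, ← h2] at h1
  exact eq_of_fix (Subtype.ext h1)

theorem word_neg {w : List ℕ} (h : eqL (foldZ MI w betaL) negbetaL = true) :
    (w.map eI).prod = Co0Basic.negCo0 := by
  rw [foldZ_eq] at h
  exact eq_neg_of_negB repI h

theorem comm_I : eI 1 * eI 0 = eI 0 * eI 1 := by
  have h := word_eq (w := [1, 0]) (w' := [0, 1]) (by decide +kernel)
  simpa only [List.map_cons, List.map_nil, List.prod_cons, List.prod_nil, mul_one] using h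

theorem sq_I : eI 1 * eI 1 = Co0Basic.negCo0 := by
  have h := word_neg (w := [1, 1]) (by decide +kernel)
  simpa only [List.map_cons, List.map_nil, List.prod_cons, List.prod_nil, mul_one] using h

theorem eI_zero : eI 0 = Oct.e 0 := by
  rw [eI, if_pos rfl, Oct.e, if_pos rfl]

/-- **The element of square `-1`.** -/
theorem hA : HA := by
  refine ⟨pr (Oct.e 0), eI 1, ?_, Oct.fr_A, ?_, ?_⟩
  · have h3 := eq_one_of_relB Oct.rep Oct.five
    have hn := ne_one_of_neB Oct.rep Oct.neA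
    simp only [List.map_cons, List.map_nil, List.prod_cons, List.prod_nil, mul_one] at h3 hn
    have : Fact (Nat.Prime 5) := ⟨Nat.prime_five⟩
    refine orderOf_eq_prime ?_ hn
    rw [show (5 : ℕ) = 0 + 1 + 1 + 1 + 1 + 1 from rfl]
    simp only [pow_succ', pow_zero, mul_one]
    exact h3
  · rw [sq_I]
    exact Cfsg.Agent.CoOneType.ClosingFacts.neg_eq
  · rw [← eI_zero]
    exact congrArg (QuotientGroup.mk : Co0 → Co1) comm_I

/-- **The row `M`, `p = 5`.** -/
theorem bps_five_m (hJ : HJ) : BpTab.BpS 5 Spor.Monster := bps_five_of hJ hA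

/-- **The row `B`, `p = 5`.** -/
theorem bps_five_b (hJ : HJ) : BpTab.BpS 5 Spor.BabyMonster := B5.bps_five_of hJ hA

end Cfsg.Agent.BpSpor.M5

end

private theorem dce_4ef6c08801d5 : _root_.True := by
  try have : _root_.True := by simp only [_root_.Cfsg.Agent.BpSpor.M5.eI.eq_1]
  try have : _root_.True := by simp only [_root_.Cfsg.Agent.BpSpor.M5.MI.eq_1]
  exact _root_.True.intro
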