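import Cfsg.Agent.CpAutTh.ThreeE
import Cfsg.Agent.CpAutTh.Seven
import Cfsg.Agent.ThFive.Abs
import Cfsg.Agent.FastGrp
import Cfsg.Agent.Prune
set_option linter.all false
prune_inst 0x7f00000000000000000000000000000000000000000000000000000000000000000000000000000000000000000000000000000000000000000000000000000000000000000000000000000000000000003fffffffffffffffffffffffffffbeffbdffffffff
open scoped Cfsg.Agent.FastGrp

-- merged: Cfsg.Agent.BpSpor.ThCent
section

/-!
# S1332: Th (helper25)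

`H = C(x)`, `x = ev γ X` a word of `C = C(a)`, `s = a` : the map `psi : C_H(s) →* A9` and the order of `C_H(s)`.
(Everything about Th is taken from helper96's files `CpAutTh/*`.)
-/

set_option autoImplicit false
set_option maxRecDepth 100000
set_option linter.unusedSectionVars false

namespace Cfsg.Agent.BpSpor.ThCent

open Subgroup Cfsg
open Cfsg.Agent.Th.Base Cfsg.Agent.Th.Word Cfsg.Agent.Th.RelWords Cfsg.Agent.Th.PermTab
  Cfsg.Agent.Th.KOracle Cfsg.Agent.Th.KPerm Cfsg.Agent.Th.NineAct Cfsg.Agent.Th.CStruct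
  Cfsg.Agent.Th.COracleDef Cfsg.Agent.Th.COracleSound
open Cfsg.Agent.KFacts.Th.Mask Cfsg.Agent.KFacts.Th.Struct
open Cfsg.Agent.CpAutTh.Data Cfsg.Agent.CpAutTh.Alt Cfsg.Agent.CpAutTh.RankOne Cfsg.Agent.CpAutTh.Local
  Cfsg.Agent.CpAutTh.Mid Cfsg.Agent.CpAutTh.ThreePerm Cfsg.Agent.CpAutTh.ThreeE
open Cfsg.Agent.BpTab

universe u

/-! ### Centralizers in `A9` -/

theorem card3 : Nat.card ↥(centralizer ({pm9 X3} : Set (Equiv.Perm (Fin 9)))) = 2160 := by
  rw [Equiv.Perm.nat_card_centralizer, t3]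
  decide

theorem card5 : Nat.card ↥(centralizer ({pm9 X5} : Set (Equiv.Perm (Fin 9)))) = 120 := by
  rw [Equiv.Perm.nat_card_centralizer, t5]
  decide

theorem card7 : Nat.card ↥(centralizer ({pm9 X7} : Set (Equiv.Perm (Fin 9)))) = 14 := by
  rw [Equiv.Perm.nat_card_centralizer, t7]
  decide

theorem card33 : Nat.card ↥(centralizer ({pm9 X33} : Set (Equiv.Perm (Fin 9)))) = 108 := by
  rw [Equiv.Perm.nat_card_centralizer, t33]
  decide

theorem card333 : Nat.card ↥(centralizer ({pm9 X333} : Set (Equiv.Perm (Fin 9)))) = 162 := by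
  rw [Equiv.Perm.nat_card_centralizer, t333]
  decide

section

variable {G : Type u} [Group G] {γ : ℕ → G} (h : Ctx γ)

/-- the involution of `C(x)` -/
def sx {X : List ℕ} (hX : ∀ x ∈ X, isC x = true) : ↥(centralizer ({ev γ X} : Set G)) :=
  ⟨γ 1, mem_centralizer_singleton_iff.2 (h.mem_C.1 (ev_mem_sub hX)).symm⟩

/-- the element `x` of `C(x)` -/
def xx (γ : ℕ → G) (X : List ℕ) : ↥(centralizer ({ev γ X} : Set G)) :=
  ⟨ev γ X, mem_centralizer_singleton_iff.2 rfl⟩

theorem xx_center {X : List ℕ} : xx γ X ∈ center ↥(centralizer ({ev γ X} : Set G)) := by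
  rw [mem_center_iff]
  intro g
  exact Subtype.ext (mem_centralizer_singleton_iff.1 g.2)

include h

theorem order_sx {X : List ℕ} (hX : ∀ x ∈ X, isC x = true) : orderOf (sx h hX) = 2 := by
  have : Fact (Nat.Prime 2) := ⟨Nat.prime_two⟩
  rw [← Subgroup.orderOf_coe]
  exact orderOf_eq_prime (by rw [pow_two]; exact h.aa) h.a1

theorem mem_cent {X : List ℕ} (hX : ∀ x ∈ X, isC x = true) (y : ↥(centralizer ({sx h hX} : Set _))) :
    ((y : ↥(centralizer ({ev γ X} : Set G))) : G) * γ 1 = γ 1 * y :=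
  congrArg Subtype.val (mem_centralizer_singleton_iff.1 y.2)

variable {f : sub γ isC →* alternatingGroup (Fin 9)} (F : Epi γ f)

/-- the map to `A9` -/
def psi {X : List ℕ} (hX : ∀ x ∈ X, isC x = true) (f : sub γ isC →* alternatingGroup (Fin 9)) :
    ↥(centralizer ({sx h hX} : Set _)) →* alternatingGroup (Fin 9) where
  toFun y := f ⟨y, h.mem_C.2 (mem_cent h hX y)⟩
  map_one' := map_one f
  map_mul' a b := by
    rw [← map_mul]
    rfl

include F

theorem mem_ker_psi {X : List ℕ} (hX : ∀ x ∈ X, isC x = true) {y : ↥(centralizer ({sx h hX} : Set _))} :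
    y ∈ (psi h hX f).ker ↔ ((y : ↥(centralizer ({ev γ X} : Set G))) : G) ∈ Q0 γ := by
  rw [MonoidHom.mem_ker]
  change f ⟨y, _⟩ = 1 ↔ _
  rw [← MonoidHom.mem_ker, mem_ker F]

theorem range_le {X : List ℕ} (hX : ∀ x ∈ X, isC x = true) :
    (psi h hX f).range ≤ centralizer ({f ⟨ev γ X, ev_mem_sub hX⟩} : Set (alternatingGroup (Fin 9))) := by
  rintro _ ⟨y, rfl⟩
  rw [mem_centralizer_singleton_iff]
  change f ⟨y, _⟩ * f _ = f _ * f ⟨y, _⟩
  rw [← map_mul, ← map_mul]
  congr 1
  exact Subtype.ext (mem_centralizer_singleton_iff.1 (y : ↥(centralizer ({ev γ X} : Set G))).2)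

theorem le_range {X : List ℕ} (hX : ∀ x ∈ X, isC x = true) {p : ℕ} (hp : p.Prime) (hp2 : p ≠ 2)
    (ho : orderOf (⟨ev γ X, ev_mem_sub hX⟩ : sub γ isC) = p) :
    centralizer ({f ⟨ev γ X, ev_mem_sub hX⟩} : Set (alternatingGroup (Fin 9))) ≤ (psi h hX f).range := by
  have := finC h
  intro a ha
  obtain ⟨g, rfl⟩ := F.surj a
  obtain ⟨q, hq, hqg⟩ := exists_comm Nat.prime_two hp (Ne.symm hp2) f (ker_two h F) ho
    (mem_centralizer_singleton_iff.1 ha)
  let y : ↥(centralizer ({ev γ X} : Set G)) :=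
    ⟨((q * g : sub γ isC) : G), mem_centralizer_singleton_iff.2 (congrArg Subtype.val hqg)⟩
  have hy : y ∈ centralizer ({sx h hX} : Set _) :=
    mem_centralizer_singleton_iff.2 (Subtype.ext (h.mem_C.1 (q * g).2))
  refine ⟨⟨y, hy⟩, ?_⟩
  change f (q * g) = f g
  rw [map_mul, MonoidHom.mem_ker.1 hq, one_mul]

theorem card_cent_le {X : List ℕ} (hX : ∀ x ∈ X, isC x = true) {m : ℕ}
    (hm : Nat.card ↥(centralizer ({pm9 X} : Set (Equiv.Perm (Fin 9)))) = m) :
    Nat.card (psi h hX f).range ∣ m := by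
  have h1 : Nat.card (psi h hX f).range ∣
      Nat.card ↥(centralizer ({f ⟨ev γ X, ev_mem_sub hX⟩} : Set (alternatingGroup (Fin 9)))) :=
    card_dvd_of_le (range_le h F hX)
  refine h1.trans ?_
  rw [← hm]
  let j : ↥(centralizer ({f ⟨ev γ X, ev_mem_sub hX⟩} : Set (alternatingGroup (Fin 9)))) →*
      ↥(centralizer ({pm9 X} : Set (Equiv.Perm (Fin 9)))) :=
    { toFun := fun y => ⟨((y : alternatingGroup (Fin 9)) : Equiv.Perm (Fin 9)), by
        rw [mem_centralizer_singleton_iff, ← F.word X hX]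
        exact congrArg Subtype.val (mem_centralizer_singleton_iff.1 y.2)⟩
      map_one' := rfl
      map_mul' := fun a b => rfl }
  refine card_dvd_of_injective j ?_
  intro a b hab
  have h2 : (j a : Equiv.Perm (Fin 9)) = j b := by rw [hab]
  exact Subtype.ext (Subtype.ext h2)

theorem ker_two_psi {X : List ℕ} (hX : ∀ x ∈ X, isC x = true) : IsPGroup 2 ↥(psi h hX f).ker := by
  intro y
  have h1 : (((y : ↥(centralizer ({sx h hX} : Set _))) : ↥(centralizer ({ev γ X} : Set G))) : G) ∈ Q0 γ :=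
    (mem_ker_psi h F hX).1 y.2
  have hQ : IsPGroup 2 ↥(Q0 γ) := IsPGroup.of_card (n := 9) (by rw [h.cardQ]; norm_num)
  obtain ⟨k, hk⟩ := hQ ⟨_, h1⟩
  have h2 : (((y : ↥(centralizer ({sx h hX} : Set _))) : ↥(centralizer ({ev γ X} : Set G))) : G) ^ 2 ^ k = 1 :=
    congrArg Subtype.val hk
  exact ⟨k, Subtype.ext (Subtype.ext (Subtype.ext h2))⟩

/-- the order of `C_H(s)` divides `2 ^ n m` -/
theorem card_dvd {X : List ℕ} (hX : ∀ x ∈ X, isC x = true) {m : ℕ}
    (hm : Nat.card ↥(centralizer ({pm9 X} : Set (Equiv.Perm (Fin 9)))) = m) :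
    ∃ n, Nat.card ↥(centralizer ({sx h hX} : Set _)) ∣ 2 ^ n * m := by
  have := h.fin
  obtain ⟨n, hn⟩ := IsPGroup.iff_card.1 (ker_two_psi h F hX)
  refine ⟨n, ?_⟩
  rw [← card_mul_index (psi h hX f).ker, index_ker, hn]
  exact Nat.mul_dvd_mul_left _ (card_cent_le h F hX hm)

/-- **the elements of type 5** -/
theorem good_X5 (FT : ∀ (K : Type u) [Group K] [Finite K], Odd (Nat.card K) → Group.IsSolvable K) :
    Good 5 ↥(centralizer ({ev γ X5} : Set G)) := by
  have := h.fin
  have h5F : Fact (Nat.Prime 5) := ⟨Nat.prime_five⟩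
  refine good_of_solvable (solvable_of_unique FT (order_sx h c5) ?_ ?_)
  · rintro ⟨u, hu⟩ h1 h2
    apply Subtype.ext
    rw [Subgroup.orderOf_mk] at h1
    exact inv_five h F h1 (congrArg Subtype.val h2) (mem_centralizer_singleton_iff.1 hu)
  · obtain ⟨n, hn⟩ := card_dvd h F c5 card5
    have hxC : xx γ X5 ∈ centralizer ({sx h c5} : Set _) := by
      rw [mem_centralizer_singleton_iff]
      exact ((mem_center_iff.1 (xx_center (γ := γ) (X := X5)) (sx h c5))).symm
    refine solvable_of_central (p := 5) (q := 2) (r := 3) (a := n + 3) (b := 1) (by norm_num) Nat.prime_two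
      Nat.prime_three (z := ⟨xx γ X5, hxC⟩) ?_ ?_ ?_
    · rw [mem_center_iff]
      intro g
      exact Subtype.ext (mem_center_iff.1 (xx_center (γ := γ) (X := X5)) g)
    · rw [Subgroup.orderOf_mk, ← Subgroup.orderOf_coe]
      have h1 := o5 h F
      rw [Subgroup.orderOf_mk] at h1
      exact h1
    · refine hn.trans (dvd_of_eq ?_)
      rw [pow_add]
      ring

/-- **the elements of type 333** -/
theorem good_X333 (FT : ∀ (K : Type u) [Group K] [Finite K], Odd (Nat.card K) → Group.IsSolvable K) :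
    Good 3 ↥(centralizer ({ev γ X333} : Set G)) := by
  have := h.fin
  have h3F : Fact (Nat.Prime 3) := ⟨Nat.prime_three⟩
  refine good_of_solvable (solvable_of_unique FT (order_sx h c333) ?_ ?_)
  · rintro ⟨u, hu⟩ h1 h2
    apply Subtype.ext
    rw [Subgroup.orderOf_mk] at h1
    exact inv_triple h F h1 (congrArg Subtype.val h2) (mem_centralizer_singleton_iff.1 hu)
  · obtain ⟨n, hn⟩ := card_dvd h F c333 card333
    refine BpNum.solvable_of_dvd Nat.prime_two Nat.prime_three (a := n + 1) (b := 4) (hn.trans (dvd_of_eq ?_))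
    rw [pow_add]
    ring

end

end Cfsg.Agent.BpSpor.ThCent

end

-- merged: Cfsg.Agent.BpSpor.ThThree
section

/-!
# S1332: Th, the elements of type 3, 33, 7 (helper25)
-/

set_option autoImplicit false
set_option maxRecDepth 100000
set_option linter.unusedSectionVars false

namespace Cfsg.Agent.BpSpor.ThThree

open Subgroup Cfsg
open Cfsg.Agent.Th.Base Cfsg.Agent.Th.Word Cfsg.Agent.Th.RelWords Cfsg.Agent.Th.PermTab
  Cfsg.Agent.Th.KOracle Cfsg.Agent.Th.KPerm Cfsg.Agent.Th.NineAct Cfsg.Agent.Th.CStruct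
  Cfsg.Agent.Th.COracleDef Cfsg.Agent.Th.COracleSound
open Cfsg.Agent.KFacts.Th.Mask Cfsg.Agent.KFacts.Th.Struct
open Cfsg.Agent.CpAutTh.Data Cfsg.Agent.CpAutTh.Alt Cfsg.Agent.CpAutTh.RankOne Cfsg.Agent.CpAutTh.Local
  Cfsg.Agent.CpAutTh.Mid Cfsg.Agent.CpAutTh.ThreePerm Cfsg.Agent.CpAutTh.ThreeE
open Cfsg.Agent.BpTab Cfsg.Agent.BpSpor.ThCent

universe u

/-- `K` normal, `K ∩ B = 1` -/
theorem card_mul_dvd_of_inf {M : Type*} [Group M] [Finite M] (K B : Subgroup M) [K.Normal] (h : K ⊓ B = ⊥) :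
    Nat.card ↥K * Nat.card ↥B ∣ Nat.card M := by
  let j : ↥B →* M ⧸ K := (QuotientGroup.mk' K).comp B.subtype
  have hj : Function.Injective j := by
    rw [injective_iff_map_eq_one]
    intro b hb
    have h1 : (b : M) ∈ K ⊓ B := ⟨(QuotientGroup.eq_one_iff _).1 hb, b.2⟩
    rw [h, mem_bot] at h1
    exact Subtype.ext h1
  rw [card_eq_card_quotient_mul_card_subgroup K, mul_comm]
  exact Nat.mul_dvd_mul_right (card_dvd_of_injective j hj) _

theorem sq_not_dvd {r : ℕ} (hr : r.Prime) (h11 : 11 ≤ r) : ¬ r ^ 2 ∣ 90745943887872000 := by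
  intro h
  have h3 : (90745943887872000 : ℕ) = 2 ^ 15 * 3 ^ 10 * 5 ^ 3 * 7 ^ 2 * 13 * 19 * 31 := by norm_num
  have h1 : r ∣ 2 ^ 15 * 3 ^ 10 * 5 ^ 3 * 7 ^ 2 * 13 * 19 * 31 := by
    rw [← h3]
    exact (dvd_pow_self r two_ne_zero).trans h
  rw [hr.dvd_mul, hr.dvd_mul, hr.dvd_mul, hr.dvd_mul, hr.dvd_mul, hr.dvd_mul] at h1
  rcases h1 with (((((h1 | h1) | h1) | h1) | h1) | h1) | h1
  · have := (Nat.prime_dvd_prime_iff_eq hr (by norm_num)).1 (hr.dvd_of_dvd_pow h1)
    omega
  · have := (Nat.prime_dvd_prime_iff_eq hr (by norm_num)).1 (hr.dvd_of_dvd_pow h1)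
    omega
  · have := (Nat.prime_dvd_prime_iff_eq hr (by norm_num)).1 (hr.dvd_of_dvd_pow h1)
    omega
  · have := (Nat.prime_dvd_prime_iff_eq hr (by norm_num)).1 (hr.dvd_of_dvd_pow h1)
    omega
  · have := (Nat.prime_dvd_prime_iff_eq hr (by norm_num)).1 h1
    subst this
    revert h
    norm_num
  · have := (Nat.prime_dvd_prime_iff_eq hr (by norm_num)).1 h1
    subst this
    revert h
    norm_num
  · have := (Nat.prime_dvd_prime_iff_eq hr (by norm_num)).1 h1
    subst this
    revert h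
    norm_num

/-! ### The fixed points of the 3-cycle -/

def S6 : Finset (Fin 9) := Finset.univ.filter fun i => pm9 X3 i = i

theorem card_S6 : S6.card = 6 := by decide +kernel

theorem nat_card_S6 : Nat.card ↥S6 = 6 := by rw [Nat.card_eq_fintype_card, Fintype.card_coe, card_S6]

theorem simple6 : IsSimpleGroup ↥(alternatingGroup ↥S6) := alternatingGroup.isSimpleGroup (by rw [nat_card_S6]; norm_num)

theorem card6 : Nat.card ↥(alternatingGroup ↥S6) = 360 := by
  have : Nontrivial ↥S6 := by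
    rw [← Fintype.one_lt_card_iff_nontrivial, Fintype.card_coe, card_S6]
    norm_num
  rw [nat_card_alternatingGroup, nat_card_S6]
  decide

theorem ofS_comm (g : ↥(alternatingGroup ↥S6)) :
    ((alternatingGroup.ofSubtype S6 g : alternatingGroup (Fin 9)) : Equiv.Perm (Fin 9)) * pm9 X3 =
      pm9 X3 * ((alternatingGroup.ofSubtype S6 g : alternatingGroup (Fin 9)) : Equiv.Perm (Fin 9)) := by
  rw [alternatingGroup.coe_ofSubtype]
  ext i
  rw [Equiv.Perm.mul_apply, Equiv.Perm.mul_apply]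
  congr 1
  have hS : ∀ i, i ∈ S6 ↔ pm9 X3 i = i := fun i => by simp [S6]
  by_cases hi : i ∈ S6
  · rw [(hS i).1 hi]
    symm
    rw [← hS]
    rw [Equiv.Perm.ofSubtype_apply_of_mem _ hi]
    exact (g.1 ⟨i, hi⟩).2
  · have h1 : pm9 X3 i ∉ S6 := by
      rw [hS] at hi ⊢
      intro h2
      exact hi ((pm9 X3).injective h2)
    rw [Equiv.Perm.ofSubtype_apply_of_not_mem _ hi, Equiv.Perm.ofSubtype_apply_of_not_mem _ h1]

section

variable {G : Type u} [Group G] {γ : ℕ → G} (h : Ctx γ)
  {f : sub γ isC →* alternatingGroup (Fin 9)} (F : Epi γ f)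
include h F

theorem range_card : Nat.card (psi h c3 f).range = 1080 := by
  have h1 : (psi h c3 f).range = centralizer ({f ⟨ev γ X3, ev_mem_sub c3⟩} : Set (alternatingGroup (Fin 9))) :=
    le_antisymm (range_le h F c3) (le_range h F c3 Nat.prime_three (by norm_num) (o3 h F))
  rw [h1]
  have h2 := card_cent_alt (f ⟨ev γ X3, ev_mem_sub c3⟩) c01 s01 (by rw [F.word X3 c3]; exact m3)
  rw [F.word X3 c3, card3] at h2
  omega

/-- the copy of `A6` -/
def jj (h : Ctx γ) (F : Epi γ f) : ↥(alternatingGroup ↥S6) →* ↥(psi h c3 f).range :=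
  (alternatingGroup.ofSubtype S6).codRestrict (psi h c3 f).range fun g => by
    refine le_range h F c3 Nat.prime_three (by norm_num) (o3 h F) ?_
    rw [mem_centralizer_singleton_iff]
    apply Subtype.ext
    rw [Subgroup.coe_mul, Subgroup.coe_mul, F.word X3 c3]
    exact ofS_comm g

theorem jj_inj : Function.Injective (jj h F) := by
  intro a b hab
  apply alternatingGroup.ofSubtype_injective
  exact congrArg Subtype.val hab

theorem card_ker : Nat.card ↥(psi h c3 f).ker ∣ 2 := by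
  have := h.fin
  have h1 : (psi h c3 f).ker ≤ zpowers (⟨sx h c3, mem_centralizer_singleton_iff.2 rfl⟩ : ↥(centralizer ({sx h c3} : Set _))) := by
    intro y hy
    have h2 := (mem_ker_psi h F c3).1 hy
    have h3 := mem_centralizer_singleton_iff.1 (y : ↥(centralizer ({ev γ X3} : Set G))).2
    rcases inv_ker h chk3 fix3 h2 h3 with h4 | h4
    · have h5 : y = 1 := Subtype.ext (Subtype.ext h4)
      rw [h5]
      exact one_mem _
    · have h5 : y = ⟨sx h c3, mem_centralizer_singleton_iff.2 rfl⟩ := Subtype.ext (Subtype.ext h4)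
      rw [h5]
      exact mem_zpowers _
  refine (card_dvd_of_le h1).trans (dvd_of_eq ?_)
  rw [Nat.card_zpowers, Subgroup.orderOf_mk, order_sx]

/-- normal subgroups of `C_H(s)` -/
theorem normal_cases (K : Subgroup ↥(centralizer ({sx h c3} : Set _))) (hK : K.Normal) (hd : ¬ 360 ∣ Nat.card ↥K) :
    Nat.card ↥(K.map (psi h c3 f).rangeRestrict) ∣ 3 := by
  have := h.fin
  set K' := K.map (psi h c3 f).rangeRestrict with hK'
  have hn : K'.Normal := hK.map _ (psi h c3 f).rangeRestrict_surjective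
  have hs := simple6
  have hn2 : (K'.comap (jj h F)).Normal := hn.comap _
  have h1 : K' ⊓ (jj h F).range = ⊥ := by
    rcases hn2.eq_bot_or_eq_top with h2 | h2
    · rw [eq_bot_iff]
      rintro y ⟨hy, a, rfl⟩
      have h3 : a ∈ K'.comap (jj h F) := hy
      rw [h2, mem_bot] at h3
      rw [h3, map_one]
      exact one_mem _
    · exfalso
      apply hd
      have h3 : (jj h F).range ≤ K' := by
        rintro _ ⟨a, rfl⟩
        have h4 : a ∈ K'.comap (jj h F) := by rw [h2]; exact mem_top a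
        exact h4
      have h4 : Nat.card ↥(jj h F).range = 360 := by
        rw [← card6]
        exact (Nat.card_congr (MonoidHom.ofInjective (jj_inj h F)).toEquiv).symm
      rw [← h4]
      exact (card_dvd_of_le h3).trans (Subgroup.card_map_dvd _ _)
  have h2 := card_mul_dvd_of_inf K' (jj h F).range h1
  have h4 : Nat.card ↥(jj h F).range = 360 := by
    rw [← card6]
    exact (Nat.card_congr (MonoidHom.ofInjective (jj_inj h F)).toEquiv).symm
  rw [h4, range_card h F, show (1080 : ℕ) = 3 * 360 by norm_num] at h2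
  exact Nat.dvd_of_mul_dvd_mul_right (by norm_num) h2

/-- `|K|` divides `|K ∩ ker| |K image|` -/
theorem card_dvd_map (K : Subgroup ↥(centralizer ({sx h c3} : Set _))) :
    Nat.card ↥K = Nat.card ↥(K ⊓ (psi h c3 f).ker) * Nat.card ↥(K.map (psi h c3 f).rangeRestrict) := by
  have := h.fin
  have h1 := card_mul_index ((psi h c3 f).ker.subgroupOf K)
  have h2 : ((psi h c3 f).ker.subgroupOf K).index = Nat.card ↥(K.map (psi h c3 f).rangeRestrict) := by
    have h3 : (psi h c3 f).ker.subgroupOf K = ((psi h c3 f).rangeRestrict.subgroupMap K).ker := by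
      ext x
      rw [mem_subgroupOf, MonoidHom.mem_ker, MonoidHom.mem_ker]
      constructor
      · intro hx
        exact Subtype.ext (Subtype.ext hx)
      · intro hx
        exact congrArg (fun z : ↥(K.map (psi h c3 f).rangeRestrict) => ((z : ↥(psi h c3 f).range) : alternatingGroup (Fin 9))) hx
    rw [h3, index_ker, MonoidHom.range_eq_top.2 ((psi h c3 f).rangeRestrict.subgroupMap_surjective K), card_top]
  have h3 : Nat.card ↥((psi h c3 f).ker.subgroupOf K) = Nat.card ↥(K ⊓ (psi h c3 f).ker) := by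
    have e := ((psi h c3 f).ker.subgroupOf K).equivMapOfInjective K.subtype K.subtype_injective
    rw [Nat.card_congr e.toEquiv, subgroupOf_map_subtype, inf_comm]
  rw [← h1, h2, h3]

/-- **the elements of type 3** -/
theorem good_X3 : Good 3 ↥(centralizer ({ev γ X3} : Set G)) := by
  have hfin := h.fin
  have hG := h.card
  have hdvd : Nat.card ↥(centralizer ({ev γ X3} : Set G)) ∣ 90745943887872000 := by
    rw [← hG]
    exact card_subgroup_dvd_card _
  have h3F : Fact (Nat.Prime 3) := ⟨Nat.prime_three⟩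
  have huniq : ∀ u : ↥(centralizer ({ev γ X3} : Set G)), orderOf u = 2 → u * sx h c3 = sx h c3 * u → u = sx h c3 := by
    rintro ⟨u, hu⟩ h1 h2
    apply Subtype.ext
    rw [Subgroup.orderOf_mk] at h1
    exact inv_three h F h1 (congrArg Subtype.val h2) (mem_centralizer_singleton_iff.1 hu)
  have hCcard : Nat.card ↥(centralizer ({sx h c3} : Set _)) = Nat.card ↥(psi h c3 f).ker * 1080 := by
    rw [← card_mul_index (psi h c3 f).ker, index_ker, range_card h F]
  refine good_of_unique (order_sx h c3) huniq ?_ ?_ ?_ ?_ ?_ ?_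
  · intro K hK hodd
    have h1 := normal_cases h F K hK (fun hd => by
      have h2 : 2 ∣ Nat.card ↥K := dvd_trans (by norm_num) hd
      exact (Nat.not_even_iff_odd.2 hodd) (even_iff_two_dvd.2 h2))
    have h2 : Nat.card ↥(K ⊓ (psi h c3 f).ker) = 1 := by
      have h3 : Nat.card ↥(K ⊓ (psi h c3 f).ker) ∣ 2 := (card_dvd_of_le inf_le_right).trans (card_ker h F)
      have h4 : Nat.card ↥(K ⊓ (psi h c3 f).ker) ∣ Nat.card ↥K := card_dvd_of_le inf_le_left
      exact Nat.eq_one_of_dvd_coprimes (Nat.coprime_two_right.2 hodd) h4 h3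
    rw [card_dvd_map h F K, h2, one_mul, hCcard]
    exact (Nat.mul_dvd_mul_right h1 9).trans (Dvd.dvd.mul_left (by norm_num) _)
  · intro K hK h3
    have h1 := normal_cases h F K hK (fun hd => h3 (dvd_trans (by norm_num) hd))
    have h2 : Nat.card ↥(K ⊓ (psi h c3 f).ker) ∣ 2 := (card_dvd_of_le inf_le_right).trans (card_ker h F)
    have h4 : Nat.card ↥(K.map (psi h c3 f).rangeRestrict) = 1 := by
      rcases (Nat.dvd_prime Nat.prime_three).1 h1 with h5 | h5
      · exact h5
      · exfalso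
        apply h3
        rw [card_dvd_map h F K, h5]
        exact dvd_mul_left _ _
    rw [card_dvd_map h F K, h4, mul_one]
    exact h2.trans (by norm_num)
  · -- the 2-part
    intro h64
    obtain ⟨P, hP⟩ := exists_sylow_cent (order_sx h c3) (fun u hu => by
      obtain ⟨g, hg⟩ := (CpAutTh.RankOne.uInv_of_unique (order_sx h c3) huniq).2 u hu
      exact ⟨g⁻¹, by rw [← hg]; group⟩)
    have h1 : 2 ^ 6 ∣ Nat.card ↥(P : Subgroup ↥(centralizer ({ev γ X3} : Set G))) := P.pow_dvd_card_of_pow_dvd_card (n := 6) (by norm_num; exact h64)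
    have h2 := h1.trans (card_dvd_of_le hP)
    rw [hCcard] at h2
    have h3 := h2.trans (Nat.mul_dvd_mul_right (card_ker h F) 1080)
    revert h3
    norm_num
  · intro h1
    have h2 := h1.trans hdvd
    revert h2
    norm_num
  · intro h1
    have h2 := h1.trans hdvd
    revert h2
    norm_num
  · intro r hr hr11 h1
    have h2 := h1.trans hdvd
    exact sq_not_dvd hr hr11 h2

/-- an element with `y = x ^ i` or `y = x ^ i a`, `y` a 2-element -/
theorem two_elem {X : List ℕ} (hX : ∀ x ∈ X, isC x = true) {p : ℕ} (hp : p.Prime) (hp2 : p ≠ 2)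
    (hxp : ev γ X ^ p = 1) {y : G} {k i : ℕ} (hy : y ^ 2 ^ k = 1) (h1 : y = ev γ X ^ i ∨ y = ev γ X ^ i * γ 1) :
    y = 1 ∨ y = γ 1 := by
  have hcx : ev γ X * γ 1 = γ 1 * ev γ X := h.mem_C.1 (ev_mem_sub hX)
  have hcm : Commute (ev γ X ^ i) (γ 1) := (show Commute (ev γ X) (γ 1) from hcx).pow_left i
  have ha : (γ 1) ^ 2 ^ (k + 1) = 1 := by
    rw [pow_succ, mul_comm, pow_mul, pow_two, h.aa, one_pow]
  have hy' : y ^ 2 ^ (k + 1) = 1 := by rw [pow_succ, pow_mul, hy, one_pow]
  have h2 : (ev γ X ^ i) ^ 2 ^ (k + 1) = 1 := by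
    rcases h1 with h1 | h1
    · rw [← h1, hy']
    · have h3 := hy'
      rw [h1, hcm.mul_pow, ha, mul_one] at h3
      exact h3
  have h3 : (ev γ X ^ i) ^ p = 1 := by rw [← pow_mul, mul_comm, pow_mul, hxp, one_pow]
  have h4 : Nat.Coprime (2 ^ (k + 1)) p :=
    Nat.Coprime.pow_left _ ((Nat.coprime_primes Nat.prime_two hp).2 (Ne.symm hp2))
  have h5 : (ev γ X ^ i) ^ Nat.gcd (2 ^ (k + 1)) p = 1 := pow_gcd_eq_one.2 ⟨h2, h3⟩
  rw [h4, pow_one] at h5
  rcases h1 with h1 | h1
  · exact Or.inl (h1.trans h5)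
  · right
    rw [h1, h5, one_mul]

variable (hone : ∀ u : G, orderOf u = 2 → ∃ g : G, g * u * g⁻¹ = γ 1)
include hone

/-- **the elements of type 33** -/
theorem good_X33 : Good 3 ↥(centralizer ({ev γ X33} : Set G)) := by
  have hfin := h.fin
  have h2F : Fact (Nat.Prime 2) := ⟨Nat.prime_two⟩
  have hox : orderOf (ev γ X33) = 3 := by
    have := o33 h F
    rwa [Subgroup.orderOf_mk] at this
  -- elements of `E`
  have hEH : ∀ q ∈ E γ, q ∈ centralizer ({ev γ X33} : Set G) := fun q hq => hq.2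
  have hc0 : cc γ 0 ∈ E γ := c_mem_E h (Or.inl rfl)
  have hc0a : cc γ 0 * γ 1 = γ 1 * cc γ 0 := (h.Q_comm (E_le h hc0)).symm
  have hc02 : orderOf (cc γ 0) = 2 := by
    refine orderOf_eq_prime (by rw [pow_two]; exact h.data.cc 0) ?_
    intro h1
    have h2 := mask_c h.data 0
    rw [h1] at h2
    exact absurd (unique h.data h2 (mask_one h.data)) (by decide +kernel)
  have hc0ne : cc γ 0 ≠ γ 1 := by
    intro h1
    have h2 := mask_c h.data 0
    rw [h1] at h2
    exact absurd (unique h.data h2 (mask_a h.data)) (by decide +kernel)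
  have hconj : ∀ u : ↥(centralizer ({ev γ X33} : Set G)), orderOf u = 2 →
      ∃ g : ↥(centralizer ({ev γ X33} : Set G)), g * u * g⁻¹ = sx h c33 := by
    rintro ⟨u, hu⟩ hou
    rw [Subgroup.orderOf_mk] at hou
    rw [mem_centralizer_singleton_iff] at hu
    obtain ⟨g, h1, h2⟩ := exists_pair h hone hox hou hu
      (P := fun z => z = ev γ X3 ∨ z = ev γ X33 ∨ z = ev γ X333) (fun y hy => by
        obtain ⟨c, hc⟩ := exists_rep_three h F hy
        refine ⟨c, ?_⟩
        rcases hc with hc | hc | hc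
        · exact Or.inl (congrArg Subtype.val hc)
        · exact Or.inr (Or.inl (congrArg Subtype.val hc))
        · exact Or.inr (Or.inr (congrArg Subtype.val hc)))
    have key : (∀ w : G, orderOf w = 2 → w * γ 1 = γ 1 * w → w * (g * ev γ X33 * g⁻¹) = g * ev γ X33 * g⁻¹ * w →
        w = γ 1) → False := by
      intro hinv
      have h3 := unique_of_pair h1 rfl hinv
      have h4 := (CpAutTh.RankOne.uInv_of_unique (H := ↥(centralizer ({ev γ X33} : Set G)))
        (s := ⟨u, mem_centralizer_singleton_iff.2 hu⟩) (by rw [Subgroup.orderOf_mk, hou]) (by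
          rintro ⟨v, hv⟩ hov hvu
          apply Subtype.ext
          rw [Subgroup.orderOf_mk] at hov
          exact h3 v hov (congrArg Subtype.val hvu) (mem_centralizer_singleton_iff.1 hv))).1
      have h5 := h4 (sx h c33) ⟨cc γ 0, hEH _ hc0⟩ (order_sx h c33) (by rw [Subgroup.orderOf_mk, hc02])
        (Subtype.ext hc0a.symm)
      exact hc0ne (congrArg Subtype.val h5).symm
    rcases h2 with h2 | h2 | h2
    · exact (key (fun w hw hwa hwx => inv_three h F hw hwa (by rwa [h2] at hwx))).elim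
    · have hg : g ∈ centralizer ({ev γ X33} : Set G) := by
        rw [mem_centralizer_singleton_iff]
        exact mul_inv_eq_iff_eq_mul.1 h2
      exact ⟨⟨g, hg⟩, Subtype.ext h1⟩
    · exact (key (fun w hw hwa hwx => inv_triple h F hw hwa (by rwa [h2] at hwx))).elim
  obtain ⟨n, hn⟩ := ThCent.card_dvd h F c33 card33
  refine good_of_cent Nat.prime_three (order_sx h c33) hconj (a := n + 2) (b := 3)
    (hn.trans (dvd_of_eq (by rw [pow_add]; ring))) (t := ⟨cc γ 0, hEH _ hc0⟩) (by rw [Subgroup.orderOf_mk, hc02])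
    (fun h1 => hc0ne (congrArg Subtype.val h1)) (Subtype.ext hc0a)
    {e | (e : G) ∈ E γ ∧ orderOf e = 2} ?_ ?_
  · rintro e ⟨he, he2⟩
    exact ⟨he2, Subtype.ext (h.Q_comm (E_le h he)).symm⟩
  · intro y k hyk hys hyE
    have hyG : (y : G) ^ 2 ^ k = 1 := congrArg Subtype.val hyk
    have hya : (y : G) * γ 1 = γ 1 * y := congrArg Subtype.val hys
    have hyx : (y : G) * ev γ X33 = ev γ X33 * y := mem_centralizer_singleton_iff.1 y.2
    have h1 : ∀ r ∈ E γ, r * r = 1 → (y : G) * r = r * y := by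
      intro r hr hr2
      by_cases hr1 : r = 1
      · rw [hr1, one_mul, mul_one]
      · have h2 : orderOf r = 2 := orderOf_eq_prime (by rw [pow_two, hr2]) hr1
        have h3 := hyE ⟨r, hEH r hr⟩ ⟨hr, by rw [Subgroup.orderOf_mk, h2]⟩
        exact congrArg Subtype.val h3
    have h2 : ∀ q ∈ E γ, (y : G) * q = q * y := by
      intro q hq
      obtain ⟨r, hr, t, ht, hr2, ht2, rfl⟩ := prod_inv h hq
      rw [← mul_assoc, h1 r hr hr2, mul_assoc, h1 t ht ht2, mul_assoc]
    obtain ⟨i, hi⟩ := cent_E h F hya hyx h2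
    rcases two_elem h F c33 Nat.prime_three (by norm_num) (p33 h) hyG hi with h3 | h3
    · exact Or.inl (Subtype.ext h3)
    · exact Or.inr (Subtype.ext h3)

/-- **the elements of type 7** -/
theorem good_X7 : Good 7 ↥(centralizer ({ev γ X7} : Set G)) := by
  have hfin := h.fin
  have h2F : Fact (Nat.Prime 2) := ⟨Nat.prime_two⟩
  have hp7 : Nat.Prime 7 := by norm_num
  have hox : orderOf (ev γ X7) = 7 := by
    have := o7 h F
    rwa [Subgroup.orderOf_mk] at this
  have hTH : ∀ q ∈ CpAutTh.Seven.T γ, q ∈ centralizer ({ev γ X7} : Set G) := fun q hq =>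
    mem_centralizer_singleton_iff.2 (CpAutTh.Seven.T_comm h hq)
  have hT0 : cc γ 0 ∈ CpAutTh.Seven.T γ := subset_closure (by simp)
  have hT1 : cc γ 1 ∈ CpAutTh.Seven.T γ := subset_closure (by simp)
  have hcc : ∀ i : Fin 9, orderOf (cc γ i) = 2 ∧ cc γ i ≠ γ 1 ∧ cc γ i * γ 1 = γ 1 * cc γ i := by
    intro i
    refine ⟨orderOf_eq_prime (by rw [pow_two]; exact h.data.cc i) ?_, ?_, (h.Q_comm (h.cc_mem i)).symm⟩
    · intro h1
      have h2 := mask_c h.data i
      rw [h1] at h2
      have h3 := unique h.data h2 (mask_one h.data)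
      revert h3
      clear h1 h2
      revert i
      decide +kernel
    · intro h1
      have h2 := mask_c h.data i
      rw [h1] at h2
      have h3 := unique h.data h2 (mask_a h.data)
      revert h3
      clear h1 h2
      revert i
      decide +kernel
  have hconj : ∀ u : ↥(centralizer ({ev γ X7} : Set G)), orderOf u = 2 →
      ∃ g : ↥(centralizer ({ev γ X7} : Set G)), g * u * g⁻¹ = sx h c7 := by
    rintro ⟨u, hu⟩ hou
    rw [Subgroup.orderOf_mk] at hou
    obtain ⟨g, h1, h2⟩ := exists_pair h hone hox hou (mem_centralizer_singleton_iff.1 hu)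
      (P := fun z => z = ev γ X7) (fun y hy => by
        obtain ⟨c, hc⟩ := exists_rep_seven h F hy
        exact ⟨c, congrArg Subtype.val hc⟩)
    have hg : g ∈ centralizer ({ev γ X7} : Set G) := by
      rw [mem_centralizer_singleton_iff]
      exact mul_inv_eq_iff_eq_mul.1 h2
    exact ⟨⟨g, hg⟩, Subtype.ext h1⟩
  obtain ⟨n, hn⟩ := ThCent.card_dvd h F c7 card7
  refine good_of_cent hp7 (order_sx h c7) hconj (a := n + 1) (b := 1)
    (hn.trans (dvd_of_eq (by rw [pow_add]; ring))) (t := ⟨cc γ 0, hTH _ hT0⟩) (by rw [Subgroup.orderOf_mk, (hcc 0).1])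
    (fun h1 => (hcc 0).2.1 (congrArg Subtype.val h1)) (Subtype.ext (hcc 0).2.2)
    {⟨cc γ 0, hTH _ hT0⟩, ⟨cc γ 1, hTH _ hT1⟩} ?_ ?_
  · rintro e (rfl | rfl)
    · exact ⟨by rw [Subgroup.orderOf_mk, (hcc 0).1], Subtype.ext (hcc 0).2.2⟩
    · exact ⟨by rw [Subgroup.orderOf_mk, (hcc 1).1], Subtype.ext (hcc 1).2.2⟩
  · intro y k hyk hys hyE
    have hyG : (y : G) ^ 2 ^ k = 1 := congrArg Subtype.val hyk
    have hya : (y : G) * γ 1 = γ 1 * y := congrArg Subtype.val hys
    have hyx : (y : G) * ev γ X7 = ev γ X7 * y := mem_centralizer_singleton_iff.1 y.2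
    have hy0 : (y : G) * cc γ 0 = cc γ 0 * y := congrArg Subtype.val (hyE _ (Or.inl rfl))
    have hy1 : (y : G) * cc γ 1 = cc γ 1 * y := congrArg Subtype.val (hyE _ (Or.inr rfl))
    obtain ⟨i, q, hq, hyq⟩ := CpAutTh.Seven.struct h F hya hyx
    have hx0 : ev γ X7 ^ i * cc γ 0 = cc γ 0 * ev γ X7 ^ i :=
      ((show Commute (cc γ 0) (ev γ X7) from CpAutTh.Seven.T_comm h hT0).pow_right i).eq.symm
    have hx1 : ev γ X7 ^ i * cc γ 1 = cc γ 1 * ev γ X7 ^ i :=
      ((show Commute (cc γ 1) (ev γ X7) from CpAutTh.Seven.T_comm h hT1).pow_right i).eq.symm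
    have hq0 : q * cc γ 0 = cc γ 0 * q := by
      rw [hyq] at hy0
      have h1 : ev γ X7 ^ i * (q * cc γ 0) = ev γ X7 ^ i * (cc γ 0 * q) := by
        rw [← mul_assoc, hy0, ← mul_assoc, ← mul_assoc, hx0]
      exact mul_left_cancel h1
    have hq1 : q * cc γ 1 = cc γ 1 * q := by
      rw [hyq] at hy1
      have h1 : ev γ X7 ^ i * (q * cc γ 1) = ev γ X7 ^ i * (cc γ 1 * q) := by
        rw [← mul_assoc, hy1, ← mul_assoc, ← mul_assoc, hx1]
      exact mul_left_cancel h1
    -- `c0`, `c1` do not commute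
    have h01 : cc γ 0 * cc γ 1 ≠ cc γ 1 * cc γ 0 := by
      intro h1
      have h2 := CpAutTh.Seven.w01 h
      have h3 : cc γ 0 * cc γ 1 * (cc γ 0 * cc γ 1) = 1 := by
        calc cc γ 0 * cc γ 1 * (cc γ 0 * cc γ 1) = cc γ 0 * cc γ 1 * (cc γ 1 * cc γ 0) := by rw [← h1]
          _ = cc γ 0 * (cc γ 1 * cc γ 1) * cc γ 0 := by group
          _ = 1 := by rw [h.data.cc 1, mul_one, h.data.cc 0]
      exact h.a1 (h2.symm.trans h3)
    have hqa : q = 1 ∨ q = γ 1 := by
      obtain ⟨m, hm, hm2⟩ := comm_mask h chk7 fix7 (CpAutTh.Seven.T_le h hq) (CpAutTh.Seven.T_comm h hq)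
      have hj : ∀ w : G, w ∈ Q0 γ → HM (γ 1) (cc γ) w m → q = w ∨ q = w * γ 1 := fun w hw hwm =>
        eq_of_mask h.data h.cardQ hw (CpAutTh.Seven.T_le h hq) hwm hm2
      have hac : ∀ i : Fin 9, γ 1 * cc γ i = cc γ i * γ 1 := fun i => (hcc i).2.2.symm
      unfold F7 at hm
      rw [List.mem_cons, List.mem_cons, List.mem_cons, List.mem_singleton] at hm
      rcases hm with rfl | rfl | rfl | rfl
      · rcases hj 1 (one_mem _) (mask_one h.data) with h1 | h1
        · exact Or.inl h1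
        · right
          rw [h1, one_mul]
      · exfalso
        apply h01
        have h3 : cc γ 0 * cc γ 1 * cc γ 0 = cc γ 0 * (cc γ 0 * cc γ 1) := by
          rcases hj (cc γ 0 * cc γ 1) (mul_mem (h.cc_mem 0) (h.cc_mem 1))
            (mul h.data (h.cc_mem 0) (mask_c h.data 0) (mask_c h.data 1)) with h1 | h1
          · rw [h1] at hq0
            exact hq0
          · rw [h1] at hq0
            have h4 : cc γ 0 * cc γ 1 * cc γ 0 * γ 1 = cc γ 0 * (cc γ 0 * cc γ 1) * γ 1 := by
              calc cc γ 0 * cc γ 1 * cc γ 0 * γ 1 = cc γ 0 * cc γ 1 * (cc γ 0 * γ 1) := by group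
                _ = cc γ 0 * cc γ 1 * γ 1 * cc γ 0 := by rw [← hac]; group
                _ = cc γ 0 * (cc γ 0 * cc γ 1 * γ 1) := hq0
                _ = _ := by group
            exact mul_right_cancel h4
        have h4 : cc γ 0 * (cc γ 1 * cc γ 0) = cc γ 0 * (cc γ 0 * cc γ 1) := by rw [← mul_assoc]; exact h3
        exact (mul_left_cancel h4).symm
      · exfalso
        apply h01
        rcases hj (cc γ 1) (h.cc_mem 1) (mask_c h.data 1) with h1 | h1
        · rw [h1] at hq0
          exact hq0.symm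
        · rw [h1] at hq0
          have h4 : cc γ 1 * cc γ 0 * γ 1 = cc γ 0 * cc γ 1 * γ 1 := by
            calc cc γ 1 * cc γ 0 * γ 1 = cc γ 1 * (cc γ 0 * γ 1) := by group
              _ = cc γ 1 * γ 1 * cc γ 0 := by rw [← hac]; group
              _ = cc γ 0 * (cc γ 1 * γ 1) := hq0
              _ = _ := by group
          exact (mul_right_cancel h4).symm
      · exfalso
        apply h01
        rcases hj (cc γ 0) (h.cc_mem 0) (mask_c h.data 0) with h1 | h1
        · rw [h1] at hq1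
          exact hq1
        · rw [h1] at hq1
          have h4 : cc γ 0 * cc γ 1 * γ 1 = cc γ 1 * cc γ 0 * γ 1 := by
            calc cc γ 0 * cc γ 1 * γ 1 = cc γ 0 * (cc γ 1 * γ 1) := by group
              _ = cc γ 0 * γ 1 * cc γ 1 := by rw [← hac]; group
              _ = cc γ 1 * (cc γ 0 * γ 1) := hq1
              _ = _ := by group
          exact mul_right_cancel h4
    have hi : (y : G) = ev γ X7 ^ i ∨ (y : G) = ev γ X7 ^ i * γ 1 := by
      rcases hqa with h1 | h1
      · left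
        rw [hyq, h1, mul_one]
      · right
        rw [hyq, h1]
    rcases two_elem h F c7 hp7 (by norm_num) (p7 h) hyG hi with h3 | h3
    · exact Or.inl (Subtype.ext h3)
    · exact Or.inr (Subtype.ext h3)

end

end Cfsg.Agent.BpSpor.ThThree

end

private theorem dce_f6fb8735f742 : _root_.True := by
  try have : _root_.True := by simp only [_root_.Cfsg.Agent.BpSpor.ThCent.sx.congr_simp]
  try have : _root_.True := by simp only [_root_.Cfsg.Agent.BpSpor.ThThree.S6.eq_1]
  exact _root_.True.intro
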