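import Cfsg.Agent.CpAutHN.Second
import Cfsg.Agent.BpSpor.Arith
import Cfsg.Agent.BpSpor.RowAll
import Cfsg.Agent.CpAutHNFive.Main
import Cfsg.Agent.Lib.KleinOrder
import Cfsg.Agent.FastGrp
import Cfsg.Agent.Prune
set_option linter.all false
prune_inst 0x7f00000000000000000000000000000000000000000000000000000000000000000000000000000000000000000000000000000000000000000000000000000000000000000000000000000000000000003fffffffffffffffffffffffffffbeffbdffffffff
open scoped Cfsg.Agent.FastGrp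

-- merged: Cfsg.Agent.BpSpor.HNFiveAbs
section

/-!
# S1332: HN, `p = 5`: abstract lemmas (helper42)

* `not_mem_core` : `H` of 2-rank one, `s` an involution of `O_{p'}(H)`: the `p`-part of `|H|` divides `|C_H(s)|`;
* `transvection` : a `p`-element `g` normalising `E` of order `25` and not centralising `a ∈ E`: every `y ∈ E` not
  centralised by `g` is conjugate to a power of `a`;
* `exists_norm` : the normaliser condition.
-/

set_option autoImplicit false

namespace Cfsg.Agent.BpSpor.HNFive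

open Subgroup Cfsg
open Cfsg.Agent.CpAutHN

universe u

/-- `H` of 2-rank one; if the `p`-part of `|H|` is larger than that of `|C_H(s)|` then `s ∉ O_{p'}(H)` -/
theorem not_mem_core {H : Type u} [Group H] [Finite H] {p m : ℕ} (hp : p.Prime) (h : RankOne.One H) {s : H}
    (hs : orderOf s = 2) (h1 : p ^ m ∣ Nat.card H) (h2 : ¬ p ^ m ∣ Nat.card ↥(centralizer ({s} : Set H))) :
    s ∉ pPrimeCore p H := by
  intro hsN
  apply h2
  have : Fact p.Prime := ⟨hp⟩
  have hn := Lib.Cores.pPrimeCore_normal (G := H) p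
  have hc := Lib.Cores.pPrimeCore_coprime (G := H) p
  let f : ↥(centralizer ({s} : Set H)) →* H ⧸ pPrimeCore p H :=
    (QuotientGroup.mk' (pPrimeCore p H)).comp (centralizer ({s} : Set H)).subtype
  have hf : Function.Surjective f := by
    intro y
    obtain ⟨g, rfl⟩ := QuotientGroup.mk'_surjective _ y
    have h3 : g⁻¹ * s * g ∈ pPrimeCore p H := by
      have h4 := hn.conj_mem s hsN g⁻¹
      rwa [inv_inv] at h4
    have h4 : orderOf (⟨g⁻¹ * s * g, h3⟩ : ↥(pPrimeCore p H)) = 2 := by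
      rw [← Subgroup.orderOf_coe, ← hs]
      change orderOf (g⁻¹ * s * g) = orderOf s
      have := MulEquiv.orderOf_eq (MulAut.conj g⁻¹) s
      rwa [MulAut.conj_apply, inv_inv] at this
    have h5 : orderOf (⟨s, hsN⟩ : ↥(pPrimeCore p H)) = 2 := by
      rw [← Subgroup.orderOf_coe]
      exact hs
    obtain ⟨c, hcc⟩ := isConj_iff.1 ((h.subgroup (pPrimeCore p H)).isConj h4 h5)
    have h6 : (c : H) * (g⁻¹ * s * g) * (c : H)⁻¹ = s := congrArg Subtype.val hcc
    have h7 : g * (c : H)⁻¹ ∈ centralizer ({s} : Set H) := by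
      rw [mem_centralizer_singleton_iff]
      calc g * (c : H)⁻¹ * s = g * (c : H)⁻¹ * ((c : H) * (g⁻¹ * s * g) * (c : H)⁻¹) := by rw [h6]
        _ = s * (g * (c : H)⁻¹) := by group
    refine ⟨⟨g * (c : H)⁻¹, h7⟩, ?_⟩
    change QuotientGroup.mk' (pPrimeCore p H) (g * (c : H)⁻¹) = _
    rw [map_mul]
    have h8 : QuotientGroup.mk' (pPrimeCore p H) (c : H)⁻¹ = 1 :=
      (QuotientGroup.eq_one_iff _).2 (inv_mem c.2)
    rw [h8, mul_one]
  have h3 : Nat.card (H ⧸ pPrimeCore p H) ∣ Nat.card ↥(centralizer ({s} : Set H)) := card_dvd_of_surjective f hf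
  rw [card_eq_card_quotient_mul_card_subgroup (pPrimeCore p H)] at h1
  exact ((Nat.Coprime.pow_left m hc.symm).dvd_of_dvd_mul_right h1).trans h3

section Trans

variable {G : Type u} [Group G] [Finite G]

/-- the commutator map on an abelian subgroup normalised by `g` -/
def comMap (E : Subgroup G) (hcomm : ∀ x ∈ E, ∀ y ∈ E, x * y = y * x) (g : G) (hg : ∀ x ∈ E, g * x * g⁻¹ ∈ E) :
    ↥E →* ↥E where
  toFun x := ⟨g * x * g⁻¹ * (x : G)⁻¹, E.mul_mem (hg x x.2) (E.inv_mem x.2)⟩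
  map_one' := Subtype.ext (by
    change g * 1 * g⁻¹ * (1 : G)⁻¹ = 1
    group)
  map_mul' x y := Subtype.ext (by
    change g * ((x : G) * y) * g⁻¹ * ((x : G) * y)⁻¹ = g * x * g⁻¹ * (x : G)⁻¹ * (g * y * g⁻¹ * (y : G)⁻¹)
    have h1 : (x : G)⁻¹ * (g * y * g⁻¹ * (y : G)⁻¹) = g * y * g⁻¹ * (y : G)⁻¹ * (x : G)⁻¹ :=
      hcomm _ (E.inv_mem x.2) _ (E.mul_mem (hg y y.2) (E.inv_mem y.2))
    calc g * ((x : G) * y) * g⁻¹ * ((x : G) * y)⁻¹ = g * x * g⁻¹ * (g * y * g⁻¹ * (y : G)⁻¹ * (x : G)⁻¹) := by group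
      _ = g * x * g⁻¹ * ((x : G)⁻¹ * (g * y * g⁻¹ * (y : G)⁻¹)) := by rw [h1]
      _ = _ := by group)

theorem card_inf_five {E : Subgroup G} (hE : ∃ k, 1 ≤ k ∧ Nat.card ↥E = 5 ^ k) {g : G} {n : ℕ} (hgn : g ^ 5 ^ n = 1)
    (hg : g ∈ normalizer (E : Set G)) : 5 ∣ Nat.card ↥(E ⊓ centralizer ({g} : Set G)) := by
  obtain ⟨k, hk, hc⟩ := hE
  have h1 := Arith.card_modEq Nat.prime_five hgn hg
  have h2 : 5 ∣ Nat.card ↥E := by
    rw [hc]
    exact dvd_pow_self 5 (by omega)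
  exact (Nat.modEq_zero_iff_dvd.1 (h1.symm.trans (Nat.modEq_zero_iff_dvd.2 h2)))

/-- **Transvections.** -/
theorem transvection {E : Subgroup G} (hcomm : ∀ x ∈ E, ∀ y ∈ E, x * y = y * x) (hcard : Nat.card ↥E = 25) {g : G}
    {n : ℕ} (hgn : g ^ 5 ^ n = 1) (hg : g ∈ normalizer (E : Set G)) {a : G} (ha : a ∈ E) (hga : g * a ≠ a * g) {y : G}
    (hy : y ∈ E) (hgy : g * y ≠ y * g) : ∃ (k i : ℕ), ¬ 5 ∣ i ∧ y = g ^ k * a ^ i * (g ^ k)⁻¹ := by
  have hconj : ∀ x ∈ E, g * x * g⁻¹ ∈ E := fun x hx => (mem_normalizer_iff.1 hg x).1 hx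
  let φ := comMap E hcomm g hconj
  have hφ : ∀ x : ↥E, (φ x : G) = g * x * g⁻¹ * (x : G)⁻¹ := fun _ => rfl
  have hker : ∀ x : ↥E, φ x = 1 ↔ g * (x : G) = x * g := by
    intro x
    constructor
    · intro h
      have h1 : g * x * g⁻¹ * (x : G)⁻¹ = 1 := congrArg Subtype.val h
      exact mul_inv_eq_iff_eq_mul.1 (mul_inv_eq_one.1 h1)
    · intro h
      apply Subtype.ext
      rw [hφ, h]
      change (x : G) * g * g⁻¹ * (x : G)⁻¹ = 1
      group
  -- the order of the kernel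
  have hk5 : Nat.card ↥φ.ker = 5 := by
    have h1 : Nat.card ↥φ.ker = Nat.card ↥(E ⊓ centralizer ({g} : Set G)) := by
      refine Nat.card_congr ⟨fun x => ⟨((x : ↥E) : G), (x : ↥E).2, ?_⟩, fun x => ⟨⟨x, x.2.1⟩, ?_⟩, fun _ => rfl,
        fun _ => rfl⟩
      · exact mem_centralizer_singleton_iff.2 ((hker x).1 x.2).symm
      · exact (hker _).2 (mem_centralizer_singleton_iff.1 x.2.2).symm
    have h2 : 5 ∣ Nat.card ↥φ.ker := by
      rw [h1]
      exact card_inf_five ⟨2, by norm_num, by rw [hcard]; norm_num⟩ hgn hg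
    have h3 : Nat.card ↥φ.ker ∣ 5 ^ 2 := by
      rw [show 5 ^ 2 = 25 by norm_num, ← hcard]
      exact card_subgroup_dvd_card _
    obtain ⟨j, hj, h4⟩ := (Nat.dvd_prime_pow Nat.prime_five).1 h3
    rw [h4] at h2 ⊢
    interval_cases j
    · norm_num at h2
    · norm_num
    · exfalso
      have h5 : φ.ker = ⊤ := Subgroup.eq_top_of_card_eq _ (by rw [h4, hcard]; norm_num)
      have h6 : (⟨a, ha⟩ : ↥E) ∈ φ.ker := by rw [h5]; exact mem_top _
      exact hga ((hker _).1 h6)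
  have hr5 : Nat.card ↥φ.range = 5 := by
    have h1 := φ.ker.card_mul_index
    rw [hk5, Subgroup.index_ker, hcard] at h1
    omega
  -- the range is centralised by `g`
  have hrc : ∀ x : ↥E, x ∈ φ.range → φ x = 1 := by
    let I : Subgroup G := φ.range.map E.subtype
    have hI : Nat.card ↥I = 5 := by
      rw [← hr5]
      exact card_map_of_injective E.subtype_injective
    have hIg : g ∈ normalizer (I : Set G) := by
      have hle : I.map (MulAut.conj g).toMonoidHom ≤ I := by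
        rintro _ ⟨_, ⟨_, ⟨x, rfl⟩, rfl⟩, rfl⟩
        refine ⟨φ ⟨g * x * g⁻¹, hconj x x.2⟩, ⟨_, rfl⟩, ?_⟩
        change g * (g * x * g⁻¹) * g⁻¹ * (g * x * g⁻¹)⁻¹ = g * (g * x * g⁻¹ * (x : G)⁻¹) * g⁻¹
        group
      have heq : I.map (MulAut.conj g).toMonoidHom = I := by
        apply eq_of_le_of_card_ge hle
        exact (Nat.card_congr (I.equivMapOfInjective _ (MulAut.conj g).injective).toEquiv).le
      rw [mem_normalizer_iff]
      intro x
      constructor
      · intro hx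
        exact hle ⟨x, hx, rfl⟩
      · intro hx
        rw [← heq] at hx
        obtain ⟨z, hz, hzx⟩ := hx
        have h1 : g * z * g⁻¹ = g * x * g⁻¹ := hzx
        rw [← mul_left_cancel (mul_right_cancel h1)]
        exact hz
    have h1 := card_inf_five ⟨1, le_rfl, by rw [hI]; norm_num⟩ hgn hIg
    have h2 : I ⊓ centralizer ({g} : Set G) = I := by
      apply eq_of_le_of_card_ge inf_le_left
      rw [hI]
      exact Nat.le_of_dvd Nat.card_pos h1
    intro x hx
    rw [hker]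
    have h3 : (x : G) ∈ I := ⟨x, hx, rfl⟩
    rw [← h2] at h3
    exact (mem_centralizer_singleton_iff.1 h3.2).symm
  have hkr : φ.range = φ.ker := by
    apply eq_of_le_of_card_ge
    · intro x hx
      exact hrc x hx
    · rw [hk5, hr5]
  -- the generator `φ a`
  have hf1 : φ ⟨a, ha⟩ ≠ 1 := fun h => hga ((hker _).1 h)
  have hp5 : Fact (Nat.Prime 5) := ⟨Nat.prime_five⟩
  have hgen : ∀ x ∈ φ.range, ∃ i : ℕ, x = φ ⟨a, ha⟩ ^ i := by
    have h1 : zpowers (φ ⟨a, ha⟩) = φ.range := by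
      apply eq_of_le_of_card_ge
      · rw [zpowers_le]
        exact ⟨_, rfl⟩
      · rw [hr5, Nat.card_zpowers]
        have h2 : orderOf (φ ⟨a, ha⟩) ∣ 5 := by
          have h3 : orderOf (⟨φ ⟨a, ha⟩, ⟨_, rfl⟩⟩ : ↥φ.range) ∣ Nat.card ↥φ.range := _root_.orderOf_dvd_natCard _
          rw [← Subgroup.orderOf_coe, hr5] at h3
          exact h3
        rcases (Nat.dvd_prime Nat.prime_five).1 h2 with h4 | h4
        · exact absurd (orderOf_eq_one_iff.1 h4) hf1
        · rw [h4]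
    intro x hx
    rw [← h1] at hx
    obtain ⟨i, hi⟩ := mem_powers_iff_mem_zpowers.2 hx
    exact ⟨i, hi.symm⟩
  obtain ⟨i, hi⟩ := hgen (φ ⟨y, hy⟩) ⟨_, rfl⟩
  have hf5 : φ ⟨a, ha⟩ ^ 5 = 1 := by
    have h3 : (⟨φ ⟨a, ha⟩, ⟨_, rfl⟩⟩ : ↥φ.range) ^ Nat.card ↥φ.range = 1 := pow_card_eq_one'
    rw [hr5] at h3
    exact congrArg Subtype.val h3
  have hi5 : ¬ 5 ∣ i := by
    rintro ⟨j, rfl⟩
    rw [pow_mul, hf5, one_pow] at hi
    exact hgy ((hker _).1 hi)
  -- `y = a ^ i * f ^ j`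
  have h4 : (⟨y, hy⟩ : ↥E) * (⟨a, ha⟩ ^ i)⁻¹ ∈ φ.ker := by
    rw [MonoidHom.mem_ker, map_mul, map_inv, map_pow, hi, mul_inv_cancel]
  rw [← hkr] at h4
  obtain ⟨j, hj⟩ := hgen _ h4
  -- conjugation by powers of `g`
  set f : G := g * a * g⁻¹ * a⁻¹ with hfdef
  have hfE : f ∈ E := E.mul_mem (hconj a ha) (E.inv_mem ha)
  have hfg : g * f = f * g := by
    have h5 := hrc (φ ⟨a, ha⟩) ⟨_, rfl⟩
    exact (hker _).1 h5
  have haf : a * f = f * a := hcomm a ha f hfE
  have hga1 : g * a * g⁻¹ = a * f := by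
    rw [haf, hfdef]
    group
  have hk : ∀ k : ℕ, g ^ k * a * (g ^ k)⁻¹ = a * f ^ k := by
    intro k
    induction k with
    | zero => group
    | succ k ih =>
      have h6 : g * f ^ k * g⁻¹ = f ^ k := by
        have h7 : Commute g (f ^ k) := Commute.pow_right (show Commute g f from hfg) k
        rw [h7.eq, mul_inv_cancel_right]
      calc g ^ (k + 1) * a * (g ^ (k + 1))⁻¹ = g * (g ^ k * a * (g ^ k)⁻¹) * g⁻¹ := by rw [pow_succ']; group
        _ = (g * a * g⁻¹) * (g * f ^ k * g⁻¹) := by rw [ih]; group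
        _ = a * f ^ (k + 1) := by rw [hga1, h6, mul_assoc, ← pow_succ']
  -- choose `k` with `k * i = j` modulo 5
  have hf5' : f ^ 5 = 1 := congrArg Subtype.val hf5
  obtain ⟨k, hkk⟩ : ∃ k : ℕ, f ^ (k * i) = f ^ j := by
    have h6 : Nat.Coprime i 5 := ((Nat.Prime.coprime_iff_not_dvd Nat.prime_five).2 hi5).symm
    obtain ⟨m, hm⟩ := Nat.exists_mul_mod_eq_one_of_coprime h6 (by norm_num)
    refine ⟨m * j, ?_⟩
    have h7 : i * m = 5 * (i * m / 5) + 1 := by
      have := Nat.div_add_mod (i * m) 5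
      omega
    calc f ^ (m * j * i) = (f ^ (i * m)) ^ j := by rw [← pow_mul]; congr 1; ring
      _ = f ^ j := by rw [h7, pow_add, pow_mul, hf5', one_pow, one_mul, pow_one]
  refine ⟨k, i, hi5, ?_⟩
  have h8 : y * (a ^ i)⁻¹ = f ^ j := by
    have := congrArg Subtype.val hj
    exact this
  have h9 : y = f ^ j * a ^ i := mul_inv_eq_iff_eq_mul.1 h8
  have h10 : g ^ k * a ^ i * (g ^ k)⁻¹ = (g ^ k * a * (g ^ k)⁻¹) ^ i := by
    rw [← MulAut.conj_apply, ← MulAut.conj_apply, map_pow]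
  rw [h10, hk, Commute.mul_pow (show Commute a (f ^ k) from Commute.pow_right (show Commute a f from haf) k),
    ← pow_mul, hkk, h9]
  exact ((Commute.pow_pow (show Commute a f from haf) i j).eq).symm

/-- **The normaliser condition.** -/
theorem exists_norm {p : ℕ} [hp : Fact p.Prime] {E : Subgroup G} {k : ℕ} (hE : Nat.card ↥E = p ^ k)
    (h : p ^ (k + 1) ∣ Nat.card G) : ∃ S : Sylow p G, E ≤ S ∧ ∃ g ∈ (S : Subgroup G), g ∉ E ∧
      g ∈ normalizer (E : Set G) := by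
  have hEp : IsPGroup p ↥E := IsPGroup.of_card hE
  obtain ⟨S, hS⟩ := hEp.exists_le_sylow
  refine ⟨S, hS, ?_⟩
  have hlt : E.subgroupOf S < ⊤ := by
    rw [lt_top_iff_ne_top]
    intro h1
    rw [subgroupOf_eq_top] at h1
    have h2 : (S : Subgroup G) = E := le_antisymm h1 hS
    have h3 : p ^ (k + 1) ∣ Nat.card ↥(S : Subgroup G) := by
      rw [S.card_eq_multiplicity]
      exact Nat.pow_dvd_pow p ((hp.out.pow_dvd_iff_le_factorization Nat.card_pos.ne').1 h)
    rw [h2, hE] at h3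
    have h4 := (Nat.pow_dvd_pow_iff_le_right hp.out.one_lt).1 h3
    omega
  have hnil : Group.IsNilpotent ↥(S : Subgroup G) := S.isPGroup'.isNilpotent
  have h1 := Group.normalizerCondition_of_isNilpotent (G := ↥(S : Subgroup G)) _ hlt
  obtain ⟨g, hg, hgE⟩ := SetLike.exists_of_lt h1
  refine ⟨g, g.2, fun h => hgE (mem_subgroupOf.2 h), ?_⟩
  rw [mem_normalizer_iff] at hg ⊢
  intro x
  constructor
  · intro hx
    have h2 := (hg ⟨x, hS hx⟩).1 (mem_subgroupOf.2 hx)
    exact mem_subgroupOf.1 h2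
  · intro hx
    have h3 : x ∈ (S : Subgroup G) := by
      have h4 : (g : G)⁻¹ * (g * x * (g : G)⁻¹) * g ∈ (S : Subgroup G) :=
        mul_mem (mul_mem (inv_mem g.2) (hS hx)) g.2
      have h5 : (g : G)⁻¹ * (g * x * (g : G)⁻¹) * g = x := by group
      rwa [h5] at h4
    have h2 := (hg ⟨x, h3⟩).2 (mem_subgroupOf.2 hx)
    exact mem_subgroupOf.1 h2

end Trans

end Cfsg.Agent.BpSpor.HNFive

end

-- merged: Cfsg.Agent.BpSpor.HNFiveOne
section

/-!
# S1332: HN, `p = 5`: the centralisers of the elements of type I (helper42)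

* `dvd_card` : `125 ∣ |C(x)|`, `x ∈ PP` of order 5 with `ρ x = φA c5`: otherwise a 5-element of `N(⟨x, b⟩)` permutes five
  of the six subgroups of order 5 of `⟨x, b⟩`, but `C(x)` is not solvable and `C(x b ^ 2)`, `C(x b ^ 3)` are;
* `noComp_one` : `C(x) / O_{5'}(C(x))` has no component.
-/

set_option autoImplicit false

namespace Cfsg.Agent.BpSpor.HNFive

open Cfsg.Agent.HN.Pres Cfsg.Agent.HN.P1408 Cfsg.Agent.HN.H0Basic
open Cfsg.Agent.HN.XWords (W0 W0_sq)
open Cfsg Cfsg.Agent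
open Cfsg.Agent.KFacts.HN
open Cfsg.Agent.CpAutHN.PPFacts (isPGroup_ker)
open Cfsg.Agent.CpAutHNFive Cfsg.Agent.CpAutHNFive.LFive Cfsg.Agent.CpAutHNFive.PFive
open Cfsg.Agent.CpAutHNFive.TFive
open Cfsg.Agent.CpAutHNFive.TauFive (cequiv cequiv_pow centralizer_pow)
open Subgroup

/-- a second element of order five -/
theorem exists_b {x : PP} (hx : orderOf x = 5) (h : ρ x = φA c5) :
    ∃ b : PP, b * x = x * b ∧ b ^ 5 = 1 ∧ ρ b = φB c5 := by
  have h1 : φB c5 ∈ (fC x).range := (mem_range hx).2 (by rw [h, comm_AB])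
  obtain ⟨u, hu⟩ := h1
  have hv : ρ (toPP x u) = φB c5 := hu
  have hvx := toPP_comm x u
  have h5 : (toPP x u) ^ 5 ∈ ρ.ker := by
    rw [MonoidHom.mem_ker, map_pow, hv, ← map_pow, c5_pow, map_one]
  obtain ⟨k, hk⟩ := isPGroup_ker ⟨_, h5⟩
  have hk' : ((toPP x u) ^ 5) ^ 2 ^ k = 1 := congrArg Subtype.val hk
  have h6 : Nat.Coprime (2 ^ k) 5 := Nat.Coprime.pow_left k (by norm_num)
  obtain ⟨m, hm⟩ := Nat.exists_mul_mod_eq_one_of_coprime h6 (by norm_num)
  refine ⟨(toPP x u) ^ (2 ^ k * m), ?_, ?_, ?_⟩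
  · exact ((show Commute (toPP x u) x from hvx).pow_left _).eq
  · calc ((toPP x u) ^ (2 ^ k * m)) ^ 5 = (((toPP x u) ^ 5) ^ 2 ^ k) ^ m := by
          rw [← pow_mul, ← pow_mul, ← pow_mul]; congr 1; ring
      _ = 1 := by rw [hk', one_pow]
  · have h7 : 2 ^ k * m = 5 * (2 ^ k * m / 5) + 1 := by
      have := Nat.div_add_mod (2 ^ k * m) 5
      omega
    rw [map_pow, hv, ← map_pow, h7, pow_add, pow_mul, c5_pow, one_pow, one_mul, pow_one]

theorem perm_inv : ∃ s : Equiv.Perm (Fin 5), s * p5 ^ 2 * s⁻¹ = p5 ^ 3 ∧ Equiv.Perm.sign s = 1 := by decide +kernel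

theorem exists_s : ∃ s : A5, s * c5 ^ 2 * s⁻¹ = c5 ^ 3 := by
  obtain ⟨s, h1, h2⟩ := perm_inv
  exact ⟨⟨s, Equiv.Perm.mem_alternatingGroup.2 h2⟩, Subtype.ext h1⟩

theorem order_of_ρ {y : PP} (h5 : y ^ 5 = 1) (h1 : ρ y ≠ 1) : orderOf y = 5 := by
  have : Fact (Nat.Prime 5) := ⟨Nat.prime_five⟩
  exact orderOf_eq_prime h5 fun h => h1 (by rw [h, map_one])

theorem φ2_ne {a b : A5} (h : a ≠ 1) : φA a * φB b ≠ 1 := by
  intro h1
  have h2 : φ2 (a, b) = φ2 (1, 1) := by
    rw [φ2_apply, φ2_apply, map_one, map_one, one_mul]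
    exact h1
  exact h (φ2_inj h2).1

/-- `C(x)` is not solvable -/
theorem not_solvable {x : PP} (hx : orderOf x = 5) (h : ρ x = φA c5) :
    ¬ Group.IsSolvable ↥(centralizer ({(x : G)} : Set G)) := by
  intro hs
  have h1 : Group.IsSolvable ↥(fC x).range :=
    Group.isSolvable_of_surjective (f := (fC x).rangeRestrict) (fC x).rangeRestrict_surjective
  have h2 : φB.range ≤ (fC x).range := by
    rintro _ ⟨b, rfl⟩
    exact (mem_range hx).2 (by rw [h, comm_AB])
  let f : A5 →* ↥(fC x).range := φB.codRestrict _ fun b => h2 ⟨b, rfl⟩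
  have hf : Function.Injective f := by
    intro a b hab
    exact φB_inj (congrArg Subtype.val hab)
  have h3 : Group.IsSolvable A5 := Group.isSolvable_of_isSolvable_injective hf
  have h4 := (IsSimpleGroup.comm_iff_isSolvable (G := A5)).2 h3
  exact c5_ne (A5_center fun b => h4 c5 b)

/-- the centralisers of `x b ^ 2` and `x b ^ 3` -/
theorem solvable_two (FT : ∀ (K : Type) [Group K] [Finite K], Odd (Nat.card K) → Group.IsSolvable K) {x b : PP}
    (hx : orderOf x = 5) (h : ρ x = φA c5) (hbx : b * x = x * b) (hb5 : b ^ 5 = 1) (hb : ρ b = φB c5) :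
    Group.IsSolvable ↥(centralizer ({((x * b ^ 2 : PP) : G)} : Set G)) := by
  obtain ⟨s, hs⟩ := exists_s
  obtain ⟨σ, hσ⟩ := ρ_surj (φB s)
  have hx5 : x ^ 5 = 1 := by rw [← hx, pow_orderOf_eq_one]
  have h5 : (x * b ^ 2) ^ 5 = 1 := by
    rw [Commute.mul_pow (show Commute x (b ^ 2) from Commute.pow_right (show Commute x b from hbx.symm) 2), hx5,
      one_mul, ← pow_mul, mul_comm 2 5, pow_mul, hb5, one_pow]
  have h1 : ρ (σ * (x * b ^ 2) * σ⁻¹) = φA c5 * φB (c5 ^ 3) := by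
    have h2 : φB s * φA c5 = φA c5 * φB s := (comm_AB c5 s).symm
    calc ρ (σ * (x * b ^ 2) * σ⁻¹) = φB s * (φA c5 * φB (c5 ^ 2)) * (φB s)⁻¹ := by
          rw [map_mul, map_mul, map_mul, map_inv, map_pow, hσ, h, hb, ← map_pow]
      _ = φB s * φA c5 * φB (c5 ^ 2) * (φB s)⁻¹ := by group
      _ = φA c5 * (φB s * φB (c5 ^ 2) * (φB s)⁻¹) := by rw [h2]; group
      _ = φA c5 * φB (c5 ^ 3) := by rw [← map_inv, ← map_mul, ← map_mul, hs]
  have h2 : orderOf (σ * (x * b ^ 2) * σ⁻¹) = 5 := by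
    apply order_of_ρ
    · rw [← MulAut.conj_apply, ← map_pow, h5, map_one]
    · rw [h1]
      exact φ2_ne c5_ne
  have h3 := type_two FT h2 h1
  have e := cequiv (σ : G) ((x * b ^ 2 : PP) : G)
  exact Group.isSolvable_of_surjective (f := e.symm.toMonoidHom) e.symm.surjective

theorem solvable_three' (FT : ∀ (K : Type) [Group K] [Finite K], Odd (Nat.card K) → Group.IsSolvable K) {x b : PP}
    (hx : orderOf x = 5) (h : ρ x = φA c5) (hbx : b * x = x * b) (hb5 : b ^ 5 = 1) (hb : ρ b = φB c5) :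
    Group.IsSolvable ↥(centralizer ({((x * b ^ 3 : PP) : G)} : Set G)) := by
  have hx5 : x ^ 5 = 1 := by rw [← hx, pow_orderOf_eq_one]
  have h5 : (x * b ^ 3) ^ 5 = 1 := by
    rw [Commute.mul_pow (show Commute x (b ^ 3) from Commute.pow_right (show Commute x b from hbx.symm) 3), hx5,
      one_mul, ← pow_mul, mul_comm 3 5, pow_mul, hb5, one_pow]
  have h1 : ρ (x * b ^ 3) = φA c5 * φB (c5 ^ 3) := by
    rw [map_mul, map_pow, h, hb, ← map_pow]
  refine type_two FT (order_of_ρ h5 ?_) h1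
  rw [h1]
  exact φ2_ne c5_ne

/-- the subgroup of order 25 -/
theorem exists_E {C : Type*} [Group C] {a b : C} (hab : a * b = b * a) (ha : orderOf a = 5) (hb : orderOf b = 5)
    (hn : a ∉ zpowers b) : ∃ E : Subgroup C, a ∈ E ∧ b ∈ E ∧ Nat.card ↥E = 25 ∧ ∀ x ∈ E, ∀ y ∈ E, x * y = y * x := by
  have hd := HFacts.inf_eq_bot_of_prime Nat.prime_five ha hn
  let f : ↥(zpowers a) × ↥(zpowers b) →* C :=
    (zpowers a).subtype.noncommCoprod (zpowers b).subtype (by
      rintro ⟨_, i, rfl⟩ ⟨_, j, rfl⟩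
      exact ((show Commute a b from hab).zpow_left i).zpow_right j)
  have hf : Function.Injective f := by
    rw [injective_iff_map_eq_one]
    rintro ⟨x, y⟩ h
    have h1 : (x : C) * (y : C) = 1 := h
    have h2 : (x : C) ∈ zpowers a ⊓ zpowers b := by
      refine ⟨x.2, ?_⟩
      have h3 : (x : C) = (y : C)⁻¹ := eq_inv_of_mul_eq_one_left h1
      rw [h3]
      exact (zpowers b).inv_mem y.2
    rw [hd, mem_bot] at h2
    have h3 : (y : C) = 1 := by rwa [h2, one_mul] at h1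
    exact Prod.ext (Subtype.ext h2) (Subtype.ext h3)
  refine ⟨f.range, ⟨(⟨a, mem_zpowers a⟩, 1), mul_one a⟩, ⟨(1, ⟨b, mem_zpowers b⟩), one_mul b⟩, ?_, ?_⟩
  · rw [← Nat.card_congr (MonoidHom.ofInjective hf).toEquiv, Nat.card_prod, Nat.card_zpowers, Nat.card_zpowers, ha, hb]
  · rintro _ ⟨u, rfl⟩ _ ⟨v, rfl⟩
    have h1 : u * v = v * u := by
      obtain ⟨⟨_, i, rfl⟩, ⟨_, j, rfl⟩⟩ := u
      obtain ⟨⟨_, k, rfl⟩, ⟨_, l, rfl⟩⟩ := v
      refine Prod.ext (Subtype.ext ?_) (Subtype.ext ?_)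
      · change a ^ i * a ^ k = a ^ k * a ^ i
        rw [← zpow_add, ← zpow_add, add_comm]
      · change b ^ j * b ^ l = b ^ l * b ^ j
        rw [← zpow_add, ← zpow_add, add_comm]
    rw [← map_mul, h1, map_mul]

/-- **`125` divides `|C(x)|`** -/
theorem dvd_card (FT : ∀ (K : Type) [Group K] [Finite K], Odd (Nat.card K) → Group.IsSolvable K) {x : PP}
    (hx : orderOf x = 5) (h : ρ x = φA c5) : 5 ^ 3 ∣ Nat.card ↥(centralizer ({(x : G)} : Set G)) := by
  have hp : Fact (Nat.Prime 5) := ⟨Nat.prime_five⟩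
  obtain ⟨b, hbx, hb5, hb⟩ := exists_b hx h
  have hb0 : orderOf b = 5 := order_of_ρ hb5 (by
    rw [hb]
    intro h1
    exact c5_ne (φB_inj (by rw [h1, map_one])))
  have hbx' : (b : G) * x = x * b := congrArg Subtype.val hbx
  have hxo : orderOf (x : G) = 5 := by rw [Subgroup.orderOf_coe, hx]
  have hbo : orderOf (b : G) = 5 := by rw [Subgroup.orderOf_coe, hb0]
  obtain ⟨E, hxE, hbE, hE, hcomm⟩ := exists_E hbx'.symm hxo hbo (by
    intro h1
    obtain ⟨i, hi⟩ := mem_zpowers_iff.1 h1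
    have h2 : b ^ i = x := Subtype.ext (by rw [Subgroup.coe_zpow]; exact hi)
    have h3 : ρ x = φB (c5 ^ i) := by rw [← h2, map_zpow, hb, ← map_zpow]
    have h4 : φ2 (c5, 1) = φ2 (1, c5 ^ i) := by
      rw [φ2_apply, φ2_apply, map_one, map_one, one_mul, mul_one, ← h, h3]
    exact c5_ne (φ2_inj h4).1)
  obtain ⟨S, hES, g, hgS, hgE, hgN⟩ := exists_norm (G := G) (p := 5) (E := E) (k := 2) (by rw [hE]; norm_num) (by
    rw [Classes.card_HN]
    norm_num)
  obtain ⟨n, hn⟩ := S.isPGroup' ⟨g, hgS⟩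
  have hgn : g ^ 5 ^ n = 1 := congrArg Subtype.val hn
  by_cases hgx : g * x = x * g
  · -- `⟨E, g⟩ ≤ C(x)`
    have h1 : E ⊔ zpowers g ≤ centralizer ({(x : G)} : Set G) := by
      rw [sup_le_iff, zpowers_le]
      refine ⟨fun y hy => mem_centralizer_singleton_iff.2 (hcomm y hy x hxE), mem_centralizer_singleton_iff.2 hgx⟩
    have h2 : IsPGroup 5 ↥(E ⊔ zpowers g) := S.isPGroup'.to_le (sup_le hES (zpowers_le.2 hgS))
    obtain ⟨m, hm⟩ := IsPGroup.iff_card.1 h2
    have h3 : E ≠ E ⊔ zpowers g := by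
      intro h3
      apply hgE
      rw [h3]
      exact mem_sup_right (mem_zpowers g)
    have h4 : 25 ∣ 5 ^ m := by
      rw [← hE, ← hm]
      exact card_dvd_of_le le_sup_left
    have h5 : 3 ≤ m := by
      by_contra hlt
      apply h3
      apply eq_of_le_of_card_ge le_sup_left
      rw [hE, hm]
      have : m ≤ 2 := by omega
      calc 5 ^ m ≤ 5 ^ 2 := Nat.pow_le_pow_right (by norm_num) this
        _ = 25 := by norm_num
    refine dvd_trans ?_ (card_dvd_of_le h1)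
    rw [hm]
    exact Nat.pow_dvd_pow 5 h5
  · exfalso
    -- a solvable centraliser conjugate to `C(x)`
    have key : ∀ y : G, y ∈ E → g * y ≠ y * g → ¬ Group.IsSolvable ↥(centralizer ({y} : Set G)) := by
      intro y hy hgy hs
      obtain ⟨k, i, hi, rfl⟩ := transvection hcomm hE hgn hgN hxE hgx hy hgy
      have h1 : (x : G) ^ i = (x : G) ^ (i % 5) := by
        rw [← hxo, pow_mod_orderOf]
      have h2 : 1 ≤ i % 5 := by omega
      have h3 : i % 5 < 5 := Nat.mod_lt _ (by norm_num)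
      rw [h1] at hs
      obtain ⟨e⟩ := cequiv_pow hxo h2 h3 (g := g ^ k) rfl
      exact not_solvable hx h (Group.isSolvable_of_surjective (f := e.symm.toMonoidHom) e.symm.surjective)
    have h2 : g * ((x * b ^ 2 : PP) : G) = ((x * b ^ 2 : PP) : G) * g := by
      by_contra hne
      exact key _ (E.mul_mem hxE (E.pow_mem hbE 2)) hne (solvable_two FT hx h hbx hb5 hb)
    have h3 : g * ((x * b ^ 3 : PP) : G) = ((x * b ^ 3 : PP) : G) * g := by
      by_contra hne
      exact key _ (E.mul_mem hxE (E.pow_mem hbE 3)) hne (solvable_three' FT hx h hbx hb5 hb)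
    have hC2 : ((x : G) * (b : G) ^ 2) ∈ centralizer ({g} : Set G) := mem_centralizer_singleton_iff.2 h2.symm
    have hC3 : ((x : G) * (b : G) ^ 3) ∈ centralizer ({g} : Set G) := mem_centralizer_singleton_iff.2 h3.symm
    have hCb : (b : G) ∈ centralizer ({g} : Set G) := by
      have h4 := mul_mem (inv_mem hC2) hC3
      have h5 : ((x : G) * (b : G) ^ 2)⁻¹ * ((x : G) * (b : G) ^ 3) = b := by group
      rwa [h5] at h4
    have hCx : (x : G) ∈ centralizer ({g} : Set G) := by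
      have h4 := mul_mem hC2 (inv_mem (pow_mem hCb 2))
      have h5 : (x : G) * (b : G) ^ 2 * ((b : G) ^ 2)⁻¹ = x := by group
      rwa [h5] at h4
    exact hgx (mem_centralizer_singleton_iff.1 hCx).symm

/-- **The elements of type I.** -/
theorem noComp_one (FT : ∀ (K : Type) [Group K] [Finite K], Odd (Nat.card K) → Group.IsSolvable K)
    (h204 : ∀ (K : Type) [Group K] [Finite K] [IsSimpleGroup K], ¬ IsCyclic K → ∃ E : Subgroup K, IsKleinFour E)
    {x : PP} (hx : orderOf x = 5) (h : ρ x = φA c5) : NoComp 5 ↥(centralizer ({(x : G)} : Set G)) := by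
  have hone : CpAutHN.RankOne.One ↥(centralizer ({(x : G)} : Set G)) := (type_one h204 hx h).1
  have hs := not_mem_core Nat.prime_five hone (order_sx x) (dvd_card FT hx h) (by
    intro h1
    have h2 : Nat.card ↥(centralizer ({sx x} : Set ↥(centralizer ({(x : G)} : Set G)))) ∣ Nat.card ↥PP :=
      card_dvd_of_injective (toPP x) (toPP_inj x)
    rw [card_PP] at h2
    have h3 := h1.trans h2
    norm_num at h3)
  intro J hJ
  exact CpAutHN.RankOne.no_comp FT Nat.prime_five (by norm_num) hone (order_sx x) hs J hJ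

end Cfsg.Agent.BpSpor.HNFive

end

-- merged: Cfsg.Agent.BpSpor.HNFiveQD
section

/-!
# S1332: HN, `p = 5`: the class 5A (helper42)

`good_two` : `Good 5 C(ψ w2)`. All involutions `t` of the subgroup `A7` of `H = C(ψ w2)` are conjugate to `ψ τ`,
`|C_H(t)| = 1200`, so `|O_{5'}(H)|` divides 27.
-/

set_option autoImplicit false

namespace Cfsg.Agent.BpSpor.HNFive

open Cfsg.Agent.HN.Pres Cfsg.Agent.HN.H0Basic
open Cfsg.Agent.HN.P1408 hiding ψ
open Cfsg.Agent.HN.NormalH (ψ)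
open Cfsg Cfsg.Agent
open Cfsg.Agent.KFacts.HN
open Cfsg.Agent.CpAutHN.Alt
open Cfsg.Agent.CpAutHN.Pairs (instSimple tt order_tt comm_of)
open Cfsg.Agent.CpAutHNFive Cfsg.Agent.CpAutHNFive.TFive Cfsg.Agent.CpAutHNFive.HTab
open Cfsg.Agent.CpAutHNFive.HFacts Cfsg.Agent.CpAutHNFive.TauFive Cfsg.Agent.CpAutHNFive.QD
open Cfsg.Agent.CpAutHNFive.Main
open Subgroup

theorem card_dvd_of_odd {n : ℕ} (h : n ∣ 1200) (h2 : Nat.Coprime n 2) (h5 : Nat.Coprime n 5) : n ∣ 3 := by
  have h1 : Nat.Coprime n (2 ^ 4 * 5 ^ 2) := Nat.Coprime.mul_right (h2.pow_right 4) (h5.pow_right 2)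
  rw [show (1200 : ℕ) = 3 * (2 ^ 4 * 5 ^ 2) by norm_num] at h
  exact h1.dvd_of_dvd_mul_right h

/-- `|C(ψ w2) ∩ C(ψ τ)| = 1200` -/
theorem card_tz : Nat.card ↥(centralizer ({tz (hw w2)} : Set ↥(centralizer ({ψ (hw w2)} : Set G)))) = 1200 := by
  have := finite_H0
  have h0 : Nat.card ↥(centralizer ({tz (hw w2)} : Set ↥(centralizer ({ψ (hw w2)} : Set G)))) =
      Nat.card ↥(centralizer ({hw w2} : Set H0)) := (Nat.card_congr (equiv_C (hw w2)).toEquiv).symm
  have he : hw we ∈ centralizer ({hw w2} : Set H0) := mem_centralizer_singleton_iff.2 e_comm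
  have hw' : hw w2 ∈ centralizer ({hw w2} : Set H0) := mem_centralizer_singleton_iff.2 rfl
  have ht : hw wt ∈ centralizer ({hw w2} : Set H0) := mem_centralizer_singleton_iff.2 t_comm
  have h25 : 25 ∣ Nat.card ↥(centralizer ({hw w2} : Set H0)) := by
    have h1 := mul_order_dvd (C := ↥(centralizer ({hw w2} : Set H0))) (a := ⟨hw we, he⟩) (b := ⟨hw w2, hw'⟩)
      (Subtype.ext e_comm) (inf_eq_bot_of_prime Nat.prime_five (by rw [← Subgroup.orderOf_coe]; exact order_e) (by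
        intro h
        apply e_not_mem
        obtain ⟨k, hk⟩ := mem_zpowers_iff.1 h
        exact mem_zpowers_iff.2 ⟨k, congrArg Subtype.val hk⟩))
    rw [← Subgroup.orderOf_coe, ← Subgroup.orderOf_coe] at h1
    change orderOf (hw we) * orderOf (hw w2) ∣ _ at h1
    rwa [order_e, order_w2] at h1
  have h3 : 3 ∣ Nat.card ↥(centralizer ({hw w2} : Set H0)) := by
    have h1 : orderOf (⟨hw wt, ht⟩ : ↥(centralizer ({hw w2} : Set H0))) ∣ _ := _root_.orderOf_dvd_natCard _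
    rw [← Subgroup.orderOf_coe] at h1
    change orderOf (hw wt) ∣ _ at h1
    rwa [order_t] at h1
  have h16 : 16 ∣ Nat.card ↥(centralizer ({hw w2} : Set H0)) := by
    rw [← h0, ← qdat.card]
    apply card_dvd_of_le
    have h4 : el (hw wg) g_comm ^ 4 = tz (hw w2) := by
      apply Subtype.ext
      change (ψ (hw wg)) ^ 4 = ψ τ
      rw [← map_pow, g_four]
    rw [closure_le, ← h4]
    rintro x (rfl | rfl)
    · exact mem_centralizer_singleton_iff.2 (by rw [← pow_succ, ← pow_succ'])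
    · apply mem_centralizer_singleton_iff.2
      rw [qdat.comm 4]
      congr 1
      calc el (hw wg) g_comm ^ (3 * 4) = el (hw wg) g_comm ^ 8 * el (hw wg) g_comm ^ 4 := by rw [← pow_add]
        _ = el (hw wg) g_comm ^ 4 := by rw [qdat.g8, one_mul]
  have h1200 : 16 * 75 ∣ Nat.card ↥(centralizer ({hw w2} : Set H0)) :=
    Nat.Coprime.mul_dvd_of_dvd_of_dvd (by norm_num) h16
      (Nat.Coprime.mul_dvd_of_dvd_of_dvd (m := 3) (n := 25) (by norm_num) h3 h25)
  have hle := HCert.card_le_two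
  have hpos : 0 < Nat.card ↥(centralizer ({hw w2} : Set H0)) := Nat.card_pos
  have := Nat.le_of_dvd hpos h1200
  rw [h0]
  (clear * - h1200 hle hpos; omega)

/-- `(1 2 3)` in `A7` -/
def c7 : alternatingGroup (Fin 7) := ⟨([1, 2, 3] : List (Fin 7)).formPerm, by
  rw [Equiv.Perm.mem_alternatingGroup]; decide +kernel⟩

theorem c7_u : c7 * u7 * c7⁻¹ = v7 := by
  apply Subtype.ext
  change ([1, 2, 3] : List (Fin 7)).formPerm * (([0, 1] : List (Fin 7)).formPerm * ([2, 3] : List (Fin 7)).formPerm) *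
    (([1, 2, 3] : List (Fin 7)).formPerm)⁻¹ = ([0, 2] : List (Fin 7)).formPerm * ([1, 3] : List (Fin 7)).formPerm
  decide +kernel

theorem c7_v : c7 * v7 * c7⁻¹ = u7 * v7 := by
  apply Subtype.ext
  change ([1, 2, 3] : List (Fin 7)).formPerm * (([0, 2] : List (Fin 7)).formPerm * ([1, 3] : List (Fin 7)).formPerm) *
    (([1, 2, 3] : List (Fin 7)).formPerm)⁻¹ =
      ([0, 1] : List (Fin 7)).formPerm * ([2, 3] : List (Fin 7)).formPerm *
        (([0, 2] : List (Fin 7)).formPerm * ([1, 3] : List (Fin 7)).formPerm)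
  decide +kernel

theorem noAct_27 : Arith.NoAct 5 27 := by
  intro q m hq hq5 hm hd h5
  have h0 : q ∣ q ^ m := dvd_pow_self q (by omega)
  have h1 : q ∣ 3 ^ 3 := h0.trans hd
  have hq3 : q = 3 := (Nat.prime_dvd_prime_iff_eq hq Nat.prime_three).1 (hq.dvd_of_dvd_pow h1)
  subst hq3
  have h2 : m ≤ 3 := (Nat.pow_dvd_pow_iff_le_right (x := 3) (by norm_num)).1 hd
  interval_cases m <;> revert h5 <;> norm_num

section Abs

universe u

variable {H : Type u} [Group H] [Finite H]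

omit [Finite H] in
theorem card_conj {z t : H} (h : IsConj z t) :
    Nat.card ↥(centralizer ({t} : Set H)) = Nat.card ↥(centralizer ({z} : Set H)) := by
  obtain ⟨c, rfl⟩ := isConj_iff.1 h
  rw [← map_centralizer]
  exact card_map_of_injective (MulAut.conj c).injective

/-- a four-group whose involutions are conjugate to `z`, `|C(z)| = 1200`, `|O_{5'}(H)|` odd -/
theorem good_of_four (hodd : Odd (Nat.card ↥(pPrimeCore 5 H))) {z u v c : H}
    (hz : Nat.card ↥(centralizer ({z} : Set H)) = 1200) (ou : u * u = 1) (ov : v * v = 1) (huv : u * v = v * u)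
    (cu : c * u * c⁻¹ = v) (cv : c * v * c⁻¹ = u * v) (hzu : IsConj z u ∨ IsConj z v ∨ IsConj z (u * v)) :
    BpTab.Good 5 H := by
  have hp5 : Fact (Nat.Prime 5) := ⟨Nat.prime_five⟩
  have hn := Lib.Cores.pPrimeCore_normal (G := H) 5
  have hcop := Lib.Cores.pPrimeCore_coprime (G := H) 5
  have i1 : IsConj u v := isConj_iff.2 ⟨_, cu⟩
  have i2 : IsConj v (u * v) := isConj_iff.2 ⟨_, cv⟩
  have hcu : IsConj z u := by
    rcases hzu with h | h | h
    · exact h
    · exact h.trans i1.symm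
    · exact h.trans (i1.trans i2).symm
  have key : ∀ t : H, IsConj z t → Nat.card ↥(pPrimeCore 5 H ⊓ centralizer ({t} : Set H)) ∣ 3 := by
    intro t ht
    apply card_dvd_of_odd
    · rw [← hz, ← card_conj ht]
      exact card_dvd_of_le inf_le_right
    · exact Nat.coprime_two_right.2 (hodd.of_dvd_nat (card_dvd_of_le inf_le_left))
    · exact hcop.coprime_dvd_left (card_dvd_of_le inf_le_left)
  have hK := Lib.KleinOrder.card_klein (pPrimeCore 5 H) hodd ou ov huv (fun k hk => hn.conj_mem k hk _)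
    (fun k hk => hn.conj_mem k hk _)
  refine Arith.good_of_arith (noAct_27.of_dvd ?_)
  refine (Dvd.intro _ hK).trans ?_
  exact mul_dvd_mul (mul_dvd_mul (key _ hcu) (key _ (hcu.trans i1))) (key _ ((hcu.trans i1).trans i2))

/-- `A7 ≤ H`, quasi-dihedral Sylow 2-subgroups, `|C(g ^ 4)| = 1200` -/
theorem good_abs (f : alternatingGroup (Fin 7) →* H) (hf : Function.Injective f) {g h : H} (D : QDat g h)
    (h32 : ¬ 32 ∣ Nat.card H) (hc : Nat.card ↥(centralizer ({g ^ 4} : Set H)) = 1200)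
    (hodd : Odd (Nat.card ↥(pPrimeCore 5 H))) : BpTab.Good 5 H := by
  have ou : orderOf (f u7) = 2 := by rw [orderOf_injective f hf, order_u7]
  have ov : orderOf (f v7) = 2 := by rw [orderOf_injective f hf, order_v7]
  have huv : f u7 * f v7 = f v7 * f u7 := by rw [← map_mul, ← map_mul, uv7]
  have hne : f u7 ≠ f v7 := fun h => ne7 (hf h)
  have cu : f c7 * f u7 * (f c7)⁻¹ = f v7 := by rw [← map_inv, ← map_mul, ← map_mul, c7_u]
  have cv : f c7 * f v7 * (f c7)⁻¹ = f u7 * f v7 := by rw [← map_inv, ← map_mul, ← map_mul, c7_v, map_mul]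
  obtain ⟨x, hx⟩ := exists_mem D h32 ou ov huv hne
  refine good_of_four hodd hc (_root_.Cfsg.Agent.CpAutHNFive.QD.sq_of_order ou) (_root_.Cfsg.Agent.CpAutHNFive.QD.sq_of_order ov) huv cu cv ?_
  rcases hx with hx | hx | hx
  · exact Or.inl (isConj_iff.2 ⟨x, hx⟩)
  · exact Or.inr (Or.inl (isConj_iff.2 ⟨x, hx⟩))
  · exact Or.inr (Or.inr (isConj_iff.2 ⟨x, hx⟩))

end Abs

/-- **The class 5A.** -/
theorem good_two (FT : ∀ (K : Type) [Group K] [Finite K], Odd (Nat.card K) → Group.IsSolvable K)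
    (h204 : ∀ (K : Type) [Group K] [Finite K] [IsSimpleGroup K], ¬ IsCyclic K → ∃ E : Subgroup K, IsKleinFour E) :
    BpTab.Good 5 ↥(centralizer ({ψ (hw w2)} : Set G)) := by
  obtain ⟨e⟩ := (main_cases FT h204 order_X5 order_tt tt_comm).resolve_left not_good
  obtain ⟨g', h', w', J', u', v', X⟩ := exists_dat FT h204
  have h4 : el (hw wg) g_comm ^ 4 = tz (hw w2) := by
    apply Subtype.ext
    change (ψ (hw wg)) ^ 4 = ψ τ
    rw [← map_pow, g_four]
  have hc := card_tz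
  rw [← h4] at hc
  exact good_abs (e.toMonoidHom.comp jj) (e.injective.comp jj_inj) qdat not32 hc X.odd_core

end Cfsg.Agent.BpSpor.HNFive

end
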